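import Mathlib

set_option autoImplicit false
set_option linter.all false

/-! The additive bijection of a section induced by a normalizing element; linear algebra. -/

namespace H88.BZ

open Subgroup
open scoped MatrixGroups

theorem exists_x {G : Type*} [Group G] {V : Type*} [AddCommGroup V] [Finite V] {U U0 : Subgroup G}
    (hle : U0 ≤ U) (ψ : ↥U →* Multiplicative V) (sur : Function.Surjective ψ)
    (ker : ∀ u : ↥U, ψ u = 1 ↔ (u : G) ∈ U0) {b : G} (hbU : b ∈ normalizer (U : Set G))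
    (hbU0 : b ∈ normalizer (U0 : Set G)) :
    ∃ x : V ≃+ V, ∀ u u' : ↥U, (u' : G) = b * u * b⁻¹ →
      Multiplicative.toAdd (ψ u') = x (Multiplicative.toAdd (ψ u)) := by
  have hconj : ∀ u : ↥U, b * (u : G) * b⁻¹ ∈ U := fun u => (mem_normalizer_iff.1 hbU u).1 u.2
  have key : ∀ u v u' v' : ↥U, (u' : G) = b * u * b⁻¹ → (v' : G) = b * v * b⁻¹ → ψ u = ψ v → ψ u' = ψ v' := by
    intro u v u' v' h1 h2 h
    have h3 : ψ (v⁻¹ * u) = 1 := by rw [map_mul, map_inv, h, inv_mul_cancel]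
    have h4 : ((v⁻¹ * u : ↥U) : G) ∈ U0 := (ker _).1 h3
    have h5 : ((v'⁻¹ * u' : ↥U) : G) ∈ U0 := by
      have h6 := (mem_normalizer_iff.1 hbU0 _).1 h4
      have h7 : ((v'⁻¹ * u' : ↥U) : G) = b * ((v⁻¹ * u : ↥U) : G) * b⁻¹ := by
        push_cast
        rw [h1, h2]; group
      rw [h7]; exact h6
    have h8 : ψ (v'⁻¹ * u') = 1 := (ker _).2 h5
    rw [map_mul, map_inv] at h8
    exact (inv_mul_eq_one.1 h8).symm
  choose s hs using fun v : V => sur (Multiplicative.ofAdd v)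
  let f : V → V := fun v => Multiplicative.toAdd (ψ ⟨b * (s v : G) * b⁻¹, hconj (s v)⟩)
  have hf : ∀ u u' : ↥U, (u' : G) = b * u * b⁻¹ → Multiplicative.toAdd (ψ u') = f (Multiplicative.toAdd (ψ u)) := by
    intro u u' h
    show Multiplicative.toAdd (ψ u') = Multiplicative.toAdd (ψ ⟨b * (s _ : G) * b⁻¹, _⟩)
    rw [key u (s (Multiplicative.toAdd (ψ u))) u' ⟨b * (s (Multiplicative.toAdd (ψ u)) : G) * b⁻¹, hconj _⟩ h rfl
      (by rw [hs]; rfl)]
  have hadd : ∀ v w : V, f (v + w) = f v + f w := by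
    intro v w
    have h1 := hf (s v * s w) (⟨b * (s v : G) * b⁻¹, hconj (s v)⟩ * ⟨b * (s w : G) * b⁻¹, hconj (s w)⟩)
      (by push_cast; group)
    have h2 : ψ (s v * s w) = Multiplicative.ofAdd (v + w) := by rw [map_mul, hs, hs]; rfl
    rw [h2, map_mul ψ] at h1
    exact h1.symm
  have hinj : Function.Injective f := by
    let F0 : V →+ V := AddMonoidHom.mk' f hadd
    show Function.Injective F0
    rw [injective_iff_map_eq_zero]
    intro v hv
    have h1 : ψ ⟨b * (s v : G) * b⁻¹, hconj (s v)⟩ = 1 := hv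
    have h2 := (ker _).1 h1
    have h3 : (s v : G) ∈ U0 := (mem_normalizer_iff.1 hbU0 _).2 h2
    have h4 := (ker (s v)).2 h3
    rw [hs] at h4
    exact h4
  exact ⟨AddEquiv.ofBijective (AddMonoidHom.mk' f hadd) ⟨hinj, Finite.surjective_of_injective hinj⟩, hf⟩

theorem lin_det {F : Type*} [Field F] [Fintype F] {p n : ℕ} [Fact p.Prime] (hF : Fintype.card F = p ^ n)
    (x : (Fin 2 → F) ≃+ (Fin 2 → F)) (hx : ∀ (l : F) v, x (l • v) = l • x v) {k : ℕ}
    (hk : ∀ v, (x^[p ^ k]) v = v) :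
    ∃ g : SL(2, F), ∀ v, x v = (g : Matrix (Fin 2) (Fin 2) F).mulVec v := by
  let L : (Fin 2 → F) →ₗ[F] (Fin 2 → F) := { toFun := x, map_add' := x.map_add, map_smul' := hx }
  have hL : ∀ m v, (L ^ m) v = (x^[m]) v := by
    intro m
    induction m with
    | zero => intro v; rfl
    | succ m ih =>
      intro v
      rw [pow_succ, Module.End.mul_apply, ih, Function.iterate_succ_apply]
      rfl
  have h1 : L ^ (p ^ k) = 1 := by
    apply LinearMap.ext
    intro v
    rw [hL, hk]; rfl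
  have hch : CharP F p := by
    obtain ⟨q, hq⟩ := CharP.exists F
    obtain ⟨m, hqp, hc⟩ := FiniteField.card F q
    have h2 : p ∣ q ^ (m : ℕ) := by
      rw [← hc, hF]
      apply dvd_pow_self
      rintro rfl
      have := Fintype.one_lt_card (α := F)
      rw [hF, pow_zero] at this
      omega
    have h3 := (Nat.prime_dvd_prime_iff_eq (Fact.out : p.Prime) hqp).1 ((Fact.out : p.Prime).dvd_of_dvd_pow h2)
    subst h3
    exact hq
  have h2 : LinearMap.det L ^ (p ^ k) = 1 := by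
    rw [← map_pow, h1, map_one]
  have h3 : LinearMap.det L = 1 := by
    have h4 : (LinearMap.det L - 1) ^ (p ^ k) = 0 := by
      rw [sub_pow_char_pow, h2, one_pow, sub_self]
    exact sub_eq_zero.1 (pow_eq_zero_iff (pow_ne_zero _ (Fact.out : p.Prime).ne_zero) |>.1 h4)
  refine ⟨⟨LinearMap.toMatrix' L, by rw [LinearMap.det_toMatrix', h3]⟩, fun v => ?_⟩
  show L v = (LinearMap.toMatrix' L).mulVec v
  rw [← Matrix.toLin'_apply, Matrix.toLin'_toMatrix']

end H88.BZ
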