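import Mathlib
import Cfsg.Agent.Lib.H56.BZ0
import Cfsg.Agent.Lib.H88.BZL1a

set_option autoImplicit false
set_option linter.all false

/-! S2987 piece L1: `B(T) ≤ E C(W)` in the linear case. -/

namespace H88.BZ

open Subgroup Cfsg H51.FF H51.OG H52.PRes H52.PCore H51.Bau H1.Coprime2 H56.BmP H56.BmQ H56.BmV
open scoped commutatorElement MatrixGroups

variable {G : Type*} [Group G] [Finite G] {p : ℕ} [hp : Fact p.Prime]
variable {T : Sylow p G} {E : Subgroup G}

/-- elements of `W` centralizing `J(T)` are centralized by `B(T)` -/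
theorem bau_comm (hG : centralizer (pCore p G : Set G) ≤ pCore p G) (hE : IsBaumannBlock p (T : Subgroup G) E)
    {w : G} (hw : w ∈ WB p E) (hc : w ∈ centralizer (thompsonSubgroupOf p (T : Subgroup G) : Set G))
    {b : G} (hb : b ∈ baumannSubgroupOf p (T : Subgroup G)) : b * w * b⁻¹ = w := by
  have hWV := block_le hG hE
  have hVe : IsElementaryAbelian p (omegaOneCenter p (pCore p G)) := H13.Omega.isElementaryAbelian_omegaZ _
  have hWT : WB p E ≤ (T : Subgroup G) := (hWV.trans (H13.Omega.omegaZ_le _)).trans (H13.Cores.pCore_le_sylow T)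
  have hwJ : w ∈ thompsonSubgroupOf p (T : Subgroup G) := by
    have h4 : (⟨w, hWT hw⟩ : (T : Subgroup G)) ∈ thompsonSubgroup p (T : Subgroup G) := by
      apply H13.Thompson.mem_thompson_of_centralizes
      · rw [mem_centralizer_iff]
        intro y hy
        apply Subtype.ext
        exact mem_centralizer_iff.1 hc y ⟨y, hy, rfl⟩
      · exact Subtype.ext (hVe.2 w (hWV hw))
    exact ⟨_, h4, rfl⟩
  have hwZ : Subgroup.zpowers w ≤ omegaOne p (centerThompsonOf p (T : Subgroup G)) := by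
    apply H13.Omega.le_omegaOne
    · rw [Subgroup.zpowers_le]
      exact ⟨hwJ, hc⟩
    · rintro x ⟨k, rfl⟩
      show (w ^ k) ^ p = 1
      rw [← zpow_natCast, ← zpow_mul, mul_comm, zpow_mul, zpow_natCast, hVe.2 w (hWV hw), one_zpow]
  have h5 := mem_centralizer_iff.1 (bau_le_centralizer _ hb) w (hwZ (Subgroup.mem_zpowers w))
  rw [← h5, mul_inv_cancel_right]

/-- the linear case, from `lin_base` (L0) and `sls` -/
theorem lin_HP_of {F : Type} [Field F] [Fintype F] {n : ℕ} (hF : Fintype.card F = p ^ n) (h4 : 4 ≤ Fintype.card F)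
    (hG : centralizer (pCore p G : Set G) ≤ pCore p G) (hE : IsBaumannBlock p (T : Subgroup G) E)
    (hsls : ∀ x : (Fin 2 → F) ≃+ (Fin 2 → F),
      (∀ g : SL(2, F), ∃ g' : SL(2, F), ∀ v, x ((g : Matrix (Fin 2) (Fin 2) F).mulVec v) =
        (g' : Matrix (Fin 2) (Fin 2) F).mulVec (x v)) →
      ∃ σ : F ≃+* F, ∀ (l : F) v, x (l • v) = σ l • x v)
    (h0 : ∃ (ρ : ↥E →* SL(2, F)) (ψ : ↥(omegaOneCenter p (pCoreOf p E)) →* Multiplicative (Fin 2 → F))
      (v₀ : Fin 2 → F), Crd F E (omegaOneCenter p (pCoreOf p E))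
        (omegaOneCenter p (pCoreOf p E) ⊓ centralizer (E : Set G)) ρ ψ ∧ v₀ ≠ 0 ∧
      (∀ w (hw : w ∈ omegaOneCenter p (pCoreOf p E)), w ∈ WB p E →
        ((w ∈ centralizer (thompsonSubgroupOf p (T : Subgroup G) : Set G)) ↔
          ∃ l : F, Multiplicative.toAdd (ψ ⟨w, hw⟩) = l • v₀))) :
    baumannSubgroupOf p (T : Subgroup G) ≤ E ⊔ centralizer (WB p E : Set G) := by
  obtain ⟨ρ, ψ, v₀, c, hv0, hiff⟩ := h0
  intro b hb
  have htop := H52.BB.comm_top4 h4
  have hρ : Function.Surjective ρ := by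
    rw [← MonoidHom.range_eq_top, c.rng, htop]
  have hbE : b ∈ normalizer (E : Set G) := le_nz_of_comm hE.2.1 hb
  have hbU : b ∈ normalizer (omegaOneCenter p (pCoreOf p E) : Set G) := nz_omegaOneCenter hbE
  have hbC : b ∈ normalizer (centralizer (E : Set G) : Set G) :=
    le_normalizer_centralizer (le_refl (normalizer (E : Set G))) hbE
  have hbU0 : b ∈ normalizer ((omegaOneCenter p (pCoreOf p E) ⊓ centralizer (E : Set G) : Subgroup G) : Set G) := by
    rw [mem_normalizer_iff]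
    intro g
    rw [Subgroup.mem_inf, Subgroup.mem_inf, mem_normalizer_iff.1 hbU g, mem_normalizer_iff.1 hbC g]
  obtain ⟨x, hx⟩ := exists_x c.le ψ c.sur c.ker hbU hbU0
  have hconj : ∀ {g : G}, g ∈ normalizer (omegaOneCenter p (pCoreOf p E) : Set G) →
      ∀ u : ↥(omegaOneCenter p (pCoreOf p E)), g * (u : G) * g⁻¹ ∈ omegaOneCenter p (pCoreOf p E) :=
    fun hg u => (mem_normalizer_iff.1 hg u).1 u.2
  -- semilinearity
  have hnz : ∀ g : SL(2, F), ∃ g' : SL(2, F), ∀ v, x ((g : Matrix (Fin 2) (Fin 2) F).mulVec v) =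
        (g' : Matrix (Fin 2) (Fin 2) F).mulVec (x v) := by
    intro g
    obtain ⟨e, rfl⟩ := hρ g
    have he' : b * (e : G) * b⁻¹ ∈ E := (mem_normalizer_iff.1 hbE e).1 e.2
    refine ⟨ρ ⟨_, he'⟩, fun v => ?_⟩
    obtain ⟨u, hu⟩ := c.sur (Multiplicative.ofAdd v)
    obtain ⟨w, hw1, hw2⟩ := c.act e u
    have h1 := hx w ⟨b * (w : G) * b⁻¹, hconj hbU w⟩ rfl
    obtain ⟨w', hw1', hw2'⟩ := c.act ⟨_, he'⟩ ⟨b * (u : G) * b⁻¹, hconj hbU u⟩
    have h2 := hx u ⟨b * (u : G) * b⁻¹, hconj hbU u⟩ rfl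
    have h3 : (⟨b * (w : G) * b⁻¹, hconj hbU w⟩ : ↥(omegaOneCenter p (pCoreOf p E))) = w' := by
      apply Subtype.ext
      rw [hw1']
      show b * (w : G) * b⁻¹ = _
      rw [hw1]
      simp only
      group
    rw [hu] at hw2
    have hv : v = Multiplicative.toAdd (ψ u) := by rw [hu]; rfl
    rw [hw2] at h1
    rw [h3, hw2', h2, hu] at h1
    exact h1.symm
  obtain ⟨σ, hσ⟩ := hsls x hnz
  -- `x` fixes `F v₀`
  have hfix : ∀ l : F, x (l • v₀) = l • v₀ := by
    intro l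
    obtain ⟨u, hu⟩ := c.sur (Multiplicative.ofAdd (l • v₀))
    obtain ⟨a, ha, z, hz, huz⟩ := H52.BB.Wdec hE u.2
    have haU : a ∈ omegaOneCenter p (pCoreOf p E) :=
      commutator_le_left (Subgroup.le_normalizer.trans nz_omegaOneCenter) ha
    have hψa : ψ ⟨a, haU⟩ = ψ u := by
      symm
      rw [c.eq_iff]
      exact ⟨z, hz, huz⟩
    have ha0 : a ∈ centralizer (thompsonSubgroupOf p (T : Subgroup G) : Set G) :=
      (hiff a haU ha).2 ⟨l, by rw [hψa, hu]; rfl⟩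
    have h1 := hx ⟨a, haU⟩ ⟨a, haU⟩ (bau_comm hG hE ha ha0 hb).symm
    rw [hψa, hu] at h1
    exact h1.symm
  have hx0 : x v₀ = v₀ := by simpa using hfix 1
  have hσ1 : ∀ l : F, σ l = l := by
    intro l
    have h1 := hσ l v₀
    rw [hfix, hx0] at h1
    by_contra hne
    have h2 : (σ l - l) • v₀ = 0 := by rw [sub_smul, ← h1, sub_self]
    rcases smul_eq_zero.1 h2 with h3 | h3
    · exact hne (sub_eq_zero.1 h3)
    · exact hv0 h3
  have hlin : ∀ (l : F) v, x (l • v) = l • x v := fun l v => by rw [hσ, hσ1]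
  -- `x` has `p`-power order
  have hbT : b ∈ (T : Subgroup G) := bau_le _ hb
  obtain ⟨k, hk⟩ := T.2 ⟨b, hbT⟩
  have hk' : b ^ p ^ k = 1 := congrArg Subtype.val hk
  have hbm : ∀ m : ℕ, ∀ u : ↥(omegaOneCenter p (pCoreOf p E)),
      Multiplicative.toAdd (ψ ⟨b ^ m * (u : G) * (b ^ m)⁻¹, hconj (pow_mem hbU m) u⟩) =
        (x^[m]) (Multiplicative.toAdd (ψ u)) := by
    intro m
    induction m with
    | zero =>
      intro u
      have : (⟨b ^ 0 * (u : G) * (b ^ 0)⁻¹, hconj (pow_mem hbU 0) u⟩ : ↥(omegaOneCenter p (pCoreOf p E))) = u :=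
        Subtype.ext (by simp)
      rw [this]; rfl
    | succ m ih =>
      intro u
      rw [Function.iterate_succ_apply', ← ih u]
      exact hx _ _ (by show b ^ (m + 1) * (u : G) * (b ^ (m + 1))⁻¹ = b * (b ^ m * (u : G) * (b ^ m)⁻¹) * b⁻¹; rw [pow_succ']; group)
  have hit : ∀ v, (x^[p ^ k]) v = v := by
    intro v
    obtain ⟨u, hu⟩ := c.sur (Multiplicative.ofAdd v)
    have h1 := hbm (p ^ k) u
    have h2 : (⟨b ^ (p ^ k) * (u : G) * (b ^ (p ^ k))⁻¹, hconj (pow_mem hbU _) u⟩ : ↥(omegaOneCenter p (pCoreOf p E))) = u :=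
      Subtype.ext (by show b ^ (p ^ k) * (u : G) * (b ^ (p ^ k))⁻¹ = (u : G); rw [hk']; simp)
    rw [h2, hu] at h1
    exact h1.symm
  obtain ⟨g, hg⟩ := lin_det hF x hlin hit
  obtain ⟨e, rfl⟩ := hρ g
  have hcn : (e : G)⁻¹ * b ∈ normalizer (E : Set G) := mul_mem (inv_mem (Subgroup.le_normalizer e.2)) hbE
  have hcU : (e : G)⁻¹ * b ∈ normalizer (omegaOneCenter p (pCoreOf p E) : Set G) := nz_omegaOneCenter hcn
  have hts : (e : G)⁻¹ * b ∈ centralizer (WB p E : Set G) := by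
    apply H56.BZ.ts hG hE hcn
    intro w hw
    have hwU : w ∈ omegaOneCenter p (pCoreOf p E) :=
      commutator_le_left (Subgroup.le_normalizer.trans nz_omegaOneCenter) hw
    -- `e w' e⁻¹ = b w b⁻¹`
    set w' : ↥(omegaOneCenter p (pCoreOf p E)) := ⟨((e : G)⁻¹ * b) * w * ((e : G)⁻¹ * b)⁻¹, hconj hcU ⟨w, hwU⟩⟩ with hw'
    obtain ⟨y, hy1, hy2⟩ := c.act e w'
    have hy3 : (y : G) = b * w * b⁻¹ := by rw [hy1, hw']; simp only; group
    have h1 := hx ⟨w, hwU⟩ y hy3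
    rw [hg, hy2] at h1
    have h2 : Multiplicative.toAdd (ψ w') = Multiplicative.toAdd (ψ ⟨w, hwU⟩) := by
      have h3 : ((ρ e)⁻¹ : SL(2, F)) * ρ e = 1 := inv_mul_cancel _
      have h5 := congrArg (fun v => (((ρ e)⁻¹ : SL(2, F)) : Matrix (Fin 2) (Fin 2) F).mulVec v) h1
      simp only [Matrix.mulVec_mulVec, ← Matrix.SpecialLinearGroup.coe_mul, h3, Matrix.SpecialLinearGroup.coe_one,
        Matrix.one_mulVec] at h5
      exact h5
    have h6 : ψ (w' * ⟨w, hwU⟩⁻¹) = 1 := by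
      have h7 : ψ w' = ψ ⟨w, hwU⟩ := h2
      rw [map_mul, map_inv, h7, mul_inv_cancel]
    exact ((c.ker _).1 h6).2
  have hfin : b = (e : G) * ((e : G)⁻¹ * b) := by group
  rw [hfin]
  exact mul_mem (Subgroup.mem_sup_left e.2) (Subgroup.mem_sup_right hts)

end H88.BZ
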