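import Cfsg.Agent.Lib.H4.CA0

set_option autoImplicit false

namespace H88.CA4

open Subgroup H4.CA

universe u

theorem odd_lift {G Q : Type*} [Group G] [Finite G] [Group Q] (f : G →* Q)
    (hf : Function.Surjective f) (q : Q) (hq : Odd (orderOf q)) :
    ∃ u : G, f u = q ∧ Odd (orderOf u) := by
  obtain ⟨g, rfl⟩ := hf q
  obtain ⟨a, b, hb, hab⟩ := Nat.exists_eq_two_pow_mul_odd (orderOf_pos g).ne'
  have hcop : Nat.Coprime (2 ^ a) (orderOf (f g)) :=
    Nat.Coprime.pow_left a (Nat.coprime_two_left.2 hq)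
  have hm : 0 < orderOf (f g) := Odd.pos hq
  have ht : 0 < Nat.totient (orderOf (f g)) := Nat.totient_pos.2 hm
  refine ⟨g ^ ((2 ^ a) ^ (Nat.totient (orderOf (f g)))), ?_, ?_⟩
  · rw [map_pow]
    have h1 : (2 ^ a) ^ (Nat.totient (orderOf (f g))) ≡ 1 [MOD (orderOf (f g))] :=
      Nat.ModEq.pow_totient hcop
    have h2 : f g ^ ((2 ^ a) ^ (Nat.totient (orderOf (f g)))) = f g ^ 1 :=
      pow_eq_pow_iff_modEq.2 h1
    rw [h2, pow_one]
  · have h3 : (g ^ ((2 ^ a) ^ (Nat.totient (orderOf (f g))))) ^ b = 1 := by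
      rw [← pow_mul]
      apply orderOf_dvd_iff_pow_eq_one.1
      rw [hab]
      exact Nat.mul_dvd_mul (dvd_pow_self _ ht.ne') dvd_rfl
    exact Odd.of_dvd_nat hb (orderOf_dvd_of_pow_eq_one h3)

theorem comm_of_central {G : Type*} [Group G] (u p : G) (hu : Odd (orderOf u))
    (hp : ∃ k : ℕ, p ^ 2 ^ k = 1) (hz : p⁻¹ * (u * p * u⁻¹) ∈ center G) : Commute u p := by
  obtain ⟨j, hj⟩ := hp
  set z := p⁻¹ * (u * p * u⁻¹) with hzdef
  have hzc : ∀ g : G, g * z = z * g := fun g => (mem_center_iff.1 hz g)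
  have h1 : u * p * u⁻¹ = p * z := by rw [hzdef]; group
  have h2 : z ^ 2 ^ j = 1 := by
    have h3 : (u * p * u⁻¹) ^ 2 ^ j = 1 := by rw [conj_pow, hj]; simp
    rw [h1, (show Commute p z from hzc p).mul_pow, hj, one_mul] at h3
    exact h3
  have h4 : ∀ k : ℕ, u ^ k * p * (u ^ k)⁻¹ = p * z ^ k := by
    intro k
    induction k with
    | zero => simp
    | succ k ih =>
      have h5 : u ^ (k + 1) * p * (u ^ (k + 1))⁻¹ = u * (u ^ k * p * (u ^ k)⁻¹) * u⁻¹ := by
        rw [pow_succ']; group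
      have h6 : u * z ^ k = z ^ k * u := ((show Commute u z from hzc u).pow_right k).eq
      calc u ^ (k + 1) * p * (u ^ (k + 1))⁻¹ = u * (p * z ^ k) * u⁻¹ := by rw [h5, ih]
        _ = (u * p * u⁻¹) * z ^ k := by
            rw [show u * (p * z ^ k) * u⁻¹ = u * p * (z ^ k * u⁻¹) by group]
            have h7 : z ^ k * u⁻¹ = u⁻¹ * z ^ k := by
              have := h6
              calc z ^ k * u⁻¹ = u⁻¹ * (u * z ^ k) * u⁻¹ := by group
                _ = u⁻¹ * (z ^ k * u) * u⁻¹ := by rw [this]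
                _ = u⁻¹ * z ^ k := by group
            rw [h7]; group
        _ = p * z ^ (k + 1) := by rw [h1, pow_succ']; group
  have h8 : z ^ orderOf u = 1 := by
    have := h4 (orderOf u)
    rw [pow_orderOf_eq_one] at this
    simpa using this
  have h9 : z = 1 := by
    have ha : orderOf z ∣ 2 ^ j := orderOf_dvd_of_pow_eq_one h2
    have hb : orderOf z ∣ orderOf u := orderOf_dvd_of_pow_eq_one h8
    have hc : Nat.Coprime (2 ^ j) (orderOf u) := Nat.Coprime.pow_left j (Nat.coprime_two_left.2 hu)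
    have hd : orderOf z = 1 := Nat.eq_one_of_dvd_coprimes hc ha hb
    exact orderOf_eq_one_iff.1 hd
  rw [h9, mul_one] at h1
  exact (mul_inv_eq_iff_eq_mul.1 h1)

variable {G : Type u} [Group G] [Finite G]

theorem nonab (h : Beta2 G) (P : Sylow 2 G) : ∃ a ∈ P, ∃ b ∈ P, ¬ Commute a b := by
  obtain ⟨S, a, ha, b, hb, hab⟩ := h.sna
  obtain ⟨g, hg⟩ := MulAction.exists_smul_eq G S P
  have key : ∀ x ∈ S, g * x * g⁻¹ ∈ P := by
    intro x hx
    rw [← hg]
    exact ⟨x, hx, rfl⟩
  refine ⟨g * a * g⁻¹, key a ha, g * b * g⁻¹, key b hb, fun hc => hab ?_⟩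
  have := hc.eq
  have h1 : g * (a * b) * g⁻¹ = g * (b * a) * g⁻¹ := by
    calc g * (a * b) * g⁻¹ = (g * a * g⁻¹) * (g * b * g⁻¹) := by group
      _ = (g * b * g⁻¹) * (g * a * g⁻¹) := this
      _ = g * (b * a) * g⁻¹ := by group
  exact mul_left_cancel (mul_right_cancel h1)

/-- odd elements of `G/Z` centralizing a Sylow 2-subgroup are trivial -/
theorem cent_odd (h : Beta2 G) (T : Sylow 2 (G ⧸ center G)) (q : G ⧸ center G)
    (hq : Odd (orderOf q)) (hc : ∀ t ∈ T, Commute q t) : q = 1 := by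
  obtain ⟨P, hP⟩ := Sylow.mapSurjective_surjective (QuotientGroup.mk'_surjective (center G)) 2 T
  obtain ⟨u, hu, huo⟩ := odd_lift (QuotientGroup.mk' (center G))
    (QuotientGroup.mk'_surjective _) q hq
  have hcomm : ∀ p ∈ (P : Subgroup G), Commute u p := by
    intro p hp
    apply comm_of_central u p huo
    · obtain ⟨k, hk⟩ := P.2 ⟨p, hp⟩
      exact ⟨k, by simpa [Subtype.ext_iff] using hk⟩
    · have h1 : QuotientGroup.mk' (center G) p ∈ T := by
        rw [← hP]
        exact ⟨p, hp, rfl⟩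
      have h2 := (hc _ h1).eq
      rw [← QuotientGroup.ker_mk' (center G), MonoidHom.mem_ker]
      rw [map_mul, map_mul, map_mul, map_inv, map_inv, hu, h2]
      group
  obtain ⟨a, ha, b, hb, hab⟩ := nonab h P
  by_contra hne
  refine hab (h.b1 u ?_ huo P P.2 hcomm a ha b hb)
  intro huz
  apply hne
  rw [← hu]
  exact (QuotientGroup.eq_one_iff u).2 huz

/-- no solvable normal subgroups in `G/Z` -/
theorem nsn (h : Beta2 G) (R : Subgroup (G ⧸ center G)) (hR : R.Normal)
    (hs : Group.IsSolvable R) : R = ⊥ := by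
  have hn : (R.comap (QuotientGroup.mk' (center G))).Normal := inferInstance
  have hsol : Group.IsSolvable (R.comap (QuotientGroup.mk' (center G))) := by
    let f : R.comap (QuotientGroup.mk' (center G)) →* R :=
      (QuotientGroup.mk' (center G)).subgroupComap R
    have hker : ∀ x : R.comap (QuotientGroup.mk' (center G)), x ∈ f.ker → (x : G) ∈ center G := by
      intro x hx
      have h1 : f x = 1 := hx
      have h2 : QuotientGroup.mk' (center G) (x : G) = 1 := congrArg Subtype.val h1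
      exact (QuotientGroup.eq_one_iff _).1 h2
    haveI hk : Group.IsSolvable f.ker := by
      apply Group.isSolvable_of_comm
      intro a b
      apply Subtype.ext
      apply Subtype.ext
      exact mem_center_iff.1 (hker b.1 b.2) (a.1 : G)
    exact Group.isSolvable_of_ker_le_range f.ker.subtype f (by simp)
  have h1 := h.solv _ hn hsol
  rw [eq_bot_iff]
  intro r hr
  obtain ⟨g, rfl⟩ := QuotientGroup.mk'_surjective (center G) r
  exact (QuotientGroup.eq_one_iff g).2 (h1 hr)

end H88.CA4
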