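import Mathlib

set_option autoImplicit false

namespace H88.CA4

open Subgroup

/-- odd order automorphisms of dihedral 2-groups of order ≥ 8 are trivial -/
theorem dih_aut (m : ℕ) (hm : 2 ≤ m) (g : MulAut (DihedralGroup (2 ^ m))) (k : ℕ)
    (hk : Odd k) (hg : g ^ k = 1) : g = 1 := by
  have h4 : 4 ≤ 2 ^ m := by
    calc 4 = 2 ^ 2 := rfl
      _ ≤ 2 ^ m := Nat.pow_le_pow_right (by norm_num) hm
  haveI : NeZero (2 ^ m) := ⟨by positivity⟩
  -- image of r 1
  obtain ⟨i, hi⟩ : ∃ i : ZMod (2 ^ m), g (DihedralGroup.r 1) = DihedralGroup.r i := by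
    rcases hx : g (DihedralGroup.r 1) with i | i
    · exact ⟨i, rfl⟩
    · exfalso
      have h1 : orderOf (g (DihedralGroup.r 1)) = 2 ^ m := by
        rw [show g (DihedralGroup.r 1) = (g : DihedralGroup (2 ^ m) ≃* DihedralGroup (2 ^ m)) (DihedralGroup.r 1) from rfl,
          MulEquiv.orderOf_eq, DihedralGroup.orderOf_r_one]
      rw [hx, DihedralGroup.orderOf_sr] at h1
      omega
  have hr : ∀ j : ZMod (2 ^ m), g (DihedralGroup.r j) = DihedralGroup.r (i * j) := by
    intro j
    have h1 : (DihedralGroup.r j : DihedralGroup (2 ^ m)) = (DihedralGroup.r 1) ^ (j.val) := by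
      rw [DihedralGroup.r_one_pow, ZMod.natCast_zmod_val]
    rw [h1, map_pow, hi, DihedralGroup.r_pow, ZMod.natCast_zmod_val]
  have hpow : ∀ l : ℕ, (g ^ l) (DihedralGroup.r 1) = DihedralGroup.r (i ^ l) := by
    intro l
    induction l with
    | zero => simp
    | succ l ih =>
      rw [pow_succ', MulAut.mul_apply, ih, hr, pow_succ']
  have hik : i ^ k = 1 := by
    have := hpow k
    rw [hg, MulAut.one_apply] at this
    exact (DihedralGroup.r.inj this).symm
  have hkpos : 0 < k := Odd.pos hk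
  have hi1 : i = 1 := by
    have hu : IsUnit i := IsUnit.of_pow_eq_one hik hkpos.ne'
    obtain ⟨U, hU⟩ := hu
    have h1 : U ^ k = 1 := by
      ext
      rw [Units.val_pow_eq_pow_val, hU, hik, Units.val_one]
    have h2 : orderOf U ∣ k := orderOf_dvd_of_pow_eq_one h1
    have h3 : orderOf U ∣ 2 ^ (m - 1) := by
      have := orderOf_dvd_card (x := U)
      rw [ZMod.card_units_eq_totient, Nat.totient_prime_pow Nat.prime_two (by omega)] at this
      simpa using this
    have h4 : Nat.Coprime (2 ^ (m - 1)) k := Nat.Coprime.pow_left _ (Nat.coprime_two_left.2 hk)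
    have h5 : orderOf U = 1 := Nat.eq_one_of_dvd_coprimes h4 h3 h2
    rw [orderOf_eq_one_iff] at h5
    rw [← hU, h5, Units.val_one]
  have hr1 : ∀ j : ZMod (2 ^ m), g (DihedralGroup.r j) = DihedralGroup.r j := by
    intro j; rw [hr, hi1, one_mul]
  obtain ⟨j, hj⟩ : ∃ j : ZMod (2 ^ m), g (DihedralGroup.sr 0) = DihedralGroup.sr j := by
    rcases hx : g (DihedralGroup.sr 0) with j | j
    · exfalso
      have := hr1 j
      rw [← hx] at this
      have h2 := g.injective this
      rw [hx] at h2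
      cases h2
    · exact ⟨j, rfl⟩
  have hs : ∀ a : ZMod (2 ^ m), g (DihedralGroup.sr a) = DihedralGroup.sr (j + a) := by
    intro a
    have h1 : (DihedralGroup.sr a : DihedralGroup (2 ^ m)) = DihedralGroup.sr 0 * DihedralGroup.r a := by
      rw [DihedralGroup.sr_mul_r, zero_add]
    rw [h1, map_mul, hj, hr1, DihedralGroup.sr_mul_r]
  have hpow2 : ∀ l : ℕ, (g ^ l) (DihedralGroup.sr 0) = DihedralGroup.sr ((l : ZMod (2 ^ m)) * j) := by
    intro l
    induction l with
    | zero => simp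
    | succ l ih =>
      rw [pow_succ', MulAut.mul_apply, ih, hs]
      congr 1
      push_cast
      ring
  have hkj : (k : ZMod (2 ^ m)) * j = 0 := by
    have := hpow2 k
    rw [hg, MulAut.one_apply] at this
    exact (DihedralGroup.sr.inj this).symm
  have hku : IsUnit (k : ZMod (2 ^ m)) := by
    rw [ZMod.isUnit_iff_coprime]
    exact Nat.Coprime.pow_right _ (Nat.coprime_two_right.2 hk)
  have hj0 : j = 0 := by
    rcases hku with ⟨U, hU⟩
    rw [← hU] at hkj
    exact (Units.mul_right_eq_zero U).1 hkj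
  ext x
  rcases x with a | a
  · rw [hr1]; rfl
  · rw [hs, hj0, zero_add]; rfl

/-- perms of 3 points of odd order -/
theorem perm3 : ∀ σ τ : Equiv.Perm (Fin 3), σ ^ 3 = 1 → τ ^ 3 = 1 →
    σ = 1 ∨ τ = 1 ∨ σ * τ = 1 ∨ σ * τ⁻¹ = 1 := by decide

theorem perm3_odd (σ : Equiv.Perm (Fin 3)) (k : ℕ) (hk : Odd k) (h : σ ^ k = 1) : σ ^ 3 = 1 := by
  have h1 : orderOf σ ∣ k := orderOf_dvd_of_pow_eq_one h
  have h2 : orderOf σ ∣ 6 := by
    have := orderOf_dvd_card (x := σ)
    rwa [Fintype.card_perm, Fintype.card_fin] at this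
  have h3 : Odd (orderOf σ) := Odd.of_dvd_nat hk h1
  have h4 : orderOf σ ∣ 3 := by
    have h5 : Nat.Coprime (orderOf σ) 2 := Nat.coprime_two_right.2 h3
    exact h5.dvd_of_dvd_mul_left (by simpa using h2)
  exact orderOf_dvd_iff_pow_eq_one.1 h4

/-- restriction of automorphisms to nonidentity elements -/
def res (T : Type*) [Group T] : MulAut T →* Equiv.Perm {t : T // t ≠ 1} where
  toFun f := Equiv.Perm.subtypePerm f.toEquiv (fun t => by
    show f t ≠ 1 ↔ t ≠ 1
    rw [Ne, Ne, MulEquiv.map_eq_one_iff])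
  map_one' := by ext x; rfl
  map_mul' f g := by ext x; rfl

theorem res_inj (T : Type*) [Group T] (f : MulAut T) (h : res T f = 1) : f = 1 := by
  ext t
  by_cases ht : t = 1
  · subst ht; simp
  · have := congrArg (fun σ : Equiv.Perm {t : T // t ≠ 1} => ((σ ⟨t, ht⟩ : {t : T // t ≠ 1}) : T)) h
    exact this

/-- two odd order automorphisms of a group of order 4 -/
theorem v4_aut (T : Type*) [Group T] [Finite T] (h4 : Nat.card T = 4) (f g : MulAut T)
    (k l : ℕ) (hk : Odd k) (hl : Odd l) (hf : f ^ k = 1) (hg : g ^ l = 1) :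
    f = 1 ∨ g = 1 ∨ f * g = 1 ∨ f * g⁻¹ = 1 := by
  classical
  have hc : Nat.card {t : T // t ≠ 1} = 3 := by
    haveI := Fintype.ofFinite T
    rw [Nat.card_eq_fintype_card, Fintype.card_subtype_compl, Fintype.card_subtype_eq,
      ← Nat.card_eq_fintype_card, h4]
  let e : {t : T // t ≠ 1} ≃ Fin 3 := Finite.equivFinOfCardEq hc
  let φ : MulAut T →* Equiv.Perm (Fin 3) := (Equiv.permCongrHom e).toMonoidHom.comp (res T)
  have hφ : ∀ x : MulAut T, φ x = 1 → x = 1 := by
    intro x hx
    apply res_inj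
    have h1 : (Equiv.permCongrHom e) (res T x) = 1 := hx
    exact (MulEquiv.map_eq_one_iff _).1 h1
  have h1 : φ f ^ 3 = 1 := perm3_odd _ k hk (by rw [← map_pow, hf, map_one])
  have h2 : φ g ^ 3 = 1 := perm3_odd _ l hl (by rw [← map_pow, hg, map_one])
  rcases perm3 (φ f) (φ g) h1 h2 with h | h | h | h
  · exact Or.inl (hφ _ h)
  · exact Or.inr (Or.inl (hφ _ h))
  · exact Or.inr (Or.inr (Or.inl (hφ _ (by rw [map_mul, h]))))
  · exact Or.inr (Or.inr (Or.inr (hφ _ (by rw [map_mul, map_inv, h]))))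

end H88.CA4
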