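import Cfsg.Agent.Lib.H88.CAb4a
import Cfsg.Agent.Lib.H88.CAb4b

set_option autoImplicit false

namespace H88.CA4

open Subgroup H4.CA
open scoped commutatorElement

universe u

theorem mem_of_odd_index {Q : Type*} [Group Q] [Finite Q] (N : Subgroup Q) [N.Normal]
    (hN : Odd N.index) (t : Q) (w : ℕ) (ht : t ^ 2 ^ w ∈ N) : t ∈ N := by
  have h1 : (QuotientGroup.mk' N t) ^ 2 ^ w = 1 := by
    rw [← map_pow]; exact (QuotientGroup.eq_one_iff _).2 ht
  have h2 : orderOf (QuotientGroup.mk' N t) ∣ 2 ^ w := orderOf_dvd_of_pow_eq_one h1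
  have h3 : orderOf (QuotientGroup.mk' N t) ∣ N.index := by
    rw [Subgroup.index_eq_card]; exact orderOf_dvd_natCard _
  have h4 : Nat.Coprime (2 ^ w) N.index := Nat.Coprime.pow_left _ (Nat.coprime_two_left.2 hN)
  have h5 : orderOf (QuotientGroup.mk' N t) = 1 := Nat.eq_one_of_dvd_coprimes h4 h2 h3
  exact (QuotientGroup.eq_one_iff _).1 (orderOf_eq_one_iff.1 h5)

theorem odd_part {Q : Type*} [Group Q] [Finite Q] (v : Q) :
    ∃ a : ℕ, Odd (orderOf (v ^ 2 ^ a)) := by
  obtain ⟨a, b, hb, hab⟩ := Nat.exists_eq_two_pow_mul_odd (orderOf_pos v).ne'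
  refine ⟨a, Odd.of_dvd_nat hb (orderOf_dvd_of_pow_eq_one ?_)⟩
  rw [← pow_mul, ← hab, pow_orderOf_eq_one]

variable {G : Type u} [Group G] [Finite G]

theorem norm_le (ft : ∀ (K : Type u) [Group K] [Finite K], Odd (Nat.card K) → Group.IsSolvable K)
    (h : Beta2 G) (T : Sylow 2 (G ⧸ center G)) (n : ℕ) (hn : 2 ≤ n)
    (e : (T : Subgroup (G ⧸ center G)) ≃* DihedralGroup n)
    (N : Subgroup (G ⧸ center G)) [N.Normal] (hodd : Odd N.index)
    (hTN : (T : Subgroup (G ⧸ center G)) ≤ N) :
    normalizer ((T : Subgroup (G ⧸ center G)) : Set (G ⧸ center G)) ≤ N := by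
  classical
  set φ := (T : Subgroup (G ⧸ center G)).normalizerMonoidHom with hφ
  -- kernel of φ
  have hker : ∀ (v : G ⧸ center G)
      (hv : v ∈ normalizer ((T : Subgroup (G ⧸ center G)) : Set (G ⧸ center G))),
      φ ⟨v, hv⟩ = 1 → ∀ t ∈ T, Commute v t := by
    intro v hv h1 t ht
    have h2 : (⟨v, hv⟩ : normalizer ((T : Subgroup (G ⧸ center G)) : Set (G ⧸ center G))) ∈ φ.ker := h1
    rw [hφ, normalizerMonoidHom_ker, Subgroup.mem_subgroupOf] at h2
    exact ((mem_centralizer_iff.1 h2) t ht).symm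
  have hker1 : ∀ (v : G ⧸ center G)
      (hv : v ∈ normalizer ((T : Subgroup (G ⧸ center G)) : Set (G ⧸ center G))),
      Odd (orderOf v) → φ ⟨v, hv⟩ = 1 → v = 1 := fun v hv ho h1 =>
    cent_odd h T v ho (hker v hv h1)
  -- elements centralizing T lie in N
  have hcN : ∀ c : G ⧸ center G, (∀ t ∈ T, Commute c t) → c ∈ N := by
    intro c hc
    obtain ⟨a, ha⟩ := odd_part c
    have : c ^ 2 ^ a = 1 := cent_odd h T _ ha (fun t ht => (hc t ht).pow_left _)
    exact mem_of_odd_index N hodd c a (by rw [this]; exact N.one_mem)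
  have hordφ : ∀ (v : G ⧸ center G)
      (hv : v ∈ normalizer ((T : Subgroup (G ⧸ center G)) : Set (G ⧸ center G))),
      (φ ⟨v, hv⟩) ^ (orderOf v) = 1 := by
    intro v hv
    rw [← map_pow]
    have : (⟨v, hv⟩ : normalizer ((T : Subgroup (G ⧸ center G)) : Set (G ⧸ center G))) ^ orderOf v = 1 := by
      apply Subtype.ext
      simp [pow_orderOf_eq_one]
    rw [this, map_one]
  -- reduction to odd order elements
  suffices hred : ∀ w ∈ normalizer ((T : Subgroup (G ⧸ center G)) : Set (G ⧸ center G)),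
      Odd (orderOf w) → w ∈ N by
    intro v hv
    obtain ⟨a, ha⟩ := odd_part v
    exact mem_of_odd_index N hodd v a (hred _ (Subgroup.pow_mem _ hv _) ha)
  -- card
  obtain ⟨s, hs⟩ := IsPGroup.iff_card.1 T.2
  have hcard : Nat.card (T : Subgroup (G ⧸ center G)) = 2 * n := by
    rw [Nat.card_congr e.toEquiv, DihedralGroup.nat_card]
  have hs1 : 2 * n = 2 ^ s := by rw [← hcard]; exact hs
  obtain ⟨m, rfl⟩ : ∃ m, s = m + 1 := by
    cases s with
    | zero => simp at hs1
    | succ m => exact ⟨m, rfl⟩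
  have hnm : n = 2 ^ m := by
    rw [pow_succ] at hs1; omega
  subst hnm
  rcases Nat.lt_or_ge m 2 with hm | hm
  · -- four-group
    have hm1 : m = 1 := by
      interval_cases m
      · norm_num at hn
      · rfl
    subst hm1
    have hc4 : Nat.card (T : Subgroup (G ⧸ center G)) = 4 := by rw [hcard]; norm_num
    by_contra hcon
    push Not at hcon
    obtain ⟨w, hw, hwo, hwN⟩ := hcon
    have hfw : φ ⟨w, hw⟩ ≠ 1 := by
      intro h1
      apply hwN
      rw [hker1 w hw hwo h1]
      exact N.one_mem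
    have hclaim : ∀ v ∈ normalizer ((T : Subgroup (G ⧸ center G)) : Set (G ⧸ center G)),
        v ∈ N → Odd (orderOf v) → v = 1 := by
      intro v hv hvN hvo
      rcases v4_aut _ hc4 (φ ⟨w, hw⟩) (φ ⟨v, hv⟩) _ _ hwo hvo (hordφ w hw) (hordφ v hv)
        with h1 | h1 | h1 | h1
      · exact absurd h1 hfw
      · exact hker1 v hv hvo h1
      · exfalso
        rw [← map_mul] at h1
        have h2 := hcN (w * v) (hker (w * v) (mul_mem hw hv) h1)
        apply hwN
        have h3 := N.mul_mem h2 (N.inv_mem hvN)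
        rwa [mul_inv_cancel_right] at h3
      · exfalso
        rw [← map_inv, ← map_mul] at h1
        have h2 := hcN (w * v⁻¹) (hker (w * v⁻¹) (mul_mem hw (inv_mem hv)) h1)
        apply hwN
        have h3 := N.mul_mem h2 hvN
        rwa [inv_mul_cancel_right] at h3
    -- normalizer T ⊓ N = T
    have hP : IsPGroup 2
        (normalizer ((T : Subgroup (G ⧸ center G)) : Set (G ⧸ center G)) ⊓ N : Subgroup (G ⧸ center G)) := by
      rintro ⟨v, hv⟩
      obtain ⟨a, ha⟩ := odd_part v
      refine ⟨a, ?_⟩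
      apply Subtype.ext
      have := hclaim (v ^ 2 ^ a) (Subgroup.pow_mem _ hv.1 _) (Subgroup.pow_mem _ hv.2 _) ha
      simpa using this
    have hTe : (normalizer ((T : Subgroup (G ⧸ center G)) : Set (G ⧸ center G)) ⊓ N
        : Subgroup (G ⧸ center G)) = T :=
      T.3 hP (le_inf le_normalizer hTN)
    have hTab : ∀ a ∈ T, ∀ b ∈ T, a * b = b * a := by
      intro a ha b hb
      have h1 : IsMulCommutative (DihedralGroup (2 ^ 1)) := DihedralGroup.commutative_iff.2 (Or.inr rfl)
      have h2 : e ⟨a, ha⟩ * e ⟨b, hb⟩ = e ⟨b, hb⟩ * e ⟨a, ha⟩ := h1.is_comm.comm _ _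
      rw [← map_mul, ← map_mul] at h2
      exact congrArg Subtype.val (e.injective h2)
    let T' : Sylow 2 N := T.subtype hTN
    have hle : normalizer ((T' : Subgroup N) : Set N) ≤ centralizer ((T' : Subgroup N) : Set N) := by
      intro v hv
      have h1 : (v : G ⧸ center G) ∈ normalizer ((T : Subgroup (G ⧸ center G)) : Set (G ⧸ center G)) := by
        rw [mem_normalizer_iff]
        intro y
        rw [mem_normalizer_iff] at hv
        constructor
        · intro hy
          have := (hv ⟨y, hTN hy⟩).1 (by show (_ : N) ∈ (T : Subgroup (G ⧸ center G)).subgroupOf N; exact hy)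
          exact this
        · intro hy
          have hyN : y ∈ N := by
            have h2 : (v : G ⧸ center G) * y * (v : G ⧸ center G)⁻¹ ∈ N := hTN hy
            have h3 := (inferInstance : N.Normal).conj_mem _ h2 (v : G ⧸ center G)⁻¹
            simpa [mul_assoc] using h3
          exact (hv ⟨y, hyN⟩).2 (by
            show (_ : N) ∈ (T : Subgroup (G ⧸ center G)).subgroupOf N
            exact hy)
      have h2 : (v : G ⧸ center G) ∈ (T : Subgroup (G ⧸ center G)) := by
        rw [← hTe]; exact ⟨h1, v.2⟩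
      rw [mem_centralizer_iff]
      intro y hy
      apply Subtype.ext
      exact hTab _ hy _ h2
    have hk2 : ¬ 2 ∣ Nat.card (MonoidHom.transferSylow T' hle).ker :=
      MonoidHom.not_dvd_card_ker_transferSylow T' hle
    have hsk : Group.IsSolvable (MonoidHom.transferSylow T' hle).ker :=
      ft _ (Nat.odd_iff.2 (by omega))
    have hsT : Group.IsSolvable (T' : Subgroup N) := by
      apply Group.isSolvable_of_comm
      intro a b
      apply Subtype.ext
      apply Subtype.ext
      exact hTab _ a.2 _ b.2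
    have hsN : Group.IsSolvable N :=
      Group.isSolvable_of_ker_le_range (MonoidHom.transferSylow T' hle).ker.subtype
        (MonoidHom.transferSylow T' hle) (by simp)
    have hNb := nsn h N inferInstance hsN
    rw [hNb, le_bot_iff] at hTN
    rw [hTN] at hc4
    simp at hc4
  · intro w hw hwo
    have h1 : (MulAut.congr e (φ ⟨w, hw⟩)) ^ (orderOf w) = 1 := by
      rw [← map_pow, hordφ, map_one]
    have h2 := dih_aut m hm _ _ hwo h1
    have h3 : φ ⟨w, hw⟩ = 1 := (MulEquiv.map_eq_one_iff _).1 h2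
    rw [hker1 w hw hwo h3]
    exact N.one_mem

theorem b4_of (ft : ∀ (K : Type u) [Group K] [Finite K], Odd (Nat.card K) → Group.IsSolvable K)
    (h : Beta2 G)
    (hD : ∃ (S : Sylow 2 (G ⧸ center G)) (n : ℕ), 2 ≤ n ∧
      Nonempty ((S : Subgroup (G ⧸ center G)) ≃* DihedralGroup n)) :
    commutator G = ⊤ := by
  by_contra hne
  obtain ⟨x, hx⟩ := h.bad
  obtain ⟨T, n, hn, ⟨e⟩⟩ := hD
  have hxo : Odd (orderOf (QuotientGroup.mk' (center G) x)) := by
    obtain ⟨a, b, hb, hab⟩ := Nat.exists_eq_two_pow_mul_odd (orderOf_pos x).ne'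
    have h1 : x ^ b ∈ center G := by
      apply h.b2 x hx (x ^ b) ⟨a, by rw [← pow_mul, mul_comm, ← hab, pow_orderOf_eq_one]⟩
      exact (Commute.refl x).pow_right b
    have h2 : (QuotientGroup.mk' (center G) x) ^ b = 1 := by
      rw [← map_pow]; exact (QuotientGroup.eq_one_iff _).2 h1
    exact Odd.of_dvd_nat hb (orderOf_dvd_of_pow_eq_one h2)
  have hnc : ¬ commutator G ≤ center G := by
    intro hle
    apply h.ns
    have hq : Group.IsSolvable (G ⧸ center G) := by
      apply Group.isSolvable_of_comm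
      intro a b
      obtain ⟨a, rfl⟩ := QuotientGroup.mk'_surjective (center G) a
      obtain ⟨b, rfl⟩ := QuotientGroup.mk'_surjective (center G) b
      have h1 : ⁅a, b⁆ ∈ center G := hle (commutator_mem_commutator (mem_top a) (mem_top b))
      have h2 : QuotientGroup.mk' (center G) ⁅a, b⁆ = 1 := (QuotientGroup.eq_one_iff _).2 h1
      rw [map_commutatorElement] at h2
      exact (commutatorElement_eq_one_iff_mul_comm.1 h2)
    have hz : Group.IsSolvable (center G) := by
      apply Group.isSolvable_of_comm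
      intro a b
      apply Subtype.ext
      exact mem_center_iff.1 b.2 a.1
    exact Group.isSolvable_of_ker_le_range (center G).subtype (QuotientGroup.mk' (center G)) (by simp)
  set N : Subgroup (G ⧸ center G) := (commutator G).map (QuotientGroup.mk' (center G)) with hNdef
  have hNn : N.Normal := Subgroup.Normal.map inferInstance _ (QuotientGroup.mk'_surjective _)
  have hcyc := h.cyc (commutator G) inferInstance hne hnc x hx
  have hgen : N ⊔ zpowers (QuotientGroup.mk' (center G) x) = ⊤ := by
    have h1 := congrArg (Subgroup.map (QuotientGroup.mk' (center G))) hcyc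
    rw [Subgroup.map_sup, MonoidHom.map_zpowers,
      Subgroup.map_top_of_surjective _ (QuotientGroup.mk'_surjective _)] at h1
    exact h1
  have hodd : Odd N.index := by
    have h1 := congrArg (Subgroup.map (QuotientGroup.mk' N)) hgen
    rw [Subgroup.map_sup, MonoidHom.map_zpowers,
      Subgroup.map_top_of_surjective _ (QuotientGroup.mk'_surjective _),
      QuotientGroup.map_mk'_self, bot_sup_eq] at h1
    have h2 : N.index = orderOf (QuotientGroup.mk' N (QuotientGroup.mk' (center G) x)) := by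
      rw [Subgroup.index_eq_card, ← Nat.card_zpowers, h1, Subgroup.card_top]
    rw [h2]
    exact Odd.of_dvd_nat hxo (orderOf_map_dvd _ _)
  have hTN : (T : Subgroup (G ⧸ center G)) ≤ N := by
    intro t ht
    obtain ⟨k, hk⟩ := T.2 ⟨t, ht⟩
    apply mem_of_odd_index N hodd t k
    have : t ^ 2 ^ k = 1 := by simpa [Subtype.ext_iff] using hk
    rw [this]; exact N.one_mem
  have hle := norm_le ft h T n hn e N hodd hTN
  have hfr := Sylow.normalizer_sup_eq_top' T hTN
  have hNt : N = ⊤ := by
    rw [← hfr]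
    exact (sup_eq_right.2 hle).symm
  have hxN : QuotientGroup.mk' (center G) x ∈ N := by rw [hNt]; exact mem_top _
  obtain ⟨c, hc, hcx⟩ := hxN
  have hz : c⁻¹ * x ∈ center G := QuotientGroup.eq.1 hcx
  have hzc : ∀ y : G, Commute (c⁻¹ * x) y := fun y => ((mem_center_iff.1 hz) y).symm
  have hcomm : ∀ y : G, Commute x y → Commute c y := by
    intro y hy
    have h1 : c = x * (c⁻¹ * x)⁻¹ := by group
    rw [h1]
    exact hy.mul_left (hzc y).inv_left
  refine h.noBad (commutator G) inferInstance hne c hc ⟨?_, ?_⟩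
  · intro hcz
    apply hx.1
    have h1 : x = c * (c⁻¹ * x) := by group
    rw [h1]
    exact mul_mem hcz hz
  · obtain ⟨a, b, ha, hb, hab⟩ := hx.2
    exact ⟨a, b, hcomm a ha, hcomm b hb, hab⟩

end H88.CA4
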