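import Mathlib

/-! Transvections on an elementary abelian group: two noncommuting transvections generate `SL(2,p)`; its central involution. -/

set_option autoImplicit false
open Subgroup

namespace H88.ExSpA

variable {V : Type*} [CommGroup V] {p : ℕ} [Fact p.Prime]

theorem exists_mul_add (m α : ℤ) (hα : ¬ (p : ℤ) ∣ α) : ∃ k : ℤ, (p : ℤ) ∣ m + α * k := by
  have hp : Prime (p : ℤ) := Nat.prime_iff_prime_int.1 Fact.out
  have h1 : IsCoprime α (p : ℤ) := ((Prime.coprime_iff_not_dvd hp).2 hα).symm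
  obtain ⟨u, v, huv⟩ := h1
  refine ⟨-(m * u), ⟨m * v, ?_⟩⟩
  linear_combination (-m) * huv

omit [Fact p.Prime] in
theorem zpow_eq_one_of_dvd (hV : ∀ v : V, v ^ p = 1) (v : V) {k : ℤ} (hk : (p : ℤ) ∣ k) : v ^ k = 1 := by
  obtain ⟨m, rfl⟩ := hk
  rw [zpow_mul, zpow_natCast, hV, one_zpow]

theorem dvd_of_zpow (hV : ∀ v : V, v ^ p = 1) {v : V} (hv : v ≠ 1) {k : ℤ} (hk : v ^ k = 1) : (p : ℤ) ∣ k := by
  have h1 : orderOf v = p := orderOf_eq_prime (hV v) hv
  rw [← h1]
  exact orderOf_dvd_iff_zpow_eq_one.2 hk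

theorem inv_mem (hV : ∀ v : V, v ^ p = 1) {z : V} (hz : z ≠ 1) {g : MulAut V} (hgz : g z ∈ zpowers z) :
    g⁻¹ z ∈ zpowers z := by
  obtain ⟨k, hk⟩ := mem_zpowers_iff.1 hgz
  have hkp : ¬ (p : ℤ) ∣ k := by
    intro h
    rw [zpow_eq_one_of_dvd hV z h] at hk
    exact hz (g.injective (by rw [← hk, map_one]))
  obtain ⟨l, hl⟩ := exists_mul_add (-1) k hkp
  refine mem_zpowers_iff.2 ⟨l, ?_⟩
  have h1 : (g⁻¹ z) ^ (k * l) = g⁻¹ z := by
    have h2 : k * l = (-1 + k * l) + 1 := by ring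
    rw [h2, zpow_add, zpow_eq_one_of_dvd hV _ hl, one_mul, zpow_one]
  rw [← h1, zpow_mul, ← map_zpow, hk, MulAut.inv_apply_self]

/-- Transvections with the same centre commute. -/
theorem comm_of_mem (hV : ∀ v : V, v ^ p = 1) {a : MulAut V} {z : V} (hz : z ≠ 1)
    (ha : ∀ v, ∃ n : ℤ, a v = v * z ^ n)
    (haz : a z = z) {g : MulAut V} (hgz : g z ∈ zpowers z) : g * a * g⁻¹ * a = a * (g * a * g⁻¹) := by
  obtain ⟨k, hk⟩ := mem_zpowers_iff.1 hgz
  have h1 : ∀ v, ∃ n : ℤ, (g * a * g⁻¹) v = v * z ^ n := by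
    intro v
    obtain ⟨n, hn⟩ := ha (g⁻¹ v)
    refine ⟨k * n, ?_⟩
    rw [MulAut.mul_apply, MulAut.mul_apply, hn, map_mul, map_zpow, ← hk, MulAut.apply_inv_self, zpow_mul]
  have h2 : (g * a * g⁻¹) z = z := by
    rw [MulAut.mul_apply, MulAut.mul_apply]
    obtain ⟨l, hl⟩ := mem_zpowers_iff.1 (inv_mem hV hz hgz)
    rw [← hl, map_zpow, haz, hl, MulAut.apply_inv_self]
  ext v
  obtain ⟨n, hn⟩ := ha v
  obtain ⟨m, hm⟩ := h1 v
  rw [MulAut.mul_apply, hn, map_mul, map_zpow, h2, hm, MulAut.mul_apply, hm, map_mul, map_zpow, haz, hn]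
  rw [mul_right_comm]

/-- If `a` fixes `g z`, then `g z` is a power of `z`. -/
theorem mem_of_fix (hV : ∀ v : V, v ^ p = 1) {G : Subgroup (MulAut V)} {a : MulAut V} (haG : a ∈ G) {z : V}
    (ha : ∀ v, ∃ n : ℤ, a v = v * z ^ n) (haz : a z = z) (ha1 : a ≠ 1)
    (hstar : ∀ x ∈ G, x * a = a * x → x ^ p = 1 → x ∈ zpowers a) {g : MulAut V} (hg : g ∈ G)
    (hfix : a (g z) = g z) : g z ∈ zpowers z := by
  have hp : p.Prime := Fact.out
  have hz : z ≠ 1 := by
    rintro rfl
    apply ha1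
    ext v
    obtain ⟨n, hn⟩ := ha v
    rw [hn, one_zpow, mul_one, MulAut.one_apply]
  set z' := g z with hz'
  have hz'1 : z' ≠ 1 := fun h => hz (g.injective (by rw [← hz', h, map_one]))
  -- a nontrivial element of `⟨a⟩` moving everything inside `⟨z'⟩` finishes the proof
  have key : ∀ x ∈ zpowers a, x ≠ 1 → (∀ v, ∃ n : ℤ, x v = v * z' ^ n) → z' ∈ zpowers z := by
    intro x hx hx1 hxv
    have h1 : ∀ i : ℤ, ∀ v, ∃ n : ℤ, (a ^ i) v = v * z ^ n := by
      intro i
      have h2 : a ∈ ({ carrier := {b | (∀ v, ∃ n : ℤ, b v = v * z ^ n) ∧ b z = z}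
                       mul_mem' := by
                        rintro b c ⟨hb, hbz⟩ ⟨hc, hcz⟩
                        refine ⟨fun v => ?_, by rw [MulAut.mul_apply, hcz, hbz]⟩
                        obtain ⟨n, hn⟩ := hc v
                        obtain ⟨m, hm⟩ := hb v
                        refine ⟨m + n, ?_⟩
                        rw [MulAut.mul_apply, hn, map_mul, map_zpow, hbz, hm, mul_assoc, zpow_add]
                       one_mem' := ⟨fun v => ⟨0, by simp⟩, rfl⟩
                       inv_mem' := by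
                        rintro b ⟨hb, hbz⟩
                        have hbz' : b⁻¹ z = z := by
                          conv_lhs => rw [← hbz]
                          exact MulAut.inv_apply_self _ _ _
                        refine ⟨fun v => ?_, hbz'⟩
                        obtain ⟨n, hn⟩ := hb (b⁻¹ v)
                        rw [MulAut.apply_inv_self] at hn
                        refine ⟨-n, ?_⟩
                        rw [zpow_neg, eq_mul_inv_iff_mul_eq]
                        exact hn.symm } : Subgroup (MulAut V)) := ⟨ha, haz⟩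
      intro v
      exact ((Subgroup.zpow_mem _ h2 i).1 v)
    obtain ⟨i, rfl⟩ := mem_zpowers_iff.1 hx
    obtain ⟨v, hv⟩ : ∃ v, (a ^ i) v ≠ v := by
      by_contra hcon
      push Not at hcon
      exact hx1 (MulEquiv.ext hcon)
    obtain ⟨n, hn⟩ := h1 i v
    obtain ⟨m, hm⟩ := hxv v
    have h3 : z ^ n = z' ^ m := mul_left_cancel (hn.symm.trans hm)
    have hmp : ¬ (p : ℤ) ∣ m := by
      intro h
      rw [zpow_eq_one_of_dvd hV _ h, mul_one] at hm
      exact hv hm
    obtain ⟨l, hl⟩ := exists_mul_add (-1) m hmp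
    refine mem_zpowers_iff.2 ⟨n * l, ?_⟩
    rw [zpow_mul, h3, ← zpow_mul]
    have h4 : m * l = (-1 + m * l) + 1 := by ring
    rw [h4, zpow_add, zpow_eq_one_of_dvd hV _ hl, one_mul, zpow_one]
  obtain ⟨c, hc⟩ : ∃ c, c = g * a * g⁻¹ := ⟨_, rfl⟩
  have hcG : c ∈ G := hc ▸ G.mul_mem (G.mul_mem hg haG) (G.inv_mem hg)
  have hcv : ∀ v, ∃ n : ℤ, c v = v * z' ^ n := by
    intro v
    obtain ⟨n, hn⟩ := ha (g⁻¹ v)
    refine ⟨n, ?_⟩
    rw [hc, MulAut.mul_apply, MulAut.mul_apply, hn, map_mul, map_zpow, MulAut.apply_inv_self]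
  have hcz' : c z' = z' := by
    rw [hc, hz', MulAut.mul_apply, MulAut.mul_apply, MulAut.inv_apply_self, haz]
  -- the commutator
  obtain ⟨e, he⟩ : ∃ e, e = (a * c)⁻¹ * (c * a) := ⟨_, rfl⟩
  have heG : e ∈ G := he ▸ G.mul_mem (G.inv_mem (G.mul_mem haG hcG)) (G.mul_mem hcG haG)
  have hac : ∀ v, ∃ k : ℤ, (c * a) v = (a * c) v * z' ^ k := by
    intro v
    obtain ⟨n, hn⟩ := ha v
    obtain ⟨m, hm⟩ := hcv v
    obtain ⟨r, hr⟩ := hcv z
    refine ⟨r * n, ?_⟩
    rw [MulAut.mul_apply, MulAut.mul_apply, hn, hm, map_mul, map_mul, map_zpow, map_zpow, hfix, hn, hm, hr,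
      mul_zpow, ← zpow_mul]
    simp only [mul_assoc, mul_left_comm, mul_comm]
  have hev : ∀ v, ∃ k : ℤ, e v = v * z' ^ k := by
    intro v
    obtain ⟨k, hk⟩ := hac v
    refine ⟨k, ?_⟩
    have h5 : (a * c)⁻¹ z' = z' := by
      have h6 : (a * c) z' = z' := by rw [MulAut.mul_apply, hcz', hfix]
      conv_lhs => rw [← h6]
      exact MulAut.inv_apply_self _ _ _
    rw [he, MulAut.mul_apply, hk, map_mul, map_zpow, MulAut.inv_apply_self, h5]
  have hez' : e z' = z' := by
    have h6 : (a * c) z' = z' := by rw [MulAut.mul_apply, hcz', hfix]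
    have h7 : (c * a) z' = z' := by rw [MulAut.mul_apply, hfix, hcz']
    rw [he, MulAut.mul_apply, h7]
    conv_lhs => rw [← h6]
    exact MulAut.inv_apply_self _ _ _
  have hez : e z = z := by
    have h6 : (a * c) z = (c * a) z := by
      rw [MulAut.mul_apply, MulAut.mul_apply, haz]
      obtain ⟨r, hr⟩ := hcv z
      rw [hr, map_mul, map_zpow, haz, hfix]
    rw [he, MulAut.mul_apply, ← h6]
    exact MulAut.inv_apply_self _ _ _
  have hpow : ∀ x : MulAut V, (∀ v, ∃ k : ℤ, x v = v * z' ^ k) → x z' = z' → x ^ p = 1 := by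
    intro x hx hxz
    have h6 : ∀ n : ℕ, ∀ v, ∀ k : ℤ, x v = v * z' ^ k → (x ^ n) v = v * (z' ^ k) ^ n := by
      intro n
      induction n with
      | zero => intro v k _; simp
      | succ n ih =>
        intro v k hk
        rw [pow_succ', MulAut.mul_apply, ih v k hk, map_mul, map_pow, map_zpow, hxz, hk, mul_assoc, ← pow_succ']
    ext v
    obtain ⟨k, hk⟩ := hx v
    rw [h6 p v k hk, hV, mul_one, MulAut.one_apply]
  by_cases he1 : e = 1
  · have hcomm : c * a = a * c := by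
      rw [he, inv_mul_eq_one] at he1
      exact he1.symm
    refine key c (hstar c hcG hcomm (hpow c hcv hcz')) ?_ hcv
    intro h
    apply ha1
    have : a = g⁻¹ * c * g := by rw [hc]; group
    rw [this, h]
    group
  · refine key e (hstar e heG ?_ (hpow e hev hez')) he1 hev
    ext v
    obtain ⟨n, hn⟩ := ha v
    obtain ⟨m, hm⟩ := hev v
    rw [MulAut.mul_apply, hn, map_mul, map_zpow, hez, hm, MulAut.mul_apply, hm, map_mul, map_zpow, hfix, hn]
    rw [mul_right_comm]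

/-- The central involution of the group generated by two noncommuting transvections. -/
theorem exists_invol (hp2 : p ≠ 2) (hV : ∀ v : V, v ^ p = 1) {G : Subgroup (MulAut V)} {a : MulAut V} (haG : a ∈ G)
    {z : V} (ha : ∀ v, ∃ n : ℤ, a v = v * z ^ n) (haz : a z = z) (ha1 : a ≠ 1)
    (hstar : ∀ x ∈ G, x * a = a * x → x ^ p = 1 → x ∈ zpowers a) {g : MulAut V} (hg : g ∈ G)
    (hgz : g z ∉ zpowers z) : ∃ t ∈ G, t * a = a * t ∧ t z = z⁻¹ ∧
      (∀ x, a x = x → (t x = x ↔ (g * a * g⁻¹) x = x)) ∧ ∀ x, a x = x → ∃ n : ℤ, t x = x * z ^ n := by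
  have hp : p.Prime := Fact.out
  have hz : z ≠ 1 := by
    rintro rfl
    apply ha1
    ext v
    obtain ⟨n, hn⟩ := ha v
    rw [hn, one_zpow, mul_one, MulAut.one_apply]
  have h1 : a (g z) ≠ g z := fun h => hgz (mem_of_fix hV haG ha haz ha1 hstar hg h)
  have h2 : a (g⁻¹ z) ≠ g⁻¹ z := fun h => by
    have h3 := inv_mem hV hz (mem_of_fix hV haG ha haz ha1 hstar (G.inv_mem hg) h)
    rw [inv_inv] at h3
    exact hgz h3
  set z' := g z with hz'
  have hz'1 : z' ≠ 1 := fun h => hz (g.injective (by rw [← hz', h, map_one]))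
  obtain ⟨α, hα⟩ := ha z'
  have hαp : ¬ (p : ℤ) ∣ α := by
    intro h
    rw [zpow_eq_one_of_dvd hV _ h, mul_one] at hα
    exact h1 hα
  obtain ⟨c, hc⟩ : ∃ c, c = g * a * g⁻¹ := ⟨_, rfl⟩
  have hcG : c ∈ G := hc ▸ G.mul_mem (G.mul_mem hg haG) (G.inv_mem hg)
  have hcv : ∀ v, ∃ n : ℤ, c v = v * z' ^ n := by
    intro v
    obtain ⟨n, hn⟩ := ha (g⁻¹ v)
    refine ⟨n, ?_⟩
    rw [hc, MulAut.mul_apply, MulAut.mul_apply, hn, map_mul, map_zpow, MulAut.apply_inv_self]
  have hcz' : c z' = z' := by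
    rw [hc, hz', MulAut.mul_apply, MulAut.mul_apply, MulAut.inv_apply_self, haz]
  obtain ⟨β, hβ⟩ := hcv z
  have hβp : ¬ (p : ℤ) ∣ β := by
    intro h
    rw [zpow_eq_one_of_dvd hV _ h, mul_one] at hβ
    apply h2
    have h3 : g⁻¹ (c z) = a (g⁻¹ z) := by
      rw [hc, MulAut.mul_apply, MulAut.mul_apply, MulAut.inv_apply_self]
    rw [← h3, hβ]
  have hpi : Prime (p : ℤ) := Nat.prime_iff_prime_int.1 hp
  obtain ⟨k, hk⟩ := exists_mul_add 1 (α * β) (fun h => (hpi.dvd_or_dvd h).elim hαp hβp)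
  -- `d = c ^ k`
  have hczpow : ∀ (i : ℤ) (v : V) (n : ℤ), c v = v * z' ^ n → (c ^ i) v = v * z' ^ (n * i) := by
    intro i v n hn
    have hnat : ∀ j : ℕ, (c ^ j) v = v * z' ^ (n * j) := by
      intro j
      induction j with
      | zero => simp
      | succ j ih =>
        rw [pow_succ', MulAut.mul_apply, ih, map_mul, map_zpow, hcz', hn, mul_assoc, ← zpow_add]
        congr 2
        push_cast
        ring
    have hz'i : ∀ j : ℕ, (c ^ j) z' = z' := by
      intro j
      induction j with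
      | zero => rfl
      | succ j ih => rw [pow_succ', MulAut.mul_apply, ih, hcz']
    rcases Int.eq_nat_or_neg i with ⟨j, rfl | rfl⟩
    · rw [zpow_natCast]; exact hnat j
    · rw [zpow_neg, zpow_natCast]
      apply (c ^ j).injective
      rw [MulAut.apply_inv_self, map_mul, map_zpow, hz'i, hnat, mul_assoc, ← zpow_add]
      have : n * (j : ℤ) + n * -(j : ℤ) = 0 := by ring
      rw [this, zpow_zero, mul_one]
  obtain ⟨d, hd⟩ : ∃ d, d = c ^ k := ⟨_, rfl⟩
  have hdG : d ∈ G := hd ▸ G.zpow_mem hcG k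
  have hdz : d z = z * z' ^ (β * k) := hd ▸ hczpow k z β hβ
  have hdz' : d z' = z' := by
    have := hczpow k z' 0 (by rw [hcz', zpow_zero, mul_one])
    rw [zero_mul, zpow_zero, mul_one] at this
    rw [hd]
    exact this
  have hαβ : (p : ℤ) ∣ 1 + α * (β * k) := by rwa [← mul_assoc]
  have e1 : z ^ (α * (β * k)) = z⁻¹ := by
    have h3 : α * (β * k) = (1 + α * (β * k)) + (-1) := by ring
    rw [h3, zpow_add, zpow_eq_one_of_dvd hV _ hαβ, one_mul, zpow_neg_one]
  have e2 : z' ^ (α * (β * k)) = z'⁻¹ := by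
    have h3 : α * (β * k) = (1 + α * (β * k)) + (-1) := by ring
    rw [h3, zpow_add, zpow_eq_one_of_dvd hV _ hαβ, one_mul, zpow_neg_one]
  obtain ⟨w, hw⟩ : ∃ w, w = a * d * a := ⟨_, rfl⟩
  have hwz : w z = z' ^ (β * k) := by
    rw [hw, MulAut.mul_apply, MulAut.mul_apply, haz, hdz, map_mul, map_zpow, haz, hα, mul_zpow, ← zpow_mul,
      e1, mul_left_comm, mul_inv_cancel, mul_one]
  have hwz' : w z' = z ^ α := by
    rw [hw, MulAut.mul_apply, MulAut.mul_apply, hα, map_mul, map_zpow, hdz', hdz, mul_zpow, ← zpow_mul,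
      mul_comm (β * k) α, e2, mul_left_comm, mul_inv_cancel, mul_one, map_zpow, haz]
  have hwG : w ∈ G := hw ▸ G.mul_mem (G.mul_mem haG hdG) haG
  obtain ⟨t, ht⟩ : ∃ t, t = w * w := ⟨_, rfl⟩
  have htz : t z = z⁻¹ := by
    rw [ht, MulAut.mul_apply, hwz, map_zpow, hwz', ← zpow_mul, e1]
  have htz' : t z' = z'⁻¹ := by
    rw [ht, MulAut.mul_apply, hwz', map_zpow, hwz, ← zpow_mul, mul_comm (β * k), e2]
  -- fixed points
  have htfix : ∀ x, a x = x → c x = x → t x = x := by
    intro x hax hcx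
    have hdx : d x = x := by
      have := hczpow k x 0 (by rw [hcx, zpow_zero, mul_one])
      rw [zero_mul, zpow_zero, mul_one] at this
      rw [hd]
      exact this
    have hwx : w x = x := by rw [hw, MulAut.mul_apply, MulAut.mul_apply, hax, hdx, hax]
    rw [ht, MulAut.mul_apply, hwx, hwx]
  -- decomposition
  have hdec : ∀ x : V, ∃ (y : V) (m n : ℤ), a y = y ∧ c y = y ∧ x = y * z ^ m * z' ^ n := by
    intro x
    obtain ⟨i, hi⟩ := ha x
    obtain ⟨n, hn⟩ := exists_mul_add i α hαp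
    -- `x z'^n` is fixed by `a`
    have h3 : a (x * z' ^ n) = x * z' ^ n := by
      rw [map_mul, map_zpow, hi, hα, mul_zpow, ← zpow_mul]
      have : x * z ^ i * (z' ^ n * z ^ (α * n)) = x * z' ^ n * z ^ (i + α * n) := by
        rw [zpow_add]
        simp only [mul_assoc, mul_left_comm, mul_comm]
      rw [this, zpow_eq_one_of_dvd hV _ hn, mul_one]
    obtain ⟨j, hj⟩ := hcv (x * z' ^ n)
    obtain ⟨m, hm⟩ := exists_mul_add j β hβp
    refine ⟨x * z' ^ n * z ^ m, -m, -n, ?_, ?_, ?_⟩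
    · rw [map_mul, h3, map_zpow, haz]
    · rw [map_mul, hj, map_zpow, hβ, mul_zpow, ← zpow_mul]
      have : x * z' ^ n * z' ^ j * (z ^ m * z' ^ (β * m)) = x * z' ^ n * z ^ m * z' ^ (j + β * m) := by
        rw [zpow_add]
        simp only [mul_assoc, mul_left_comm, mul_comm]
      rw [this, zpow_eq_one_of_dvd hV _ hm, mul_one]
    · rw [zpow_neg, zpow_neg]
      rw [mul_assoc (x * z' ^ n), mul_inv_cancel, mul_one, mul_assoc, mul_inv_cancel, mul_one]
  refine ⟨t, ht ▸ G.mul_mem hwG hwG, ?_, htz, ?_, ?_⟩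
  · ext x
    obtain ⟨y, m, n, hay, hcy, rfl⟩ := hdec x
    have hty := htfix y hay hcy
    rw [MulAut.mul_apply, MulAut.mul_apply]
    simp only [map_mul, map_zpow, hay, haz, hα, hty, htz, htz', map_inv]
    simp only [mul_zpow, map_mul, map_zpow, htz, inv_zpow, mul_inv, mul_assoc]
  · intro x hax
    rw [← hc]
    refine ⟨fun htx => ?_, htfix x hax⟩
    obtain ⟨y, m, n, hay, hcy, hx⟩ := hdec x
    have hty := htfix y hay hcy
    have h4 : (z ^ m * z' ^ n) ^ (2 : ℤ) = 1 := by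
      have h5 : t x = y * (z ^ m * z' ^ n)⁻¹ := by
        rw [hx, map_mul, map_mul, map_zpow, map_zpow, hty, htz, htz', inv_zpow, inv_zpow, mul_inv, mul_assoc]
      rw [htx, hx, mul_assoc] at h5
      have h6 := mul_left_cancel h5
      have h7 : z ^ m * z' ^ n * (z ^ m * z' ^ n) = 1 := by
        nth_rewrite 2 [h6]
        exact mul_inv_cancel _
      rw [zpow_two]
      exact h7
    have h5 : z ^ m * z' ^ n = 1 := by
      by_contra hne
      have h6 := dvd_of_zpow hV hne h4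
      have h7 : p ∣ 2 := by exact_mod_cast h6
      exact hp2 ((Nat.prime_dvd_prime_iff_eq hp Nat.prime_two).1 h7)
    have h6 : x = y := by rw [hx, mul_assoc, h5, mul_one]
    rw [h6]
    exact hcy
  · intro x hax
    obtain ⟨y, m, n, hay, hcy, hx⟩ := hdec x
    have hty := htfix y hay hcy
    have h4 : a (z' ^ n) = z' ^ n := by
      rw [hx, map_mul, map_mul, hay, map_zpow, haz] at hax
      exact mul_left_cancel hax
    have h5 : (p : ℤ) ∣ α * n := by
      rw [map_zpow, hα, mul_zpow, ← zpow_mul] at h4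
      exact dvd_of_zpow hV hz (mul_eq_left.1 h4)
    have h6 : (p : ℤ) ∣ n := (hpi.dvd_or_dvd h5).resolve_left hαp
    have h7 : x = y * z ^ m := by rw [hx, zpow_eq_one_of_dvd hV _ h6, mul_one]
    refine ⟨-(2 * m), ?_⟩
    rw [h7, map_mul, map_zpow, hty, htz, inv_zpow, mul_assoc, ← zpow_neg, ← zpow_add]
    congr 2
    ring

end H88.ExSpA
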