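import Cfsg.Agent.Lib.H86.StrEmb
import Cfsg.Agent.Lib.H89.Normal2
import Cfsg.Agent.Lib.H86.FusGroup

/-! Essential subgroups `E` of a fusion system and `p`-groups `T ≥ E` with `[E,T]` of order `p`. -/

set_option autoImplicit false
open Cfsg Cfsg.FusionSystem
open H86.FusBasic H86.StrEmb

namespace H88.ExSpB

/-- A group with a strongly `p`-embedded subgroup: conjugates of `A` cannot all commute partly with `A`. -/
theorem no_strEmb {G : Type*} [Group G] [Finite G] {p : ℕ} [Fact p.Prime] {K : Subgroup G}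
    (hK : IsStronglyPEmbedded p K) {A : Subgroup G} (hA : IsPGroup p A)
    (h : ∀ g : G, ∃ a ∈ A, a ≠ 1 ∧ ∃ b ∈ A, b ≠ 1 ∧ (g * b * g⁻¹) * a = a * (g * b * g⁻¹)) : False := by
  obtain ⟨T, hT⟩ := exists_good hK
  obtain ⟨Q, hAQ⟩ := hA.exists_le_sylow
  obtain ⟨x, hx⟩ := MulAction.exists_smul_eq G Q T
  have hxA : ∀ a ∈ A, x * a * x⁻¹ ∈ (T : Subgroup G) := by
    intro a ha
    rw [← hx]
    exact ⟨a, hAQ ha, rfl⟩
  apply hK.2.1
  rw [eq_top_iff]
  intro g _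
  obtain ⟨a, ha, ha1, b, hb, hb1, hab⟩ := h (x⁻¹ * g * x)
  have haT := hxA a ha
  have hbT := hxA b hb
  have ha1' : x * a * x⁻¹ ≠ 1 := fun h0 => ha1 (by simpa using h0)
  have hb1' : x * b * x⁻¹ ≠ 1 := fun h0 => hb1 (by simpa using h0)
  have hcomm : (g * (x * b * x⁻¹) * g⁻¹) * (x * a * x⁻¹) = (x * a * x⁻¹) * (g * (x * b * x⁻¹) * g⁻¹) := by
    have h1 : x * ((x⁻¹ * g * x * b * (x⁻¹ * g * x)⁻¹) * a) * x⁻¹ =
        x * (a * (x⁻¹ * g * x * b * (x⁻¹ * g * x)⁻¹)) * x⁻¹ := by rw [hab]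
    calc _ = x * ((x⁻¹ * g * x * b * (x⁻¹ * g * x)⁻¹) * a) * x⁻¹ := by group
      _ = _ := h1
      _ = _ := by group
  have hgb : g * (x * b * x⁻¹) * g⁻¹ ∈ K := by
    have h2 := hT.2 (Subgroup.zpowers (x * a * x⁻¹)) (Subgroup.zpowers_le.2 haT)
      (by rw [Ne, Subgroup.zpowers_eq_bot]; exact ha1')
    apply h2
    rw [Subgroup.mem_normalizer_iff]
    have h3 : Commute (g * (x * b * x⁻¹) * g⁻¹) (x * a * x⁻¹) := hcomm
    intro y
    constructor
    · rintro hy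
      obtain ⟨k, rfl⟩ := Subgroup.mem_zpowers_iff.1 hy
      rw [(h3.zpow_right k).eq, mul_inv_cancel_right]
      exact hy
    · intro hy
      obtain ⟨k, hk⟩ := Subgroup.mem_zpowers_iff.1 hy
      have h4 : y = (x * a * x⁻¹) ^ k := by
        have h5 : (g * (x * b * x⁻¹) * g⁻¹) * y = (g * (x * b * x⁻¹) * g⁻¹) * (x * a * x⁻¹) ^ k := by
          rw [(h3.zpow_right k).eq, hk, inv_mul_cancel_right]
        exact mul_left_cancel h5
      rw [h4]
      exact Subgroup.zpow_mem_zpowers _ k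
  refine hT.mem_of_conj_le (R := Subgroup.zpowers (x * b * x⁻¹)) (Subgroup.zpowers_le.2 (hT.1 hbT)) ?_ ?_ ?_
  · exact T.2.to_le (Subgroup.zpowers_le.2 hbT)
  · rw [Ne, Subgroup.zpowers_eq_bot]; exact hb1'
  · intro y hy
    obtain ⟨k, rfl⟩ := Subgroup.mem_zpowers_iff.1 hy
    rw [← conj_zpow]
    exact K.zpow_mem hgb k

variable {Ω : Type*} [Group Ω] {S : Subgroup Ω}

/-- The centralizer of an element with few commutators has small index. -/
theorem relIndex_centralizer_le {T Z : Subgroup Ω} [Finite Z] {w : Ω} (h : ∀ t ∈ T, w⁻¹ * (t * w * t⁻¹) ∈ Z) :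
    (T ⊓ Subgroup.centralizer {w}).relIndex T ≤ Nat.card Z := by
  let f : (T ⧸ (T ⊓ Subgroup.centralizer {w}).subgroupOf T) → Z := fun q =>
    ⟨w⁻¹ * ((q.out : T) * w * ((q.out : T) : Ω)⁻¹), h _ (q.out).2⟩
  have hf : Function.Injective f := by
    intro q q' hq
    have h1 : ((q.out : T) : Ω) * w * ((q.out : T) : Ω)⁻¹ = (q'.out : T) * w * ((q'.out : T) : Ω)⁻¹ :=
      mul_left_cancel (congrArg Subtype.val hq)
    rw [← QuotientGroup.out_eq' q, ← QuotientGroup.out_eq' q', QuotientGroup.eq, Subgroup.mem_subgroupOf]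
    refine ⟨(((q.out : T))⁻¹ * (q'.out : T)).2, Subgroup.mem_centralizer_singleton_iff.2 ?_⟩
    rw [Subgroup.coe_mul, Subgroup.coe_inv]
    have h2 : w * ((q.out : T) : Ω)⁻¹ * (q'.out : T) = ((q.out : T) : Ω)⁻¹ * ((q'.out : T) * w * ((q'.out : T) : Ω)⁻¹) * (q'.out : T) := by
      rw [← h1]; group
    calc ((q.out : T) : Ω)⁻¹ * (q'.out : T) * w = ((q.out : T) : Ω)⁻¹ * ((q'.out : T) * w * ((q'.out : T) : Ω)⁻¹) * (q'.out : T) := by group
      _ = w * ((q.out : T) : Ω)⁻¹ * (q'.out : T) := h2.symm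
      _ = _ := by group
  exact Nat.card_le_card_of_injective f hf

theorem relIndex_lt {A B T : Subgroup Ω} [Finite T] (h : A ≤ B) (hBT : B ≤ T) : B.relIndex T ≤ A.relIndex T := by
  rw [← Subgroup.relIndex_mul_relIndex A B T h hBT]
  apply Nat.le_mul_of_pos_left
  have hfB : Finite B := H86.FusSat.finite_of_le hBT
  exact Nat.pos_of_ne_zero Subgroup.index_ne_zero_of_finite

/-- An invariant subgroup of order `p` in the middle of `[T, E]`. -/
theorem le_of_invariant [Finite S] {p : ℕ} [hp : Fact p.Prime] (hS : IsPGroup p S)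
    {F : FusionSystem S} {E T Z : Subgroup Ω} (hE : F.IsEssential p E) (hTS : T ≤ S) (hET : E ≤ T)
    (h1 : ∀ t ∈ T, ∀ x ∈ E, x⁻¹ * (t * x * t⁻¹) ∈ Z) (h2 : ∀ t ∈ T, ∀ z ∈ Z, t * z = z * t)
    (hinv : ∀ α ∈ F.autGroup E, ∀ x : E, (x : Ω) ∈ Z → ((α x : E) : Ω) ∈ Z) : T ≤ E := by
  refine H89.Normal2.le_of_radical_chain hS hE.1 (H86.FusAlperin.radical_of_essential hS hE) hTS
    (hET.trans Subgroup.le_normalizer) (fun i => if i = 0 then ⊥ else if i = 1 then Z else E) 2 rfl ?_ ?_ E ?_ ?_ ?_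
  · intro i hi α hα x hx
    rcases i with _ | _ | i
    · simp only [if_true, Subgroup.mem_bot] at hx ⊢
      have : x = 1 := Subtype.ext hx
      rw [this, map_one]; rfl
    · simp only [zero_add, one_ne_zero, if_false, if_true] at hx ⊢
      exact hinv α hα x hx
    · have h0 : i + 1 + 1 ≠ 0 := by omega
      have h00 : i + 1 + 1 ≠ 1 := by omega
      simp only [if_neg h0, if_neg h00]
      exact (α x).2
  · intro i hi g hg hgN x hxE hx
    rcases i with _ | _ | i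
    · simp only [zero_add, one_ne_zero, if_false, if_true] at hx ⊢
      rw [h2 g hg x hx, mul_inv_cancel_right, inv_mul_cancel]
      exact Subgroup.one_mem _
    · simp only [zero_add, one_ne_zero, if_false, if_true]
      exact h1 g hg x hxE
    · omega
  · intro α hα x hx
    exact (α x).2
  · intro g hg hgN x hx
    exact E.mul_mem (E.inv_mem hx) ((Subgroup.mem_normalizer_iff.1 hgN x).1 hx)
  · intro β hβ hβo _ h
    ext x
    rw [MulAut.one_apply]
    congr 1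
    exact h x (by simpa using x.2)

/-- `E` abelian essential, `[E,T] ≤ Z ≤ C_E(T)` of order `p`: then `|T : E| < p²`. -/
theorem relIndex_of_abelian [Finite S] {p : ℕ} [hp : Fact p.Prime] (hS : IsPGroup p S)
    {F : FusionSystem S} {E T Z : Subgroup Ω} (hE : F.IsEssential p E) (hab : ∀ x ∈ E, ∀ y ∈ E, x * y = y * x)
    (hTS : T ≤ S) (hET : E ≤ T) (hTN : T ≤ Subgroup.normalizer (E : Set Ω)) (hZ : Nat.card Z = p) (hZE : Z ≤ E)
    (h1 : ∀ t ∈ T, ∀ x ∈ E, x⁻¹ * (t * x * t⁻¹) ∈ Z) (h2 : ∀ t ∈ T, ∀ z ∈ Z, t * z = z * t) :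
    E.relIndex T < p ^ 2 := by
  by_contra hlt
  push Not at hlt
  obtain ⟨hEc, -, hNn, K, hK⟩ := hE
  have hES := hEc.1
  have hfE : Finite E := H86.FusSat.finite_of_le hES
  have hfT : Finite T := H86.FusSat.finite_of_le hTS
  have hfZ : Finite Z := H86.FusSat.finite_of_le (hZE.trans hES)
  have hfA : Finite (MulAut E) := H86.FusSat.finite_mulAut E
  have hCE : centralizerIn S E ≤ E := hEc.2 E (isConj_refl F hES)
  -- a generator of `Z`
  obtain ⟨z, hz⟩ : ∃ z : Ω, Z = Subgroup.zpowers z := by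
    have hc : IsCyclic Z := isCyclic_of_prime_card hZ
    obtain ⟨⟨z, hzZ⟩, hz⟩ := hc.exists_generator
    refine ⟨z, le_antisymm (fun x hx => ?_) (Subgroup.zpowers_le.2 hzZ)⟩
    obtain ⟨k, hk⟩ := Subgroup.mem_zpowers_iff.1 (hz ⟨x, hx⟩)
    exact Subgroup.mem_zpowers_iff.2 ⟨k, congrArg Subtype.val hk⟩
  have hzZ : z ∈ Z := hz ▸ Subgroup.mem_zpowers z
  have hzE : z ∈ E := hZE hzZ
  -- elements of `T` outside `E` centralizing a given element of `E`
  have hcent : ∀ w ∈ E, ∃ t ∈ T, t ∉ E ∧ t * w * t⁻¹ = w := by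
    intro w hw
    have h3 := relIndex_centralizer_le (T := T) (Z := Z) (w := w) (fun t ht => h1 t ht w hw)
    by_contra hcon
    push Not at hcon
    have h4 : T ⊓ Subgroup.centralizer {w} ≤ E := by
      intro t ht
      by_contra htE
      apply hcon t ht.1 htE
      have h5 := Subgroup.mem_centralizer_singleton_iff.1 ht.2
      rw [h5, mul_inv_cancel_right]
    have h5 : E.relIndex T ≤ (T ⊓ Subgroup.centralizer {w}).relIndex T := relIndex_lt h4 hET
    rw [hZ] at h3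
    have h6 : p ^ 2 ≤ p := hlt.trans (h5.trans h3)
    have h7 : p < p ^ 2 := by
      have := hp.out.one_lt
      nlinarith
    omega
  let A : Subgroup (F.autGroup E) := (autInducedBy T E).subgroupOf (F.autGroup E)
  have hAp : IsPGroup p A := by
    have h3 : IsPGroup p (autInducedBy T E) := H86.FusSat.isPGroup_autInducedBy (hS.to_le hTS) E
    exact h3.comap_subtype
  let π := QuotientGroup.mk' ((Inn ↥E).subgroupOf (F.autGroup E))
  have hInn : ∀ α ∈ Inn ↥E, α = 1 := by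
    rintro _ ⟨x, rfl⟩
    ext y
    show (x : Ω) * y * (x : Ω)⁻¹ = y
    rw [hab x x.2 y y.2, mul_inv_cancel_right]
  have hπ : Function.Injective π := by
    rw [injective_iff_map_eq_one]
    intro x hx
    have h3 : x ∈ (Inn ↥E).subgroupOf (F.autGroup E) := (QuotientGroup.eq_one_iff x).1 hx
    exact Subtype.ext (hInn _ (Subgroup.mem_subgroupOf.1 h3))
  refine no_strEmb hK (A := A.map π) (hAp.map π) ?_
  intro g'
  obtain ⟨g, rfl⟩ := QuotientGroup.mk'_surjective _ g'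
  obtain ⟨t, ht, htE, htw⟩ := hcent ((g : MulAut E) ⟨z, hzE⟩ : E) (SetLike.coe_mem _)
  obtain ⟨s, hs, hsE, hsw⟩ := hcent (((g : MulAut E)⁻¹ ⟨z, hzE⟩ : E) : Ω) (SetLike.coe_mem _)
  have hmem : ∀ t ∈ T, ∀ htN : t ∈ Subgroup.normalizer (E : Set Ω), conjAut E htN ∈ F.autGroup E := fun t ht htN =>
    autInducedBy_le_autGroup F hES (conjAut_mem_autInducedBy htN (hTS ht))
  let a : F.autGroup E := ⟨conjAut E (hTN ht), hmem t ht _⟩
  let b : F.autGroup E := ⟨conjAut E (hTN hs), hmem s hs _⟩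
  have hne : ∀ t (ht : t ∈ T), t ∉ E → (⟨conjAut E (hTN ht), hmem t ht _⟩ : F.autGroup E) ≠ 1 := by
    intro t ht htE h3
    apply htE
    apply hCE
    refine ⟨hTS ht, Subgroup.mem_centralizer_iff.2 fun y hy => ?_⟩
    have h4 := congrArg (fun α : F.autGroup E => (((α : MulAut E) ⟨y, hy⟩ : E) : Ω)) h3
    have h5 : t * y * t⁻¹ = y := h4
    calc y * t = (t * y * t⁻¹) * t := by rw [h5]
      _ = t * y := by group
  refine ⟨π a, ⟨a, ?_, rfl⟩, fun h3 => hne t ht htE (hπ (h3.trans (map_one π).symm)), π b, ⟨b, ?_, rfl⟩,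
    fun h3 => hne s hs hsE (hπ (h3.trans (map_one π).symm)), ?_⟩
  · exact Subgroup.mem_subgroupOf.2 (conjAut_mem_autInducedBy (hTN ht) ht)
  · exact Subgroup.mem_subgroupOf.2 (conjAut_mem_autInducedBy (hTN hs) hs)
  rw [← map_inv, ← map_mul, ← map_mul, ← map_mul, ← map_mul]
  congr 1
  apply Subtype.ext
  ext v
  -- the computation
  have hex : ∀ (t : Ω) (ht : t ∈ T) (v : E), ∃ k : ℤ, ((conjAut E (hTN ht) v : E)) = v * (⟨z, hzE⟩ : E) ^ k := by
    intro t ht v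
    have h3 := h1 t ht v v.2
    rw [hz] at h3
    obtain ⟨k, hk⟩ := Subgroup.mem_zpowers_iff.1 h3
    refine ⟨k, Subtype.ext ?_⟩
    show t * (v : Ω) * t⁻¹ = (v : Ω) * z ^ k
    rw [hk]; group
  obtain ⟨α, hα⟩ : ∃ α : MulAut E, α = conjAut E (hTN ht) := ⟨_, rfl⟩
  obtain ⟨β, hβ⟩ : ∃ β : MulAut E, β = conjAut E (hTN hs) := ⟨_, rfl⟩
  obtain ⟨γ, hγ⟩ : ∃ γ : MulAut E, γ = (g : MulAut E) := ⟨_, rfl⟩
  obtain ⟨ζ, hζ⟩ : ∃ ζ : E, ζ = ⟨z, hzE⟩ := ⟨_, rfl⟩
  have hexα : ∀ v, ∃ k : ℤ, α v = v * ζ ^ k := by rw [hα, hζ]; exact hex t ht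
  have hexβ : ∀ v, ∃ k : ℤ, β v = v * ζ ^ k := by rw [hβ, hζ]; exact hex s hs
  have hcommE : ∀ x y : E, x * y = y * x := fun x y => Subtype.ext (hab x x.2 y y.2)
  have hαγ : α (γ ζ) = γ ζ := by rw [hα, hγ, hζ]; exact Subtype.ext htw
  have hβγ : β (γ⁻¹ ζ) = γ⁻¹ ζ := by rw [hβ, hγ, hζ]; exact Subtype.ext hsw
  have hgen : γ * β * γ⁻¹ * α = α * (γ * β * γ⁻¹) := by
    ext v
    congr 1
    obtain ⟨i, hi⟩ := hexα v
    obtain ⟨j, hj⟩ := hexβ (γ⁻¹ v)
    have h3 : (γ * β * γ⁻¹) v = v * (γ ζ) ^ j := by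
      rw [MulAut.mul_apply, MulAut.mul_apply, hj, map_mul, map_zpow, MulAut.apply_inv_self]
    have h4 : (γ * β * γ⁻¹) ζ = ζ := by
      rw [MulAut.mul_apply, MulAut.mul_apply, hβγ, MulAut.apply_inv_self]
    rw [MulAut.mul_apply, hi, map_mul, map_zpow, h3, h4, MulAut.mul_apply, h3, map_mul, map_zpow, hαγ, hi, mul_assoc,
      mul_assoc, hcommE (γ ζ ^ j)]
  rw [hα, hβ, hγ] at hgen
  exact congrArg (fun x : MulAut E => ((x v : E) : Ω)) hgen

end H88.ExSpB
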