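import Cfsg.Agent.Lib.H88.ExSpB
import Cfsg.Agent.Lib.H3.PBasic

/-! Extraspecial subgroups of index `p` in fusion systems (S5179, S5178). -/

set_option autoImplicit false
open Cfsg Cfsg.FusionSystem
open H86.FusBasic H86.StrEmb H88.ExSpB
open scoped commutatorElement

namespace H88.ExSpC

variable {Ω : Type*} [Group Ω] {S : Subgroup Ω} {p : ℕ}

theorem facts {Q : Subgroup Ω} [Finite Q] [Fact p.Prime] (hQ : IsExtraspecial p Q) :
    Nat.card ↥(Q ⊓ Subgroup.centralizer (Q : Set Ω)) = p ∧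
      (∀ x ∈ Q, ∀ y ∈ Q, x⁻¹ * (y * x * y⁻¹) ∈ Q ⊓ Subgroup.centralizer (Q : Set Ω)) ∧
      (∀ x ∈ Q, x ^ p ∈ Q ⊓ Subgroup.centralizer (Q : Set Ω)) := by
  obtain ⟨⟨hQp, hΦ, hC⟩, hc⟩ := hQ
  have h1 : Q ⊓ Subgroup.centralizer (Q : Set Ω) = (Subgroup.center ↥Q).map Q.subtype := by
    ext x
    constructor
    · rintro ⟨hx, hxc⟩
      refine ⟨⟨x, hx⟩, Subgroup.mem_center_iff.2 fun y => Subtype.ext ?_, rfl⟩
      exact Subgroup.mem_centralizer_iff.1 hxc y y.2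
    · rintro ⟨y, hy, rfl⟩
      refine ⟨y.2, Subgroup.mem_centralizer_iff.2 fun w hw => ?_⟩
      exact congrArg Subtype.val (Subgroup.mem_center_iff.1 hy ⟨w, hw⟩)
  rw [h1]
  refine ⟨?_, ?_, ?_⟩
  · rw [Subgroup.card_subtype]
    exact hc
  · intro x hx y hy
    refine ⟨(⟨x, hx⟩ : Q)⁻¹ * (⟨y, hy⟩ * ⟨x, hx⟩ * (⟨y, hy⟩ : Q)⁻¹), ?_, rfl⟩
    rw [← hC]
    have h2 : (⟨x, hx⟩ : Q)⁻¹ * (⟨y, hy⟩ * ⟨x, hx⟩ * (⟨y, hy⟩ : Q)⁻¹) =
        (⟨x, hx⟩ : Q)⁻¹ * ⟨y, hy⟩ * ((⟨x, hx⟩ : Q)⁻¹)⁻¹ * (⟨y, hy⟩ : Q)⁻¹ := by group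
    rw [SetLike.mem_coe, h2, ← commutatorElement_def]
    exact Subgroup.commutator_mem_commutator (Subgroup.mem_top _) (Subgroup.mem_top _)
  · intro x hx
    refine ⟨(⟨x, hx⟩ : Q) ^ p, ?_, rfl⟩
    rw [← hΦ]
    exact H3.PBasic.pow_mem_frattini hQp _

/-- In a group with `|Q : E|` less than `p ^ 2`, a subgroup strictly between is everything. -/
theorem eq_of_between {E C T : Subgroup Ω} [Finite T] [hp : Fact p.Prime] (hT : IsPGroup p T) (hEC : E < C) (hCT : C ≤ T)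
    (h : E.relIndex T < p ^ 2) : C = T := by
  have h1 := Subgroup.relIndex_mul_relIndex E C T hEC.le hCT
  have key : ∀ A B : Subgroup Ω, A ≤ B → B ≤ T → A ≠ B → p ≤ A.relIndex B := by
    intro A B hAB hBT hne
    have hfB : Finite B := H86.FusSat.finite_of_le hBT
    obtain ⟨n, hn⟩ := IsPGroup.iff_card.1 (hT.to_le hBT)
    obtain ⟨k, -, hk⟩ := (Nat.dvd_prime_pow hp.out).1 (hn ▸ Subgroup.relIndex_dvd_card A B)
    rw [hk]
    rcases Nat.eq_zero_or_pos k with rfl | hk0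
    · exfalso
      rw [pow_zero, Subgroup.relIndex_eq_one] at hk
      exact hne (le_antisymm hAB hk)
    · calc p = p ^ 1 := (pow_one p).symm
        _ ≤ p ^ k := Nat.pow_le_pow_right hp.out.pos hk0
  by_contra hne
  have h2 := key E C hEC.le hCT hEC.ne
  have h3 := key C T hCT le_rfl hne
  have h4 : p ^ 2 ≤ E.relIndex T := by
    rw [← h1, pow_two]
    exact Nat.mul_le_mul h2 h3
  omega

/-- If `E ≤ T` is abelian, `|T : E| < p²`, `E ≠ T`, `[T,E] ≤ Z` then `|E : C_E(T)| ≤ |Z|`. -/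
theorem card_le {E T Z : Subgroup Ω} [Finite T] [hp : Fact p.Prime] (hT : IsPGroup p T) (hET : E < T)
    (hab : ∀ x ∈ E, ∀ y ∈ E, x * y = y * x) (h : E.relIndex T < p ^ 2) [Finite Z]
    (h1 : ∀ t ∈ T, ∀ x ∈ E, x⁻¹ * (t * x * t⁻¹) ∈ Z) :
    Nat.card E ≤ Nat.card ↥(E ⊓ Subgroup.centralizer (T : Set Ω)) * Nat.card Z := by
  obtain ⟨-, t, ht, htE⟩ := SetLike.lt_iff_le_and_exists.1 hET
  have hfE : Finite E := H86.FusSat.finite_of_le hET.le
  have h2 : E ⊓ Subgroup.centralizer {t} ≤ E ⊓ Subgroup.centralizer (T : Set Ω) := by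
    rintro x ⟨hx, hxt⟩
    refine ⟨hx, ?_⟩
    have h3 : T ⊓ Subgroup.centralizer {x} = T := by
      refine eq_of_between hT (lt_of_le_of_ne ?_ ?_) inf_le_left h
      · exact le_inf hET.le fun y hy => Subgroup.mem_centralizer_singleton_iff.2 (hab y hy x hx)
      · intro heq
        apply htE
        rw [heq]
        exact ⟨ht, Subgroup.mem_centralizer_singleton_iff.2 (Subgroup.mem_centralizer_singleton_iff.1 hxt).symm⟩
    refine Subgroup.mem_centralizer_iff.2 fun y hy => ?_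
    have h4 : y ∈ T ⊓ Subgroup.centralizer {x} := h3.symm ▸ hy
    exact Subgroup.mem_centralizer_singleton_iff.1 h4.2
  have h3 : (E ⊓ Subgroup.centralizer {t}).relIndex E ≤ Nat.card Z := by
    apply relIndex_centralizer_le
    intro x hx
    have h4 := Z.inv_mem (h1 t⁻¹ (T.inv_mem ht) x⁻¹ (E.inv_mem hx))
    have h5 : t⁻¹ * (x * t * x⁻¹) = (x⁻¹⁻¹ * (t⁻¹ * x⁻¹ * t⁻¹⁻¹))⁻¹ := by group
    rw [h5]
    exact h4
  have h4 := H86.FusGroup.card_mul_relIndex (inf_le_left : E ⊓ Subgroup.centralizer {t} ≤ E)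
  rw [← h4]
  have hf : Finite ↥(E ⊓ Subgroup.centralizer (T : Set Ω)) := H86.FusSat.finite_of_le (inf_le_left.trans hET.le)
  exact Nat.mul_le_mul (Subgroup.card_le_of_le h2) h3

/-- S5179. -/
theorem eq_of_essential [Finite S] [hp : Fact p.Prime] (hS : IsPGroup p S)
    {Q : Subgroup Ω} (hQS : Q ≤ S) (hQ : IsExtraspecial p Q) (hQi : (Q.subgroupOf S).index = p)
    (h6 : p ^ 6 ≤ Nat.card S) {F : FusionSystem S} {E : Subgroup Ω} (hEQ : E ≤ Q) (hE : F.IsEssential p E) :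
    E = Q := by
  have hfQ : Finite Q := H86.FusSat.finite_of_le hQS
  obtain ⟨hZ, hcomm, hpow⟩ := facts hQ
  set Z := Q ⊓ Subgroup.centralizer (Q : Set Ω) with hZdef
  have hfZ : Finite Z := H86.FusSat.finite_of_le (inf_le_left.trans hQS)
  have hES := hE.1.1
  have hCE : centralizerIn S E ≤ E := hE.1.2 E (isConj_refl F hES)
  have hZE : Z ≤ E := by
    intro z hz
    exact hCE ⟨hQS hz.1, Subgroup.centralizer_le hEQ hz.2⟩
  have h1 : ∀ t ∈ Q, ∀ x ∈ E, x⁻¹ * (t * x * t⁻¹) ∈ Z := fun t ht x hx => hcomm x (hEQ hx) t ht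
  have h2 : ∀ t ∈ Q, ∀ z ∈ Z, t * z = z * t := fun t ht z hz => Subgroup.mem_centralizer_iff.1 hz.2 t ht
  by_contra hne
  by_cases hab : ∀ x ∈ E, ∀ y ∈ E, x * y = y * x
  · have hQN : Q ≤ Subgroup.normalizer (E : Set Ω) := by
      intro t ht
      rw [Subgroup.mem_normalizer_iff]
      have h3 : ∀ t ∈ Q, ∀ x ∈ E, t * x * t⁻¹ ∈ E := by
        intro t ht x hx
        have h4 := E.mul_mem hx (hZE (h1 t ht x hx))
        rwa [mul_inv_cancel_left] at h4
      intro x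
      refine ⟨h3 t ht x, fun hx => ?_⟩
      have h4 := h3 t⁻¹ (Q.inv_mem ht) _ hx
      have h5 : t⁻¹ * (t * x * t⁻¹) * t⁻¹⁻¹ = x := by group
      rwa [h5] at h4
    have h3 := relIndex_of_abelian hS hE hab hQS hEQ hQN hZ hZE h1 h2
    have h4 := card_le (hS.to_le hQS) (lt_of_le_of_ne hEQ hne) hab h3 h1
    have h5 : E ⊓ Subgroup.centralizer (Q : Set Ω) ≤ Z := inf_le_inf_right _ hEQ
    have h6' := Subgroup.card_le_of_le h5
    rw [hZ] at h4 h6'
    have h7 := H86.FusGroup.card_mul_relIndex hEQ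
    have h8 : Nat.card Q * p = Nat.card S := by
      have := H86.FusGroup.card_mul_relIndex hQS
      have h9 : Q.relIndex S = p := hQi
      rwa [h9] at this
    have hp0 : 0 < p := hp.out.pos
    have h9 : Nat.card E ≤ p * p := h4.trans (Nat.mul_le_mul_right p h6')
    have h10 : Nat.card S < p * p * p ^ 2 * p := by
      rw [← h8, ← h7]
      apply Nat.mul_lt_mul_of_pos_right _ hp0
      calc Nat.card E * E.relIndex Q ≤ (p * p) * E.relIndex Q := Nat.mul_le_mul_right _ h9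
        _ < p * p * p ^ 2 := Nat.mul_lt_mul_of_pos_left h3 (Nat.mul_pos hp0 hp0)
    have h11 : p * p * p ^ 2 * p = p ^ 5 := by ring
    have h12 : p ^ 5 ≤ p ^ 6 := Nat.pow_le_pow_right hp0 (by norm_num)
    omega
  · apply hne
    apply le_antisymm hEQ
    refine le_of_invariant hS hE hQS hEQ h1 h2 ?_
    -- `Z` is the commutator subgroup of `E`
    push Not at hab
    obtain ⟨x, hx, y, hy, hxy⟩ := hab
    have h3 : ⁅E, E⁆ = Z := by
      have h4 : ⁅E, E⁆ ≤ Z := by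
        rw [Subgroup.commutator_le]
        intro g₁ hg₁ g₂ hg₂
        have h5 := h1 g₂ (hEQ hg₂) g₁⁻¹ (E.inv_mem hg₁)
        have h6 : ⁅g₁, g₂⁆ = g₁⁻¹⁻¹ * (g₂ * g₁⁻¹ * g₂⁻¹) := by rw [commutatorElement_def]; group
        rw [h6]
        exact h5
      have h5 : ⁅E, E⁆ ≠ ⊥ := by
        intro h
        apply hxy
        have h6 := Subgroup.commutator_mem_commutator hx hy
        rw [h, Subgroup.mem_bot, commutatorElement_eq_one_iff_mul_comm] at h6
        exact h6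
      obtain ⟨n, hn⟩ : Nat.card ↥⁅E, E⁆ ∣ p := hZ ▸ Subgroup.card_dvd_of_le h4
      rcases (Nat.dvd_prime hp.out).1 (⟨n, hn⟩ : Nat.card ↥⁅E, E⁆ ∣ p) with h6 | h6
      · exact absurd (Subgroup.card_eq_one.1 h6) h5
      · exact Subgroup.eq_of_le_of_card_ge h4 (by rw [h6, hZ])
    intro α hα x hx
    rw [← h3] at hx ⊢
    have h4 : (commutator ↥E).map E.subtype = ⁅E, E⁆ := by
      rw [commutator_def, Subgroup.map_commutator, ← MonoidHom.range_eq_map, Subgroup.range_subtype]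
    rw [← h4] at hx ⊢
    obtain ⟨w, hw, hwx⟩ := hx
    have h5 : w = x := Subtype.ext hwx
    rw [h5] at hw
    refine ⟨α x, ?_, rfl⟩
    have h6 : (commutator ↥E).map α.toMonoidHom = commutator ↥E :=
      Subgroup.characteristic_iff_map_eq.1 inferInstance α
    rw [← h6]
    exact ⟨x, hw, rfl⟩

end H88.ExSpC
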