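import Cfsg.Agent.Lib.H88.ExSpA
import Cfsg.Agent.Lib.H88.ExSpC
import Cfsg.Agent.Lib.H88.CharBiset

/-! Extraspecial subgroups of index `p` in fusion systems: the centre (S5178). -/

set_option autoImplicit false
open Cfsg Cfsg.FusionSystem
open H86.FusBasic H86.FusSat H86.StrEmb H88.ExSpB H88.ExSpC
open scoped commutatorElement

namespace H88.ExSpD

variable {Ω : Type*} [Group Ω] {S : Subgroup Ω} {p : ℕ}

/-- A normal subgroup of order `p` of a `p`-group is central. -/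
theorem central_of_card [Fact p.Prime] [Finite S] (hS : IsPGroup p S) {Z : Subgroup Ω} (hZS : Z ≤ S)
    (hZ : Nat.card Z = p) (hn : ∀ s ∈ S, ∀ z ∈ Z, s * z * s⁻¹ ∈ Z) : ∀ s ∈ S, ∀ z ∈ Z, s * z = z * s := by
  have hp : p.Prime := Fact.out
  have h1 : (Z.subgroupOf S).Normal := ⟨fun z hz s => Subgroup.mem_subgroupOf.2 (hn s s.2 z (Subgroup.mem_subgroupOf.1 hz))⟩
  have h2 : Nat.card (Z.subgroupOf S) = p := by
    rw [← hZ]; exact Nat.card_congr (Subgroup.subgroupOfEquivOfLe hZS).toEquiv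
  have h3 : Z.subgroupOf S ≠ ⊥ := by
    intro h
    rw [h, Subgroup.card_bot] at h2
    exact hp.one_lt.ne h2
  have hnil : Group.IsNilpotent S := hS.isNilpotent
  have h4 := H3.PBasic.normal_inf_center_ne_bot (Z.subgroupOf S) h3
  have h5 : Z.subgroupOf S ⊓ Subgroup.center S = Z.subgroupOf S := by
    have h6 : Nat.card ↥(Z.subgroupOf S ⊓ Subgroup.center S) ∣ p := h2 ▸ Subgroup.card_dvd_of_le inf_le_left
    rcases (Nat.dvd_prime hp).1 h6 with h7 | h7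
    · exact absurd (Subgroup.card_eq_one.1 h7) h4
    · exact Subgroup.eq_of_le_of_card_ge inf_le_left (by rw [h7, h2])
  intro s hs z hz
  have h6 : (⟨z, hZS hz⟩ : S) ∈ Z.subgroupOf S ⊓ Subgroup.center S := by
    rw [h5]; exact Subgroup.mem_subgroupOf.2 hz
  exact congrArg Subtype.val (Subgroup.mem_center_iff.1 h6.2 ⟨s, hs⟩)

/-- Some power prime to `p` of an element of `Aut_F(S)` is inner. -/
theorem exists_pow_inner [Finite S] [Fact p.Prime] (hS : IsPGroup p S) {F : FusionSystem S}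
    (hF : F.IsSaturated p) : ∃ m : ℕ, ¬ p ∣ m ∧ (((Inn ↥S).subgroupOf (F.autGroup S)).index = m) ∧
      ∀ β ∈ F.autGroup S, β ^ m ∈ Inn ↥S := by
  have hfa := (fullyNormalized_spec hS hF (fullyNormalized_self F)).2
  obtain ⟨-, R, hR⟩ := hfa
  have hfA : Finite (MulAut S) := finite_mulAut S
  rw [autInducedBy_self] at hR
  have hn : ((Inn ↥S).subgroupOf (F.autGroup S)).Normal := by
    refine ⟨fun x hx g => ?_⟩
    obtain ⟨y, hy⟩ := hx
    refine ⟨(g : MulAut S) y, ?_⟩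
    ext w
    have h1 : (x : MulAut S) = MulAut.conj y := hy.symm
    show _ = (((g : MulAut S) * x * (g : MulAut S)⁻¹) w : Ω)
    rw [MulAut.mul_apply, MulAut.mul_apply, h1]
    simp [MulAut.conj_apply]
  refine ⟨((Inn ↥S).subgroupOf (F.autGroup S)).index, ?_, rfl, ?_⟩
  · rw [← hR]
    exact R.not_dvd_index
  · intro β hβ
    have h1 := Subgroup.pow_index_mem ((Inn ↥S).subgroupOf (F.autGroup S)) (⟨β, hβ⟩ : F.autGroup S)
    exact Subgroup.mem_subgroupOf.1 h1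

/-- `S` is not essential. -/
theorem not_essential_self [Finite S] [Fact p.Prime] (hS : IsPGroup p S) {F : FusionSystem S}
    (hF : F.IsSaturated p) : ¬ F.IsEssential p S := by
  rintro ⟨-, -, _, K, hK⟩
  obtain ⟨m, hm, hmi, -⟩ := exists_pow_inner hS hF
  apply hm
  rw [← hmi]
  exact hK.1

/-- Extension of an automorphism of a fully normalized normal subgroup. -/
theorem exists_ext [Finite S] [Fact p.Prime] (hS : IsPGroup p S) {F : FusionSystem S}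
    (hF : F.IsSaturated p) {E : Subgroup Ω} (hE : F.IsFullyNormalized E) {t : MulAut E} (ht : t ∈ F.autGroup E)
    (hSE : S ≤ Subgroup.normalizer (E : Set Ω))
    (h : ∀ s (hs : s ∈ S), ∃ h ∈ S, ∀ x : E, ((t (conjAut E (hSE hs) x) : E) : Ω) = h * (t x : E) * h⁻¹) :
    ∃ τ ∈ F.autGroup S, ∀ (x : Ω) (hx : x ∈ E) (hxS : x ∈ S), ((τ ⟨x, hxS⟩ : S) : Ω) = (t ⟨x, hx⟩ : E) := by
  have hES := hE.1
  have hr := receptive_of_fullyNormalized hS hF hE
  have hφ : E.subtype.comp t.toMonoidHom ∈ F.Hom E := (H86.FusBasic.mem_autGroup F hES).1 ht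
  obtain ⟨ψ, hψ, hψx⟩ := hr.2 E _ hφ (range_comp_equiv t)
  have hex : extender S E (E.subtype.comp t.toMonoidHom) = S := by
    apply le_antisymm
    · exact (F.le_of_mem hψ).1
    · intro s hs
      apply Subgroup.subset_closure
      refine ⟨hs, hSE hs, ?_⟩
      obtain ⟨h', hh', hx'⟩ := h s hs
      exact ⟨h', hh', fun x hx => hx' x⟩
  have key : ∀ (X : Subgroup Ω) (hX : X = S) (ψ : X →* Ω), ψ ∈ F.Hom X →
      (∀ (x : Ω) (hP : x ∈ E) (hN : x ∈ X), ψ ⟨x, hN⟩ = (t ⟨x, hP⟩ : E)) →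
      ∃ τ ∈ F.autGroup S, ∀ (x : Ω) (hx : x ∈ E) (hxS : x ∈ S), ((τ ⟨x, hxS⟩ : S) : Ω) = (t ⟨x, hx⟩ : E) := by
    intro X hX ψ' hψ' hψx'
    subst hX
    exact ⟨toEquiv ψ' (F.injective_of_mem hψ') (H88.CharBiset.range_eq_of_hom hψ'),
      (H86.FusBasic.mem_autGroup F le_rfl).2 (isIso_toEquiv F hψ' _), fun x hx hxS => hψx' x hx hxS⟩
  exact key _ hex ψ hψ fun x hP hN => hψx x hP hN

section wrap
variable {V : Type*} [Group V] [Fact p.Prime]

theorem comm_of_mem' (hc : ∀ x y : V, x * y = y * x) (hV : ∀ v : V, v ^ p = 1) {a : MulAut V} {z : V} (hz : z ≠ 1)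
    (ha : ∀ v, ∃ n : ℤ, a v = v * z ^ n)
    (haz : a z = z) {g : MulAut V} (hgz : g z ∈ Subgroup.zpowers z) : g * a * g⁻¹ * a = a * (g * a * g⁻¹) := by
  let hcg : CommGroup V := { ‹Group V› with mul_comm := hc }
  exact ExSpA.comm_of_mem hV hz ha haz hgz

theorem exists_invol' (hc : ∀ x y : V, x * y = y * x) (hp2 : p ≠ 2) (hV : ∀ v : V, v ^ p = 1)
    {G : Subgroup (MulAut V)} {a : MulAut V} (haG : a ∈ G)
    {z : V} (ha : ∀ v, ∃ n : ℤ, a v = v * z ^ n) (haz : a z = z) (ha1 : a ≠ 1)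
    (hstar : ∀ x ∈ G, x * a = a * x → x ^ p = 1 → x ∈ Subgroup.zpowers a) {g : MulAut V} (hg : g ∈ G)
    (hgz : g z ∉ Subgroup.zpowers z) : ∃ t ∈ G, t * a = a * t ∧ t z = z⁻¹ ∧
      (∀ x, a x = x → (t x = x ↔ (g * a * g⁻¹) x = x)) ∧ ∀ x, a x = x → ∃ n : ℤ, t x = x * z ^ n := by
  let hcg : CommGroup V := { ‹Group V› with mul_comm := hc }
  exact ExSpA.exists_invol hp2 hV haG ha haz ha1 hstar hg hgz

end wrap

/-- A subgroup of order `p` containing the commutators of a nonabelian group is invariant. -/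
theorem inv_of_nonabelian [hp : Fact p.Prime] {X Z : Subgroup Ω} [Finite Z] (hZ : Nat.card Z = p)
    (h : ∀ x ∈ X, ∀ y ∈ X, x⁻¹ * (y * x * y⁻¹) ∈ Z) (hna : ∃ x ∈ X, ∃ y ∈ X, x * y ≠ y * x) (α : MulAut X)
    (x : X) (hx : (x : Ω) ∈ Z) : ((α x : X) : Ω) ∈ Z := by
  obtain ⟨u, hu, y, hy, hxy⟩ := hna
  have h3 : ⁅X, X⁆ = Z := by
    have h4 : ⁅X, X⁆ ≤ Z := by
      rw [Subgroup.commutator_le]
      intro g₁ hg₁ g₂ hg₂
      have h5 := h g₁⁻¹ (X.inv_mem hg₁) g₂ hg₂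
      have h6 : ⁅g₁, g₂⁆ = g₁⁻¹⁻¹ * (g₂ * g₁⁻¹ * g₂⁻¹) := by rw [commutatorElement_def]; group
      rw [h6]
      exact h5
    have h5 : ⁅X, X⁆ ≠ ⊥ := by
      intro h
      apply hxy
      have h6 := Subgroup.commutator_mem_commutator hu hy
      rw [h, Subgroup.mem_bot, commutatorElement_eq_one_iff_mul_comm] at h6
      exact h6
    obtain ⟨n, hn⟩ : Nat.card ↥⁅X, X⁆ ∣ p := hZ ▸ Subgroup.card_dvd_of_le h4
    rcases (Nat.dvd_prime hp.out).1 (⟨n, hn⟩ : Nat.card ↥⁅X, X⁆ ∣ p) with h6 | h6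
    · exact absurd (Subgroup.card_eq_one.1 h6) h5
    · exact Subgroup.eq_of_le_of_card_ge h4 (by rw [h6, hZ])
  rw [← h3] at hx ⊢
  have h4 : (commutator ↥X).map X.subtype = ⁅X, X⁆ := by
    rw [commutator_def, Subgroup.map_commutator, ← MonoidHom.range_eq_map, Subgroup.range_subtype]
  rw [← h4] at hx ⊢
  obtain ⟨w, hw, hwx⟩ := hx
  have h5 : w = x := Subtype.ext hwx
  rw [h5] at hw
  refine ⟨α x, ?_, rfl⟩
  have h6 : (commutator ↥X).map α.toMonoidHom = commutator ↥X :=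
    Subgroup.characteristic_iff_map_eq.1 inferInstance α
  rw [← h6]
  exact ⟨x, hw, rfl⟩

/-- The data of the small situation. -/
structure Sit (F : FusionSystem S) (p : ℕ) (Z W : Subgroup Ω) (z : Ω) : Prop where
  sat : F.IsSaturated p
  pS : IsPGroup p S
  odd : p ≠ 2
  W_eq : W = S ⊓ Subgroup.centralizer (S : Set Ω)
  cZ : Nat.card Z = p
  ZW : Z ≤ W
  hz : Z = Subgroup.zpowers z
  comm : ∀ x ∈ S, ∀ y ∈ S, x⁻¹ * (y * x * y⁻¹) ∈ Z
  pow : ∀ x ∈ S, x ^ p ∈ Z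
  na : ∃ x ∈ S, ∃ y ∈ S, x * y ≠ y * x

namespace Sit

variable {F : FusionSystem S} {Z W : Subgroup Ω} {z : Ω} [Finite S] [hp : Fact p.Prime]

omit [Finite S] hp in
theorem WS (H : Sit F p Z W z) : W ≤ S := H.W_eq ▸ inf_le_left

omit [Finite S] hp in
theorem memW (H : Sit F p Z W z) {x : Ω} : x ∈ W ↔ x ∈ S ∧ ∀ y ∈ S, y * x = x * y := by
  rw [H.W_eq]
  exact ⟨fun h => ⟨h.1, Subgroup.mem_centralizer_iff.1 h.2⟩, fun h => ⟨h.1, Subgroup.mem_centralizer_iff.2 h.2⟩⟩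

omit [Finite S] hp in
theorem zZ (H : Sit F p Z W z) : z ∈ Z := H.hz ▸ Subgroup.mem_zpowers z

omit [Finite S] hp in
theorem zS (H : Sit F p Z W z) : z ∈ S := H.WS (H.ZW H.zZ)

omit [Finite S] in
theorem z_ne (H : Sit F p Z W z) : z ≠ 1 := by
  rintro rfl
  have h1 := H.cZ
  rw [H.hz, Subgroup.zpowers_one_eq_bot, Subgroup.card_bot] at h1
  exact hp.out.one_lt.ne h1

omit [Finite S] in
theorem z_pow (H : Sit F p Z W z) : z ^ p = 1 := by
  have h1 := H.cZ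
  rw [H.hz, Nat.card_zpowers] at h1
  rw [← h1]
  exact pow_orderOf_eq_one z

omit [Finite S] hp in
theorem W_inv (H : Sit F p Z W z) (γ : MulAut S) {x : S} (hx : (x : Ω) ∈ W) : ((γ x : S) : Ω) ∈ W := by
  rw [H.memW] at hx ⊢
  refine ⟨(γ x).2, fun y hy => ?_⟩
  obtain ⟨v, hv⟩ := γ.surjective ⟨y, hy⟩
  have h1 : v * x = x * v := Subtype.ext (hx.2 v v.2)
  have h2 := congrArg (fun u : S => ((γ u : S) : Ω)) h1
  simp only [map_mul, hv] at h2
  exact h2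

theorem Z_inv (H : Sit F p Z W z) (γ : MulAut S) : ∃ k : ℤ, γ ⟨z, H.zS⟩ = (⟨z, H.zS⟩ : S) ^ k := by
  have hfZ : Finite Z := finite_of_le (H.ZW.trans H.WS)
  have h1 := inv_of_nonabelian H.cZ H.comm H.na γ ⟨z, H.zS⟩ H.zZ
  obtain ⟨k, hk⟩ := Subgroup.mem_zpowers_iff.1 (H.hz.le h1)
  exact ⟨k, Subtype.ext hk.symm⟩

/-- Automorphisms trivial on `Z` and on `W / Z` are trivial on `W`. -/
theorem triv (H : Sit F p Z W z) {β : MulAut S} (hβ : β ∈ F.autGroup S) (h1 : β ⟨z, H.zS⟩ = ⟨z, H.zS⟩)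
    (h2 : ∀ x : S, (x : Ω) ∈ W → ∃ n : ℤ, β x = x * (⟨z, H.zS⟩ : S) ^ n) {x : S} (hx : (x : Ω) ∈ W) : β x = x := by
  obtain ⟨m, hm, -, hmi⟩ := exists_pow_inner H.pS H.sat
  obtain ⟨n, hn⟩ := h2 x hx
  have h3 : ∀ i : ℕ, (β ^ i) x = x * ((⟨z, H.zS⟩ : S) ^ n) ^ i := by
    intro i
    induction i with
    | zero => simp
    | succ i ih => rw [pow_succ', MulAut.mul_apply, ih, map_mul, map_pow, map_zpow, h1, hn, mul_assoc, ← pow_succ']
  have h4 : (β ^ m) x = x := by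
    obtain ⟨y, hy⟩ := hmi β hβ
    rw [← hy]
    apply Subtype.ext
    show (y : Ω) * x * (y : Ω)⁻¹ = x
    rw [(H.memW.1 hx).2 y y.2, mul_inv_cancel_right]
  rw [h3] at h4
  have h5 : (((⟨z, H.zS⟩ : S) ^ n)) ^ m = 1 := mul_eq_left.1 h4
  have h6 : (((⟨z, H.zS⟩ : S) ^ n)) ^ p = 1 := by
    have h7 : (⟨z, H.zS⟩ : S) ^ p = 1 := Subtype.ext H.z_pow
    rw [← zpow_natCast, ← zpow_mul, mul_comm, zpow_mul, zpow_natCast, h7, one_zpow]
  have h7 : ((⟨z, H.zS⟩ : S) ^ n) = 1 := by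
    have h8 := orderOf_dvd_of_pow_eq_one h5
    have h9 := orderOf_dvd_of_pow_eq_one h6
    rw [← orderOf_eq_one_iff]
    exact Nat.Coprime.eq_one_of_dvd ((Nat.Coprime.coprime_dvd_left h9 ((Nat.Prime.coprime_iff_not_dvd hp.out).2 hm))) h8
  rw [hn, h7, mul_one]

/-- The involutory elements. -/
def Tau (H : Sit F p Z W z) (τ : MulAut S) : Prop :=
  τ ∈ F.autGroup S ∧ τ ⟨z, H.zS⟩ = (⟨z, H.zS⟩ : S)⁻¹ ∧
    ∀ x : S, (x : Ω) ∈ W → ∃ n : ℤ, τ x = x * (⟨z, H.zS⟩ : S) ^ n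

theorem tau_unique (H : Sit F p Z W z) {τ τ' : MulAut S} (h : H.Tau τ) (h' : H.Tau τ') {x : S}
    (hx : (x : Ω) ∈ W) : τ x = τ' x := by
  obtain ⟨h1, h2, h3⟩ := h
  obtain ⟨h1', h2', h3'⟩ := h'
  have hz' : τ'⁻¹ (⟨z, H.zS⟩ : S) = (⟨z, H.zS⟩ : S)⁻¹ := by
    have h4 : τ' (⟨z, H.zS⟩ : S)⁻¹ = ⟨z, H.zS⟩ := by rw [map_inv, h2', inv_inv]
    conv_lhs => rw [← h4]
    exact MulAut.inv_apply_self _ _ _
  have h4 : (τ'⁻¹ * τ) x = x := by
    refine H.triv (Subgroup.mul_mem _ (Subgroup.inv_mem _ h1') h1) ?_ ?_ hx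
    · rw [MulAut.mul_apply, h2, map_inv, hz', inv_inv]
    · intro y hy
      obtain ⟨n, hn⟩ := h3 y hy
      obtain ⟨m, hm⟩ := h3' y hy
      have h5 : τ'⁻¹ y = y * (⟨z, H.zS⟩ : S) ^ m := by
        have h6 : τ'⁻¹ (τ' y) = τ'⁻¹ y * (τ'⁻¹ (⟨z, H.zS⟩ : S)) ^ m := by rw [hm, map_mul, map_zpow]
        rw [MulAut.inv_apply_self, hz', inv_zpow, eq_mul_inv_iff_mul_eq] at h6
        exact h6.symm
      refine ⟨m - n, ?_⟩
      rw [MulAut.mul_apply, hn, map_mul, map_zpow, hz', h5, inv_zpow, mul_assoc, ← zpow_neg, ← zpow_add, sub_eq_add_neg]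
  rw [MulAut.mul_apply] at h4
  have h5 := congrArg τ' h4
  rw [MulAut.apply_inv_self] at h5
  exact h5

theorem tau_conj (H : Sit F p Z W z) {τ γ : MulAut S} (h : H.Tau τ) (hγ : γ ∈ F.autGroup S) :
    H.Tau (γ⁻¹ * τ * γ) := by
  obtain ⟨h1, h2, h3⟩ := h
  obtain ⟨k, hk⟩ := H.Z_inv γ
  obtain ⟨l, hl⟩ := H.Z_inv γ⁻¹
  refine ⟨Subgroup.mul_mem _ (Subgroup.mul_mem _ (Subgroup.inv_mem _ hγ) h1) hγ, ?_, ?_⟩
  · rw [MulAut.mul_apply, MulAut.mul_apply, hk, map_zpow, h2, inv_zpow, map_inv, ← hk, MulAut.inv_apply_self]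
  · intro x hx
    obtain ⟨n, hn⟩ := h3 (γ x) (H.W_inv γ hx)
    refine ⟨l * n, ?_⟩
    rw [MulAut.mul_apply, MulAut.mul_apply, hn, map_mul, map_zpow, MulAut.inv_apply_self, hl, zpow_mul]

theorem W_le (H : Sit F p Z W z) {E : Subgroup Ω} (hE : F.IsEssential p E) : W ≤ E := by
  have hCE : centralizerIn S E ≤ E := hE.1.2 E (isConj_refl F hE.1.1)
  rw [H.W_eq]
  exact (inf_le_inf_left S (Subgroup.centralizer_le hE.1.1)).trans hCE

theorem conjE (H : Sit F p Z W z) {E : Subgroup Ω} (hE : F.IsEssential p E) : ∀ s ∈ S, ∀ x ∈ E, s * x * s⁻¹ ∈ E := by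
  intro s hs x hx
  have h4 := E.mul_mem hx (H.W_le hE (H.ZW (H.comm x (hE.1.1 hx) s hs)))
  rwa [mul_inv_cancel_left] at h4

theorem normE (H : Sit F p Z W z) {E : Subgroup Ω} (hE : F.IsEssential p E) : S ≤ Subgroup.normalizer (E : Set Ω) := by
  intro t ht
  rw [Subgroup.mem_normalizer_iff]
  intro x
  refine ⟨H.conjE hE t ht x, fun hx => ?_⟩
  have h4 := H.conjE hE t⁻¹ (S.inv_mem ht) _ hx
  have h5 : t⁻¹ * (t * x * t⁻¹) * t⁻¹⁻¹ = x := by group
  rwa [h5] at h4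

theorem neS (H : Sit F p Z W z) {E : Subgroup Ω} (hE : F.IsEssential p E) : E < S := by
  refine lt_of_le_of_ne hE.1.1 ?_
  rintro rfl
  exact not_essential_self H.pS H.sat hE

theorem not_inv (H : Sit F p Z W z) {E : Subgroup Ω} (hE : F.IsEssential p E) :
    ∃ α ∈ F.autGroup E, ∃ x : E, (x : Ω) ∈ Z ∧ ((α x : E) : Ω) ∉ Z := by
  by_contra hcon
  push Not at hcon
  exact (H.neS hE).not_ge (le_of_invariant H.pS hE le_rfl hE.1.1 (fun t ht x hx => H.comm x (hE.1.1 hx) t ht)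
    (fun t ht z' hz' => (H.memW.1 (H.ZW hz')).2 t ht) hcon)

theorem abE (H : Sit F p Z W z) {E : Subgroup Ω} (hE : F.IsEssential p E) : ∀ x ∈ E, ∀ y ∈ E, x * y = y * x := by
  by_contra hcon
  push Not at hcon
  obtain ⟨α, -, x, hx, hαx⟩ := H.not_inv hE
  have hfZ : Finite Z := finite_of_le (H.ZW.trans H.WS)
  exact hαx (inv_of_nonabelian H.cZ (fun x hx y hy => H.comm x (hE.1.1 hx) y (hE.1.1 hy)) hcon α x hx)

theorem powE (H : Sit F p Z W z) {E : Subgroup Ω} (hE : F.IsEssential p E) : ∀ x ∈ E, x ^ p = 1 := by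
  by_contra hcon
  push Not at hcon
  obtain ⟨v, hv, hvp⟩ := hcon
  obtain ⟨α, -, x, hx, hαx⟩ := H.not_inv hE
  apply hαx
  have hfZ : Finite Z := finite_of_le (H.ZW.trans H.WS)
  have hvZ := H.pow v (hE.1.1 hv)
  have h1 : Subgroup.zpowers (v ^ p) = Z := by
    have h2 : Subgroup.zpowers (v ^ p) ≤ Z := Subgroup.zpowers_le.2 hvZ
    have h3 : Nat.card (Subgroup.zpowers (v ^ p)) ∣ Nat.card Z := Subgroup.card_dvd_of_le h2
    rw [H.cZ] at h3
    rcases (Nat.dvd_prime hp.out).1 h3 with h4 | h4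
    · exfalso
      apply hvp
      rw [← Subgroup.zpowers_eq_bot]
      exact Subgroup.card_eq_one.1 h4
    · exact Subgroup.eq_of_le_of_card_ge h2 (by rw [h4, H.cZ])
  obtain ⟨k, hk⟩ := Subgroup.mem_zpowers_iff.1 (h1.ge hx)
  have h2 : x = ((⟨v, hv⟩ : E) ^ p) ^ k := Subtype.ext hk.symm
  have h3 : ((α x : E) : Ω) = (((α ⟨v, hv⟩ : E) : Ω) ^ p) ^ k := by
    rw [h2, map_zpow, map_pow]
    rfl
  rw [h3]
  exact Z.zpow_mem (H.pow _ (hE.1.1 (α ⟨v, hv⟩ : E).2)) k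

theorem relE (H : Sit F p Z W z) {E : Subgroup Ω} (hE : F.IsEssential p E) : E.relIndex S < p ^ 2 :=
  relIndex_of_abelian H.pS hE (H.abE hE) le_rfl hE.1.1 (H.normE hE) H.cZ (H.ZW.trans (H.W_le hE))
    (fun t ht x hx => H.comm x (hE.1.1 hx) t ht) (fun t ht z' hz' => (H.memW.1 (H.ZW hz')).2 t ht)

/-- The structure of an essential subgroup. -/
theorem ess (H : Sit F p Z W z) {E : Subgroup Ω} (hE : F.IsEssential p E) (hzE : z ∈ E) :
    ∃ a ∈ F.autGroup E, (∀ x : E, a x = x ↔ (x : Ω) ∈ W) ∧ (∃ g ∈ F.autGroup E, ((g ⟨z, hzE⟩ : E) : Ω) ∉ Z) ∧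
      (∀ g ∈ F.autGroup E, ((g ⟨z, hzE⟩ : E) : Ω) ∈ Z → g * a * g⁻¹ ∈ Subgroup.zpowers a) ∧
      ∀ g ∈ F.autGroup E, ((g ⟨z, hzE⟩ : E) : Ω) ∉ Z → ∃ τ, H.Tau τ ∧
        ∀ (x : E) (hx : (x : Ω) ∈ W), ((τ ⟨x, H.WS hx⟩ : S) : Ω) = x ↔ (g * a * g⁻¹) x = x := by
  obtain ⟨-, s, hs, hsE⟩ := SetLike.lt_iff_le_and_exists.1 (H.neS hE)
  have hSE := H.normE hE
  have hES := hE.1.1
  have hab := H.abE hE
  have hCE : centralizerIn S E ≤ E := hE.1.2 E (isConj_refl F hE.1.1)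
  have hfE : Finite E := finite_of_le hES
  have hfA : Finite (MulAut E) := finite_mulAut E
  have hfZ : Finite Z := finite_of_le (H.ZW.trans H.WS)
  have hc : ∀ x y : E, x * y = y * x := fun x y => Subtype.ext (hab x x.2 y y.2)
  have hV : ∀ v : E, v ^ p = 1 := fun v => Subtype.ext (H.powE hE v v.2)
  obtain ⟨ζ, hζ⟩ : ∃ ζ : E, ζ = ⟨z, hzE⟩ := ⟨_, rfl⟩
  have hmemZ : ∀ x : E, (x : Ω) ∈ Z ↔ x ∈ Subgroup.zpowers ζ := by
    intro x
    constructor
    · intro hx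
      obtain ⟨k, hk⟩ := Subgroup.mem_zpowers_iff.1 (H.hz.le hx)
      exact Subgroup.mem_zpowers_iff.2 ⟨k, Subtype.ext (by rw [hζ]; exact hk)⟩
    · intro hx
      obtain ⟨k, rfl⟩ := Subgroup.mem_zpowers_iff.1 hx
      rw [Subgroup.coe_zpow, hζ]
      exact Z.zpow_mem H.zZ k
  have hζ1 : ζ ≠ 1 := fun h => H.z_ne (by rw [hζ] at h; exact congrArg Subtype.val h)
  obtain ⟨a, ha⟩ : ∃ a : MulAut E, a = conjAut E (hSE hs) := ⟨_, rfl⟩
  have haI : a ∈ autInducedBy S E := ha ▸ conjAut_mem_autInducedBy (hSE hs) hs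
  have haG : a ∈ F.autGroup E := autInducedBy_le_autGroup F hES haI
  have hav : ∀ v, ∃ n : ℤ, a v = v * ζ ^ n := by
    intro v
    have h3 := (hmemZ (v⁻¹ * a v)).1 (by rw [ha]; exact H.comm v (hES v.2) s hs)
    obtain ⟨k, hk⟩ := Subgroup.mem_zpowers_iff.1 h3
    exact ⟨k, by rw [hk, mul_inv_cancel_left]⟩
  have haW : ∀ x : E, (x : Ω) ∈ W → a x = x := by
    intro x hx
    rw [ha]
    apply Subtype.ext
    show s * (x : Ω) * s⁻¹ = x
    rw [(H.memW.1 hx).2 s hs, mul_inv_cancel_right]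
  have hfix : ∀ x : E, a x = x ↔ (x : Ω) ∈ W := by
    intro x
    refine ⟨fun hx => ?_, haW x⟩
    have h3 : S ⊓ Subgroup.centralizer {(x : Ω)} = S := by
      refine eq_of_between H.pS (lt_of_le_of_ne ?_ ?_) inf_le_left (H.relE hE)
      · exact le_inf hES fun y hy => Subgroup.mem_centralizer_singleton_iff.2 (hab y hy x x.2)
      · intro heq
        apply hsE
        rw [heq]
        refine ⟨hs, Subgroup.mem_centralizer_singleton_iff.2 ?_⟩
        have h4 : s * (x : Ω) * s⁻¹ = x := by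
          rw [ha] at hx
          exact congrArg Subtype.val hx
        calc s * (x : Ω) = (s * (x : Ω) * s⁻¹) * s := by group
          _ = x * s := by rw [h4]
    refine H.memW.2 ⟨hES x.2, fun y hy => ?_⟩
    have h4 : y ∈ S ⊓ Subgroup.centralizer {(x : Ω)} := h3.symm ▸ hy
    exact Subgroup.mem_centralizer_singleton_iff.1 h4.2
  have hζW : (ζ : Ω) ∈ W := by rw [hζ]; exact H.ZW H.zZ
  have haz : a ζ = ζ := haW ζ hζW
  have ha1 : a ≠ 1 := by
    intro h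
    apply hsE
    apply hCE
    refine ⟨hs, Subgroup.mem_centralizer_iff.2 fun y hy => ?_⟩
    have h4 : ((a ⟨y, hy⟩ : E) : Ω) = y := by rw [h]; rfl
    rw [ha] at h4
    have h5 : s * y * s⁻¹ = y := h4
    calc y * s = (s * y * s⁻¹) * s := by rw [h5]
      _ = s * y := by group
  -- the order of `Aut_S(E)`
  have hcard : Nat.card (autInducedBy S E) = p := by
    have h3 := card_autInducedBy_mul S E
    have h4 : centralizerIn S E = E := le_antisymm hCE fun x hx => ⟨hES hx, Subgroup.mem_centralizer_iff.2 fun y hy => hab y hy x hx⟩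
    have h5 : normalizerIn S E = S := inf_eq_left.2 hSE
    rw [h4, h5] at h3
    have h6 := H86.FusGroup.card_mul_relIndex hES
    have h7 : Nat.card (autInducedBy S E) = E.relIndex S := by
      apply Nat.eq_of_mul_eq_mul_right (Nat.card_pos (α := E))
      rw [h3, mul_comm, h6]
    obtain ⟨n, hn⟩ := IsPGroup.iff_card.1 (isPGroup_autInducedBy H.pS E)
    have h8 := H.relE hE
    rw [← h7, hn] at h8
    have h9 : n < 2 := (Nat.pow_lt_pow_iff_right hp.out.one_lt).1 h8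
    have h10 : n ≠ 0 := by
      rintro rfl
      rw [pow_zero, Subgroup.card_eq_one] at hn
      rw [hn, Subgroup.mem_bot] at haI
      exact ha1 haI
    have h11 : n = 1 := by omega
    rw [hn, h11, pow_one]
  have hzp : autInducedBy S E = Subgroup.zpowers a := by
    have h2 : Subgroup.zpowers a ≤ autInducedBy S E := Subgroup.zpowers_le.2 haI
    have h3 : Nat.card (Subgroup.zpowers a) ∣ p := hcard ▸ Subgroup.card_dvd_of_le h2
    symm
    rcases (Nat.dvd_prime hp.out).1 h3 with h4 | h4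
    · exfalso
      apply ha1
      rw [← Subgroup.zpowers_eq_bot]
      exact Subgroup.card_eq_one.1 h4
    · exact Subgroup.eq_of_le_of_card_ge h2 (by rw [h4, hcard])
  have hap : a ^ p = 1 := by
    rw [← orderOf_dvd_iff_pow_eq_one, ← Nat.card_zpowers, ← hzp, hcard]
  -- the centralizer condition
  have hstar : ∀ x ∈ F.autGroup E, x * a = a * x → x ^ p = 1 → x ∈ Subgroup.zpowers a := by
    intro x hx hxa hxp
    obtain ⟨-, R, hR⟩ := (fullyNormalized_spec H.pS H.sat hE.2.1).2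
    have h1 : IsPGroup p (Subgroup.zpowers (⟨x, hx⟩ : F.autGroup E)) := by
      intro y
      obtain ⟨k, hk⟩ := Subgroup.mem_zpowers_iff.1 y.2
      refine ⟨1, Subtype.ext ?_⟩
      rw [Subgroup.coe_pow, ← hk, pow_one, ← zpow_natCast, ← zpow_mul, mul_comm, zpow_mul, zpow_natCast]
      have h2 : (⟨x, hx⟩ : F.autGroup E) ^ p = 1 := Subtype.ext hxp
      rw [h2, one_zpow]
      rfl
    have h2 := h1.inf_normalizer_sylow R
    have h3 : (⟨x, hx⟩ : F.autGroup E) ∈ Subgroup.zpowers (⟨x, hx⟩ : F.autGroup E) ⊓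
        Subgroup.normalizer (R : Set (F.autGroup E)) := by
      refine ⟨Subgroup.mem_zpowers _, Subgroup.mem_normalizer_iff.2 ?_⟩
      have hcommR : ∀ y ∈ (R : Subgroup (F.autGroup E)), (⟨x, hx⟩ : F.autGroup E) * y = y * ⟨x, hx⟩ := by
        intro y hy
        rw [hR, Subgroup.mem_subgroupOf, hzp] at hy
        obtain ⟨k, hk⟩ := Subgroup.mem_zpowers_iff.1 hy
        apply Subtype.ext
        show x * (y : MulAut E) = y * x
        rw [← hk]
        have h4 : Commute x a := hxa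
        exact (h4.zpow_right k).eq
      intro y
      constructor
      · intro hy
        rw [hcommR y hy, mul_inv_cancel_right]
        exact hy
      · intro hy
        have h4 := hcommR _ hy
        have h5 : (⟨x, hx⟩ : F.autGroup E) * y * (⟨x, hx⟩ : F.autGroup E)⁻¹ = y := by
          have h6 : (⟨x, hx⟩ : F.autGroup E) * ((⟨x, hx⟩ : F.autGroup E) * y * (⟨x, hx⟩ : F.autGroup E)⁻¹) =
            ⟨x, hx⟩ * y := by rw [h4, inv_mul_cancel_right]
          exact mul_left_cancel h6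
        rwa [h5] at hy
    rw [h2, hR] at h3
    have h4 := Subgroup.mem_subgroupOf.1 h3.2
    rw [hzp] at h4
    exact h4
  rw [← hζ]
  refine ⟨a, haG, hfix, ?_, ?_, ?_⟩
  · obtain ⟨α, hα, x, hx, hαx⟩ := H.not_inv hE
    refine ⟨α, hα, fun h => hαx ?_⟩
    obtain ⟨k, rfl⟩ := Subgroup.mem_zpowers_iff.1 ((hmemZ x).1 hx)
    rw [map_zpow, Subgroup.coe_zpow]
    exact Z.zpow_mem h k
  · intro g hg hgz
    refine hstar _ (Subgroup.mul_mem _ (Subgroup.mul_mem _ hg haG) (Subgroup.inv_mem _ hg))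
      (comm_of_mem' hc hV hζ1 hav haz ((hmemZ _).1 hgz)) ?_
    rw [conj_pow, hap, mul_one, mul_inv_cancel]
  · intro g hg hgz
    obtain ⟨t, htG, hta, htz, ht1, ht2⟩ := exists_invol' hc H.odd hV haG hav haz ha1 hstar hg
      (fun h => hgz ((hmemZ _).2 h))
    obtain ⟨τ, hτ, hτt⟩ := exists_ext H.pS H.sat hE.2.1 htG hSE (by
      intro s' hs'
      refine ⟨s', hs', fun x => ?_⟩
      have h3 : conjAut E (hSE hs') ∈ autInducedBy S E := conjAut_mem_autInducedBy (hSE hs') hs'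
      rw [hzp] at h3
      obtain ⟨k, hk⟩ := Subgroup.mem_zpowers_iff.1 h3
      have h4 : Commute t a := hta
      have h5 : t * conjAut E (hSE hs') = conjAut E (hSE hs') * t := by
        rw [← hk]; exact (h4.zpow_right k).eq
      have h6 := congrArg (fun α : MulAut E => ((α x : E) : Ω)) h5
      exact h6)
    have hτE : ∀ (x : E) (hxS : (x : Ω) ∈ S), ((τ ⟨x, hxS⟩ : S) : Ω) = (t x : E) := fun x hxS => hτt x x.2 hxS
    refine ⟨τ, ⟨hτ, ?_, ?_⟩, ?_⟩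
    · apply Subtype.ext
      have h3 := hτt z hzE H.zS
      rw [h3, ← hζ, htz, hζ]
      rfl
    · intro x hx
      have hxE : (x : Ω) ∈ E := H.W_le hE hx
      obtain ⟨n, hn⟩ := ht2 ⟨x, hxE⟩ (haW ⟨x, hxE⟩ hx)
      refine ⟨n, Subtype.ext ?_⟩
      have h3 := hτt x hxE x.2
      rw [hn] at h3
      rw [show (⟨(x : Ω), x.2⟩ : S) = x from rfl] at h3
      rw [h3, hζ]
      rfl
    · intro x hx
      rw [← ht1 x (haW x hx), hτE x (H.WS hx)]
      exact ⟨fun h => Subtype.ext h, fun h => congrArg Subtype.val h⟩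

/-- The subgroup `C`. -/
def CC (H : Sit F p Z W z) (τ : MulAut S) : Subgroup Ω :=
  { carrier := {x | ∃ h : x ∈ W, ((τ ⟨x, H.WS h⟩ : S) : Ω) = x}
    mul_mem' := by
      rintro x y ⟨hx, hx'⟩ ⟨hy, hy'⟩
      refine ⟨W.mul_mem hx hy, ?_⟩
      have h1 : (⟨x * y, H.WS (W.mul_mem hx hy)⟩ : S) = ⟨x, H.WS hx⟩ * ⟨y, H.WS hy⟩ := rfl
      rw [h1, map_mul, Subgroup.coe_mul, hx', hy']
    one_mem' := ⟨W.one_mem, by
      have h1 : (⟨1, H.WS W.one_mem⟩ : S) = 1 := rfl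
      rw [h1, map_one]; rfl⟩
    inv_mem' := by
      rintro x ⟨hx, hx'⟩
      refine ⟨W.inv_mem hx, ?_⟩
      have h1 : (⟨x⁻¹, H.WS (W.inv_mem hx)⟩ : S) = (⟨x, H.WS hx⟩ : S)⁻¹ := rfl
      rw [h1, map_inv, Subgroup.coe_inv, hx'] }

theorem CC_normal (H : Sit F p Z W z) {τ : MulAut S} (hτ : H.Tau τ) : F.IsNormal (H.CC τ) := by
  refine H89.Normal.isNormal_of_essential H.pS H.sat fun P hP => ?_
  rcases hP with rfl | hE
  · refine ⟨fun x hx => H.WS hx.1, fun α hα x hx => ?_⟩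
    obtain ⟨hxW, hx'⟩ := hx
    refine ⟨H.W_inv α hxW, ?_⟩
    have h1 := H.tau_unique (H.tau_conj hτ hα) hτ hxW
    have h2 : τ (α x) = α x := by
      have h3 : τ x = x := Subtype.ext hx'
      rw [h3, MulAut.mul_apply, MulAut.mul_apply] at h1
      have h4 := congrArg α h1
      rwa [MulAut.apply_inv_self] at h4
    exact congrArg Subtype.val h2
  · have hzE := H.W_le hE (H.ZW H.zZ)
    obtain ⟨a, haG, hfix, ⟨g₁, hg₁, hg₁z⟩, h1, h2⟩ := H.ess hE hzE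
    refine ⟨fun x hx => H.W_le hE hx.1, fun h hh x hx => ?_⟩
    obtain ⟨hxW, hx'⟩ := hx
    -- all conjugates of `a` fix `x`
    have key : ∀ g ∈ F.autGroup P, (g * a * g⁻¹) x = x := by
      intro g hg
      by_cases hgz : ((g ⟨z, hzE⟩ : P) : Ω) ∈ Z
      · obtain ⟨k, hk⟩ := Subgroup.mem_zpowers_iff.1 (h1 g hg hgz)
        rw [← hk]
        have h3 : a ∈ MulAction.stabilizer (MulAut P) x := (hfix x).2 hxW
        exact (MulAction.stabilizer (MulAut P) x).zpow_mem h3 k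
      · obtain ⟨τ', hτ', h3⟩ := h2 g hg hgz
        rw [← h3 x hxW]
        have h4 := H.tau_unique hτ' hτ (x := ⟨x, H.WS hxW⟩) hxW
        rw [h4]
        exact hx'
    have hconj : ∀ g ∈ F.autGroup P, (g * a * g⁻¹) (h x) = h x := by
      intro g hg
      have h3 := key (h⁻¹ * g) (Subgroup.mul_mem _ (Subgroup.inv_mem _ hh) hg)
      have h4 : g * a * g⁻¹ * h = h * (h⁻¹ * g * a * (h⁻¹ * g)⁻¹) := by group
      rw [← MulAut.mul_apply, h4, MulAut.mul_apply, h3]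
    have hW : ((h x : P) : Ω) ∈ W := by
      rw [← hfix]
      have h3 := hconj 1 (Subgroup.one_mem _)
      rwa [one_mul, inv_one, mul_one] at h3
    refine ⟨hW, ?_⟩
    obtain ⟨τ', hτ', h3⟩ := h2 g₁ hg₁ hg₁z
    have h4 := (h3 (h x) hW).2 (hconj g₁ hg₁)
    rw [H.tau_unique hτ' hτ (x := ⟨(h x : P), H.WS hW⟩) hW] at h4
    exact h4

theorem core_ne (H : Sit F p Z W z) {w : Ω} (hw : w ∈ W) (hwZ : w ∉ Z) : F.core ≠ ⊥ := by
  intro hO
  have hbot : ∀ Q : Subgroup Ω, F.IsNormal Q → Q = ⊥ := by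
    intro Q hQ
    have h1 : Q ≤ F.core := le_sSup hQ
    rwa [hO, le_bot_iff] at h1
  by_cases hex : ∃ E, F.IsEssential p E
  · obtain ⟨E, hE⟩ := hex
    have hzE := H.W_le hE (H.ZW H.zZ)
    obtain ⟨a, haG, hfix, ⟨g₁, hg₁, hg₁z⟩, h1, h2⟩ := H.ess hE hzE
    obtain ⟨τ, hτ, -⟩ := h2 g₁ hg₁ hg₁z
    have h3 := hbot _ (H.CC_normal hτ)
    obtain ⟨n, hn⟩ := hτ.2.2 ⟨w, H.WS hw⟩ hw
    -- `w z^m` is fixed by `τ`
    have hodd : ¬ (p : ℤ) ∣ 2 := by
      intro h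
      have h7 : p ∣ 2 := by exact_mod_cast h
      exact H.odd ((Nat.prime_dvd_prime_iff_eq hp.out Nat.prime_two).1 h7)
    obtain ⟨m, hm⟩ := ExSpA.exists_mul_add (p := p) (-n) 2 hodd
    have h4 : w * z ^ m ∈ H.CC τ := by
      have hzW : z ^ m ∈ W := W.zpow_mem (H.ZW H.zZ) m
      refine ⟨W.mul_mem hw hzW, ?_⟩
      have h5 : (⟨w * z ^ m, H.WS (W.mul_mem hw hzW)⟩ : S) = ⟨w, H.WS hw⟩ * (⟨z, H.zS⟩ : S) ^ m := rfl
      rw [h5, map_mul, map_zpow, hn, hτ.2.1]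
      show w * z ^ n * (z⁻¹) ^ m = w * z ^ m
      have h6 : z ^ (-n + 2 * m) = 1 := by
        obtain ⟨j, hj⟩ := hm
        rw [hj, zpow_mul, zpow_natCast, H.z_pow, one_zpow]
      rw [inv_zpow, mul_assoc, ← zpow_neg, ← zpow_add]
      congr 1
      have h7 : n + -m = -(-n + 2 * m) + m := by ring
      rw [h7, zpow_add, zpow_neg, h6, inv_one, one_mul]
    rw [h3, Subgroup.mem_bot] at h4
    apply hwZ
    have h5 : w = (z ^ m)⁻¹ := eq_inv_of_mul_eq_one_left h4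
    rw [h5]
    exact Z.inv_mem (Z.zpow_mem H.zZ m)
  · push Not at hex
    have h1 : F.IsNormal S := by
      refine H89.Normal.isNormal_of_essential H.pS H.sat fun P hP => ?_
      rcases hP with rfl | hE
      · exact ⟨le_rfl, fun α _ x _ => (α x).2⟩
      · exact absurd hE (hex P)
    have h2 := hbot S h1
    have h3 := H.zS
    rw [h2, Subgroup.mem_bot] at h3
    exact H.z_ne h3

end Sit

end H88.ExSpD
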