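import Cfsg.Agent.S1952
import Cfsg.Agent.Lib.H87.TrIdx
import Cfsg.Agent.Lib.H3.PBasic

/-! Yoshida's argument: transfer over a nontrivial orbit of a `p`-group. -/

set_option autoImplicit false
open Cfsg Subgroup

namespace H88.Yoshida

variable {G : Type*} [Group G] [Finite G] {p : ℕ} [Fact p.Prime]

/-- The group has `C_p ≀ C_p` as a quotient. -/
def HasWr (p : ℕ) (G : Type*) [Group G] : Prop :=
  ∃ (W : Sylow p (Equiv.Perm (Fin (p ^ 2)))) (f : G →* ↥(W : Subgroup (Equiv.Perm (Fin (p ^ 2))))),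
    Function.Surjective f

theorem prodList {M : Type*} [CommMonoid M] (F : ℕ → M) (n : ℕ) :
    ∏ j ∈ Finset.range n, F j = ((List.range n).map F).prod := by
  induction n with
  | zero => rfl
  | succ n ih =>
    rw [Finset.prod_range_succ, ih, List.range_succ, List.map_append, List.prod_append]
    simp

theorem lemY (hG : IsPGroup p G) {H : Subgroup G} [hHn : H.Normal] (hH : H.index = p) {A : Type*} [CommGroup A]
    (hA : ∀ a : A, a ^ p = 1) (μ : G → A) (hμ : ∀ x ∈ H, ∀ y ∈ H, μ (x * y) = μ x * μ y) {g u : G} (hg : g ∉ H)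
    (hu : u ∈ H) (h : ∏ j ∈ Finset.range p, μ ((g ^ j)⁻¹ * u * g ^ j) ≠ 1) : HasWr p G := by
  have hμ1 : μ 1 = 1 := by
    have h1 := hμ 1 H.one_mem 1 H.one_mem
    rw [one_mul] at h1
    exact left_eq_mul.1 h1
  have hμinv : ∀ x ∈ H, μ x⁻¹ = (μ x)⁻¹ := by
    intro x hx
    have h1 := hμ x⁻¹ (H.inv_mem hx) x hx
    rw [inv_mul_cancel, hμ1] at h1
    exact eq_inv_of_mul_eq_one_left h1.symm
  have hμpow : ∀ x ∈ H, ∀ n : ℕ, μ (x ^ n) = μ x ^ n := by
    intro x hx n
    induction n with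
    | zero => simpa using hμ1
    | succ n ih => rw [pow_succ, hμ _ (H.pow_mem hx n) x hx, ih, pow_succ]
  have hc : ∀ s : G, ∀ x ∈ H, s * x * s⁻¹ ∈ H := fun s x hx => hHn.conj_mem x hx s
  let N : Subgroup G :=
    { carrier := {x | x ∈ H ∧ ∀ s : G, μ (s * x * s⁻¹) = 1}
      mul_mem' := by
        rintro a b ⟨ha, ha'⟩ ⟨hb, hb'⟩
        refine ⟨H.mul_mem ha hb, fun s => ?_⟩
        have h1 : s * (a * b) * s⁻¹ = (s * a * s⁻¹) * (s * b * s⁻¹) := by group
        rw [h1, hμ _ (hc s a ha) _ (hc s b hb), ha', hb', one_mul]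
      one_mem' := ⟨H.one_mem, fun s => by rw [mul_one, mul_inv_cancel, hμ1]⟩
      inv_mem' := by
        rintro a ⟨ha, ha'⟩
        refine ⟨H.inv_mem ha, fun s => ?_⟩
        have h1 : s * a⁻¹ * s⁻¹ = (s * a * s⁻¹)⁻¹ := by group
        rw [h1, hμinv _ (hc s a ha), ha', inv_one] }
  have hNmem : ∀ x, x ∈ N ↔ x ∈ H ∧ ∀ s : G, μ (s * x * s⁻¹) = 1 := fun x => Iff.rfl
  have hNn : N.Normal := by
    refine ⟨fun x hx g => ⟨hc g x hx.1, fun s => ?_⟩⟩
    have h1 : s * (g * x * g⁻¹) * s⁻¹ = (s * g) * x * (s * g)⁻¹ := by group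
    rw [h1]
    exact hx.2 _
  have hNH : N ≤ H := fun x hx => hx.1
  let A' : Subgroup (G ⧸ N) := H.map (QuotientGroup.mk' N)
  have hA'n : A'.Normal := hHn.map _ (QuotientGroup.mk'_surjective N)
  have hA'i : A'.index = p := by
    rw [← hH]
    exact H.index_map_eq (QuotientGroup.mk'_surjective N) (by rw [QuotientGroup.ker_mk']; exact hNH)
  have hA'e : IsElementaryAbelian p A' := by
    constructor
    · refine ⟨⟨?_⟩⟩
      rintro ⟨_, x, hx, rfl⟩ ⟨_, y, hy, rfl⟩
      apply Subtype.ext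
      show ((x * y : G) : G ⧸ N) = ((y * x : G) : G ⧸ N)
      rw [QuotientGroup.eq, hNmem]
      refine ⟨H.mul_mem (H.inv_mem (H.mul_mem hx hy)) (H.mul_mem hy hx), fun s => ?_⟩
      have h1 : s * ((x * y)⁻¹ * (y * x)) * s⁻¹ = ((s * x * s⁻¹) * (s * y * s⁻¹))⁻¹ *
        ((s * y * s⁻¹) * (s * x * s⁻¹)) := by group
      have h2 := hc s x hx
      have h3 := hc s y hy
      rw [h1, hμ _ (H.inv_mem (H.mul_mem h2 h3)) _ (H.mul_mem h3 h2), hμinv _ (H.mul_mem h2 h3), hμ _ h2 _ h3,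
        hμ _ h3 _ h2, mul_comm (μ (s * y * s⁻¹)), inv_mul_cancel]
    · rintro _ ⟨x, hx, rfl⟩
      show ((x ^ p : G) : G ⧸ N) = 1
      rw [QuotientGroup.eq_one_iff, hNmem]
      refine ⟨H.pow_mem hx p, fun s => ?_⟩
      rw [← conj_pow, hμpow _ (hc s x hx), hA]
  obtain ⟨Q, f, hf⟩ := Cfsg.Agent.S1952.result (hG.to_quotient N) A' hA'e hA'i (u : G ⧸ N) (g : G ⧸ N)
    ⟨u, hu, rfl⟩ (fun hcon => by
      obtain ⟨x, hx, hxg⟩ := hcon
      have h1 : x⁻¹ * g ∈ N := QuotientGroup.eq.1 hxg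
      have h2 := H.mul_mem hx (hNH h1)
      rw [mul_inv_cancel_left] at h2
      exact hg h2) (fun hcon => by
      apply h
      -- the product in the quotient
      have h1 : ∀ l : List ℕ, (l.map (fun i => ((g : G ⧸ N) ^ i)⁻¹ * (u : G ⧸ N) * (g : G ⧸ N) ^ i)).prod =
          (((l.map (fun i => (g ^ i)⁻¹ * u * g ^ i)).prod : G) : G ⧸ N) := by
        intro l
        induction l with
        | nil => rfl
        | cons a l ih =>
          rw [List.map_cons, List.prod_cons, List.map_cons, List.prod_cons, ih]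
          rfl
      rw [h1, QuotientGroup.eq_one_iff, hNmem] at hcon
      have h2 := hcon.2 1
      rw [one_mul, inv_one, mul_one] at h2
      have h3 : ∀ j : ℕ, (g ^ j)⁻¹ * u * g ^ j ∈ H := by
        intro j
        have := hc (g ^ j)⁻¹ u hu
        rwa [inv_inv] at this
      have h4 : ∀ l : List ℕ, (l.map (fun i => (g ^ i)⁻¹ * u * g ^ i)).prod ∈ H ∧
          μ ((l.map (fun i => (g ^ i)⁻¹ * u * g ^ i)).prod) = (l.map (fun i => μ ((g ^ i)⁻¹ * u * g ^ i))).prod := by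
        intro l
        induction l with
        | nil => exact ⟨H.one_mem, hμ1⟩
        | cons a l ih =>
          rw [List.map_cons, List.prod_cons, List.map_cons, List.prod_cons]
          exact ⟨H.mul_mem (h3 a) ih.1, by rw [hμ _ (h3 a) _ ih.1, ih.2]⟩
      rw [(h4 _).2] at h2
      rw [← h2]
      exact prodList _ _)
  exact ⟨Q, f.comp (QuotientGroup.mk' N), hf.comp (QuotientGroup.mk'_surjective N)⟩

/-! ### Cocycles over an action -/

variable {I : Type*} [MulAction G I] [Fintype I] [DecidableEq I] {A : Type*} [CommGroup A]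

omit [Finite G] in
theorem exists_pow {H : Subgroup G} [H.Normal] (hH : H.index = p) {g : G} (hg : g ∉ H) (x : G) :
    ∃ j < p, (g ^ j)⁻¹ * x ∈ H := by
  have hc : Nat.card (G ⧸ H) = p := hH
  have hp : p.Prime := Fact.out
  have : Finite (G ⧸ H) := Nat.finite_of_card_ne_zero (by rw [hc]; exact hp.ne_zero)
  have hg' : (g : G ⧸ H) ≠ 1 := fun h => hg ((QuotientGroup.eq_one_iff g).1 h)
  obtain ⟨n, hn⟩ := mem_powers_of_prime_card hc hg' (g' := (x : G ⧸ H))
  refine ⟨n % p, Nat.mod_lt _ hp.pos, ?_⟩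
  have h1 : (g : G ⧸ H) ^ (n % p) = x := by
    have h2 : (g : G ⧸ H) ^ p = 1 := by rw [← hc]; exact pow_card_eq_one'
    rw [← pow_mod_orderOf, Nat.mod_mod_of_dvd _ (orderOf_dvd_of_pow_eq_one h2), pow_mod_orderOf]
    exact hn
  exact QuotientGroup.eq.1 (by rw [← h1]; rfl)

omit [Finite G] in
theorem eq_of_pow {H : Subgroup G} [H.Normal] (hH : H.index = p) {g : G} (hg : g ∉ H) {j k : ℕ} (hj : j < p)
    (hk : k < p) (h : (g ^ j)⁻¹ * g ^ k ∈ H) : j = k := by
  have hc : Nat.card (G ⧸ H) = p := hH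
  have hp : p.Prime := Fact.out
  have hg' : (g : G ⧸ H) ≠ 1 := fun h => hg ((QuotientGroup.eq_one_iff g).1 h)
  have h2 : (g : G ⧸ H) ^ p = 1 := by rw [← hc]; exact pow_card_eq_one'
  have h3 : orderOf (g : G ⧸ H) = p := orderOf_eq_prime h2 hg'
  have h4 : (g : G ⧸ H) ^ j = (g : G ⧸ H) ^ k := QuotientGroup.eq.2 h
  rw [pow_inj_mod, h3, Nat.mod_eq_of_lt hj, Nat.mod_eq_of_lt hk] at h4
  exact h4

open Classical in
/-- The block of `i₀` under `H`. -/
noncomputable def blk (H : Subgroup G) (i₀ : I) : Finset I := Finset.univ.filter fun i => ∃ h ∈ H, h • i₀ = i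

omit [Finite G] [DecidableEq I] in
theorem mem_blk {H : Subgroup G} {i₀ i : I} : i ∈ blk H i₀ ↔ ∃ h ∈ H, h • i₀ = i := by
  classical
  unfold blk
  refine Finset.mem_filter.trans ?_
  exact and_iff_right (Finset.mem_univ _)

omit [Finite G] in
theorem blk_decomp {H : Subgroup G} [H.Normal] (hH : H.index = p) {i₀ : I} (hst : ∀ x : G, x • i₀ = i₀ → x ∈ H)
    {g : G} (hg : g ∉ H) (f : I → A) :
    ∏ i ∈ blk (⊤ : Subgroup G) i₀, f i = ∏ j ∈ Finset.range p, ∏ i ∈ blk H i₀, f (g ^ j • i) := by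
  have h1 : blk (⊤ : Subgroup G) i₀ = (Finset.range p).biUnion fun j => (blk H i₀).image fun i => g ^ j • i := by
    ext i
    rw [Finset.mem_biUnion, mem_blk]
    constructor
    · rintro ⟨x, -, rfl⟩
      obtain ⟨j, hj, hx⟩ := exists_pow hH hg x
      refine ⟨j, Finset.mem_range.2 hj, Finset.mem_image.2 ⟨((g ^ j)⁻¹ * x) • i₀, mem_blk.2 ⟨_, hx, rfl⟩, ?_⟩⟩
      rw [smul_smul, mul_inv_cancel_left]
    · rintro ⟨j, -, hi⟩
      obtain ⟨k, hk, rfl⟩ := Finset.mem_image.1 hi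
      obtain ⟨h, -, rfl⟩ := mem_blk.1 hk
      exact ⟨g ^ j * h, Subgroup.mem_top _, mul_smul _ _ _⟩
  rw [h1, Finset.prod_biUnion]
  · refine Finset.prod_congr rfl fun j _ => ?_
    rw [Finset.prod_image]
    intro a _ b _ hab
    exact smul_left_cancel _ hab
  · intro j hj k hk hjk
    show Disjoint _ _
    rw [Finset.disjoint_left]
    intro i hi1 hi2
    obtain ⟨a, ha, rfl⟩ := Finset.mem_image.1 hi1
    obtain ⟨b, hb, hab⟩ := Finset.mem_image.1 hi2
    obtain ⟨x, hx, rfl⟩ := mem_blk.1 ha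
    obtain ⟨y, hy, rfl⟩ := mem_blk.1 hb
    apply hjk
    apply eq_of_pow hH hg (Finset.mem_range.1 hj) (Finset.mem_range.1 hk)
    have h2 : ((g ^ j * x)⁻¹ * (g ^ k * y)) • i₀ = i₀ := by
      have h3 : (g ^ j * x) • i₀ = (g ^ k * y) • i₀ := by
        rw [mul_smul, mul_smul]
        exact hab.symm
      rw [mul_smul, ← h3, inv_smul_smul]
    have h3 := hst _ h2
    have h4 : (g ^ j)⁻¹ * g ^ k = x * ((g ^ j * x)⁻¹ * (g ^ k * y)) * y⁻¹ := by group
    rw [h4]
    exact H.mul_mem (H.mul_mem hx h3) (H.inv_mem hy)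

omit [Finite G] [DecidableEq I] in
theorem blk_perm {H : Subgroup G} {i₀ : I} {h : G} (hh : h ∈ H) (f : I → A) :
    ∏ i ∈ blk H i₀, f (h • i) = ∏ i ∈ blk H i₀, f i := by
  refine Finset.prod_bij (fun i _ => h • i) ?_ ?_ ?_ ?_
  · intro i hi
    obtain ⟨x, hx, rfl⟩ := mem_blk.1 hi
    exact mem_blk.2 ⟨h * x, H.mul_mem hh hx, mul_smul _ _ _⟩
  · intro a _ b _ hab
    exact smul_left_cancel _ hab
  · intro i hi
    obtain ⟨x, hx, rfl⟩ := mem_blk.1 hi
    refine ⟨h⁻¹ • x • i₀, mem_blk.2 ⟨h⁻¹ * x, H.mul_mem (H.inv_mem hh) hx, mul_smul _ _ _⟩, smul_inv_smul _ _⟩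
  · intro i _
    rfl

/-- The product over a nontrivial orbit. -/
theorem orbit_one (hG : IsPGroup p G) (hA : ∀ a : A, a ^ p = 1) (F : G → I → A)
    (hF : ∀ a b i, F (a * b) i = F a (b • i) * F b i) (hW : ¬ HasWr p G) (u : G)
    (hst : ∀ z ∈ Subgroup.zpowers (u ^ p), ∀ i, z • i = i → F z i = 1) {i₀ : I} (hi : ∃ x : G, x • i₀ ≠ i₀) :
    ∏ i ∈ blk (⊤ : Subgroup G) i₀, F u i = 1 := by
  obtain ⟨x₀, hx₀⟩ := hi
  have hne : MulAction.stabilizer G i₀ ≠ ⊤ := by
    intro h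
    exact hx₀ (MulAction.mem_stabilizer_iff.1 (h ▸ Subgroup.mem_top x₀))
  obtain ⟨H, hHc, hHle⟩ := (eq_top_or_exists_le_coatom (MulAction.stabilizer G i₀)).resolve_left hne
  have hHn : H.Normal := H3.PBasic.normal_of_coatom hG hHc
  have hHi : H.index = p := H3.PBasic.index_of_coatom hG hHc
  have hst' : ∀ x : G, x • i₀ = i₀ → x ∈ H := fun x hx => hHle (MulAction.mem_stabilizer_iff.2 hx)
  by_cases hu : u ∈ H
  · obtain ⟨g, hg⟩ : ∃ g, g ∉ H := by
      by_contra hcon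
      push Not at hcon
      exact hHc.1 (eq_top_iff.2 fun x _ => hcon x)
    by_contra hne1
    apply hW
    let μ : G → A := fun h => ∏ i ∈ blk H i₀, F h i
    have hμ : ∀ x ∈ H, ∀ y ∈ H, μ (x * y) = μ x * μ y := by
      intro x _ y hy
      show ∏ i ∈ blk H i₀, F (x * y) i = _
      rw [Finset.prod_congr rfl fun i _ => hF x y i, Finset.prod_mul_distrib, blk_perm hy (fun i => F x i)]
    refine lemY hG hHi hA μ hμ hg hu ?_
    have h1 : ∀ j, μ ((g ^ j)⁻¹ * u * g ^ j) = ∏ i ∈ blk H i₀, F u (g ^ j • i) := by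
      intro j
      have hu' : (g ^ j)⁻¹ * u * g ^ j ∈ H := by
        have := hHn.conj_mem u hu (g ^ j)⁻¹
        rwa [inv_inv] at this
      have h2 : ∀ i, F u (g ^ j • i) =
          (F (g ^ j) (((g ^ j)⁻¹ * u * g ^ j) • i) * F ((g ^ j)⁻¹ * u * g ^ j) i) * (F (g ^ j) i)⁻¹ := by
        intro i
        rw [eq_mul_inv_iff_mul_eq, ← hF, ← hF]
        congr 1
        group
      rw [Finset.prod_congr rfl fun i _ => h2 i, Finset.prod_mul_distrib, Finset.prod_mul_distrib,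
        blk_perm hu' (fun i => F (g ^ j) i), Finset.prod_inv_distrib, mul_comm (∏ i ∈ blk H i₀, F (g ^ j) i),
        mul_inv_cancel_right]
    rw [Finset.prod_congr rfl fun j _ => h1 j, ← blk_decomp hHi hst' hg (fun i => F u i)]
    exact hne1
  · rw [blk_decomp hHi hst' hu, Finset.prod_comm]
    have h1 : F 1 = fun _ => 1 := by
      funext i
      have h := hF 1 1 i
      rw [one_mul, one_smul] at h
      exact left_eq_mul.1 h
    have h2 : ∀ (n : ℕ) (i : I), ∏ j ∈ Finset.range n, F u (u ^ j • i) = F (u ^ n) i := by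
      intro n i
      induction n with
      | zero => rw [pow_zero, h1]; rfl
      | succ n ih => rw [Finset.prod_range_succ, ih, pow_succ', hF, mul_comm]
    rw [Finset.prod_congr rfl fun i _ => h2 p i]
    obtain ⟨w, hw⟩ := H87.TrIdx.gauge (X := Subgroup.zpowers (u ^ p)) (1 : _ →* A) (fun z i => F (z : G) i)
      (fun a b i => hF a b i) (fun i a ha => hst a a.2 i ha)
    have h3 : ∀ i, F (u ^ p) i = w (u ^ p • i) * (w i)⁻¹ := by
      intro i
      have h4 := hw ⟨u ^ p, Subgroup.mem_zpowers _⟩ i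
      rw [MonoidHom.one_apply, one_mul] at h4
      exact h4
    have hup : u ^ p ∈ H := by
      have h4 : ((u : G ⧸ H)) ^ p = 1 := by rw [← hHi]; exact pow_card_eq_one'
      exact (QuotientGroup.eq_one_iff _).1 h4
    rw [Finset.prod_congr rfl fun i _ => h3 i, Finset.prod_mul_distrib, blk_perm hup (fun i => w i),
      Finset.prod_inv_distrib, mul_inv_cancel]

/-- Yoshida: only the fixed points contribute to the transfer. -/
theorem prod_eq (hG : IsPGroup p G) (hA : ∀ a : A, a ^ p = 1) (F : G → I → A)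
    (hF : ∀ a b i, F (a * b) i = F a (b • i) * F b i) (hW : ¬ HasWr p G) (u : G)
    (hst : ∀ z ∈ Subgroup.zpowers (u ^ p), ∀ i, z • i = i → F z i = 1) {a : A}
    (hfix : ∀ i, (∀ g : G, g • i = i) → F u i = a) : ∏ i, F u i = a ^ Nat.card I := by
  classical
  let q : I → MulAction.orbitRel.Quotient G I := Quotient.mk _
  have : Fintype (MulAction.orbitRel.Quotient G I) := Fintype.ofFinite _
  have h1 : ∏ i, F u i = ∏ i, if (∀ g : G, g • i = i) then F u i else 1 := by
    rw [← Finset.prod_fiberwise Finset.univ q, ← Finset.prod_fiberwise Finset.univ q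
      (fun i => if (∀ g : G, g • i = i) then F u i else 1)]
    refine Finset.prod_congr rfl fun c _ => ?_
    obtain ⟨i₀, rfl⟩ := Quotient.exists_rep c
    have h2 : (Finset.univ.filter fun i => q i = Quotient.mk _ i₀) = blk (⊤ : Subgroup G) i₀ := by
      ext i
      rw [Finset.mem_filter, mem_blk]
      constructor
      · rintro ⟨-, h⟩
        have h3 : i ∈ MulAction.orbit G i₀ := Quotient.exact h
        obtain ⟨g, hg⟩ := h3
        exact ⟨g, Subgroup.mem_top _, hg⟩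
      · rintro ⟨g, -, rfl⟩
        exact ⟨Finset.mem_univ _, Quotient.sound ⟨g, rfl⟩⟩
    rw [h2]
    by_cases h3 : ∀ g : G, g • i₀ = i₀
    · refine Finset.prod_congr rfl fun i hi => ?_
      obtain ⟨g, -, rfl⟩ := mem_blk.1 hi
      rw [h3 g, if_pos h3]
    · push Not at h3
      rw [orbit_one hG hA F hF hW u hst h3, Finset.prod_eq_one]
      intro i hi
      obtain ⟨g, -, rfl⟩ := mem_blk.1 hi
      rw [if_neg]
      intro hcon
      obtain ⟨x, hx⟩ := h3
      have h4 := hcon (g * x * g⁻¹)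
      rw [mul_smul, inv_smul_smul, mul_smul] at h4
      exact hx (smul_left_cancel g h4)
  rw [h1, Finset.prod_ite, Finset.prod_const_one, mul_one,
    Finset.prod_congr rfl fun i hi => hfix i (Finset.mem_filter.1 hi).2, Finset.prod_const]
  have h2 := hG.card_modEq_card_fixedPoints I
  have h3 : Nat.card (MulAction.fixedPoints G I) = (Finset.univ.filter fun i : I => ∀ g : G, g • i = i).card := by
    rw [Nat.card_eq_fintype_card, ← Fintype.card_subtype]
    rfl
  rw [← h3, pow_eq_pow_iff_modEq]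
  exact h2.symm.of_dvd (orderOf_dvd_of_pow_eq_one (hA a))

end H88.Yoshida
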