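import Cfsg.Agent.Lib.H88.ExSpD
import Cfsg.Agent.Lib.H88.Yoshida

/-! Extraspecial subgroups of index `p` in fusion systems: the centre (S5178). -/

set_option autoImplicit false
open Cfsg Cfsg.FusionSystem
open H86.FusBasic H86.FusSat H88.ExSpC

namespace H88.ExSpE

variable {Ω : Type*} [Group Ω] {S : Subgroup Ω} {p : ℕ}

theorem center_eq [Finite S] [hp : Fact p.Prime] (hp2 : p ≠ 2) (hS : IsPGroup p S)
    {Q : Subgroup Ω} (hQS : Q ≤ S) (hQ : IsExtraspecial p Q) (hQi : (Q.subgroupOf S).index = p)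
    {F : FusionSystem S} (hF : F.IsSaturated p) (hO : F.core = ⊥) :
    S ⊓ Subgroup.centralizer (S : Set Ω) = Q ⊓ Subgroup.centralizer (Q : Set Ω) := by
  have hfQ : Finite Q := finite_of_le hQS
  obtain ⟨hZc, hcomm, hpow⟩ := facts hQ
  obtain ⟨Z, hZ⟩ : ∃ Z, Z = Q ⊓ Subgroup.centralizer (Q : Set Ω) := ⟨_, rfl⟩
  obtain ⟨W, hW⟩ : ∃ W, W = S ⊓ Subgroup.centralizer (S : Set Ω) := ⟨_, rfl⟩
  rw [← hZ] at hZc hcomm hpow ⊢
  rw [← hW]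
  have hQn : (Q.subgroupOf S).Normal := H3.PBasic.normal_of_index hS hQi
  have hQc : ∀ s ∈ S, ∀ q ∈ Q, s * q * s⁻¹ ∈ Q := by
    intro s hs q hq
    have := hQn.conj_mem ⟨q, hQS hq⟩ (Subgroup.mem_subgroupOf.2 hq) ⟨s, hs⟩
    exact Subgroup.mem_subgroupOf.1 this
  have hmemZ : ∀ x, x ∈ Z ↔ x ∈ Q ∧ ∀ q ∈ Q, q * x = x * q := by
    intro x
    rw [hZ]
    exact ⟨fun h => ⟨h.1, Subgroup.mem_centralizer_iff.1 h.2⟩, fun h => ⟨h.1, Subgroup.mem_centralizer_iff.2 h.2⟩⟩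
  have hmemW : ∀ x, x ∈ W ↔ x ∈ S ∧ ∀ q ∈ S, q * x = x * q := by
    intro x
    rw [hW]
    exact ⟨fun h => ⟨h.1, Subgroup.mem_centralizer_iff.1 h.2⟩, fun h => ⟨h.1, Subgroup.mem_centralizer_iff.2 h.2⟩⟩
  have hZQ : Z ≤ Q := fun x hx => ((hmemZ x).1 hx).1
  have hZn : ∀ s ∈ S, ∀ z ∈ Z, s * z * s⁻¹ ∈ Z := by
    intro s hs z hz
    have hz' := (hmemZ z).1 hz
    refine (hmemZ _).2 ⟨hQc s hs z hz'.1, fun q hq => ?_⟩
    have h1 := hz'.2 _ (hQc s⁻¹ (S.inv_mem hs) q hq)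
    calc q * (s * z * s⁻¹) = s * (s⁻¹ * q * s⁻¹⁻¹ * z) * s⁻¹ := by group
      _ = s * (z * (s⁻¹ * q * s⁻¹⁻¹)) * s⁻¹ := by rw [h1]
      _ = s * z * s⁻¹ * q := by group
  have hZcen := ExSpD.central_of_card hS (hZQ.trans hQS) hZc hZn
  have hZW : Z ≤ W := fun z hz => (hmemW z).2 ⟨hQS (hZQ hz), fun s hs => hZcen s hs z hz⟩
  refine le_antisymm ?_ hZW
  intro w hw
  by_contra hwZ
  have hw' := (hmemW w).1 hw
  have hwQ : w ∉ Q := fun h => hwZ ((hmemZ w).2 ⟨h, fun q hq => hw'.2 q (hQS hq)⟩)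
  have hwc : ∀ s ∈ S, Commute w s := fun s hs => (hw'.2 s hs).symm
  have hdec : ∀ x ∈ S, ∃ j : ℕ, ∃ q ∈ Q, x = w ^ j * q := by
    intro x hx
    obtain ⟨j, -, hj⟩ := Yoshida.exists_pow hQi (g := (⟨w, hw'.1⟩ : S)) (fun h => hwQ (Subgroup.mem_subgroupOf.1 h)) ⟨x, hx⟩
    refine ⟨j, _, Subgroup.mem_subgroupOf.1 hj, ?_⟩
    show x = w ^ j * ((w ^ j)⁻¹ * x)
    rw [mul_inv_cancel_left]
  have hwp : w ^ p ∈ Z := by
    have h1 : (⟨w, hw'.1⟩ : S) ^ p ∈ Q.subgroupOf S := H3.PBasic.pow_mem_of_index hQi _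
    have h2 : w ^ p ∈ Q := Subgroup.mem_subgroupOf.1 h1
    exact (hmemZ _).2 ⟨h2, fun q hq => ((hwc q (hQS hq)).symm.pow_right p).eq⟩
  obtain ⟨z, hz⟩ : ∃ z : Ω, Z = Subgroup.zpowers z := by
    have hc : IsCyclic Z := isCyclic_of_prime_card hZc
    obtain ⟨⟨z, hzZ⟩, hz⟩ := hc.exists_generator
    refine ⟨z, le_antisymm (fun x hx => ?_) (Subgroup.zpowers_le.2 hzZ)⟩
    obtain ⟨k, hk⟩ := Subgroup.mem_zpowers_iff.1 (hz ⟨x, hx⟩)
    exact Subgroup.mem_zpowers_iff.2 ⟨k, congrArg Subtype.val hk⟩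
  refine absurd hO (ExSpD.Sit.core_ne (p := p) (Z := Z) (W := W) (z := z) ⟨hF, hS, hp2, hW, hZc, hZW, hz, ?_, ?_, ?_⟩ hw hwZ)
  · intro x hx y hy
    obtain ⟨i, q, hq, rfl⟩ := hdec x hx
    obtain ⟨j, r, hr, rfl⟩ := hdec y hy
    have c1 : Commute (w ^ i) q := (hwc q (hQS hq)).pow_left i
    have c2 : Commute (w ^ i) r := (hwc r (hQS hr)).pow_left i
    have c3 : Commute (w ^ j) q := (hwc q (hQS hq)).pow_left j
    have c5 : Commute (w ^ i) (w ^ j) := (Commute.refl w).pow_pow i j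
    have h1 : (w ^ i * q)⁻¹ * (w ^ j * r * (w ^ i * q) * (w ^ j * r)⁻¹) = q⁻¹ * (r * q * r⁻¹) := by
      have e1 : w ^ j * r * (w ^ i * q) * (w ^ j * r)⁻¹ = w ^ i * (r * q * r⁻¹) := by
        calc w ^ j * r * (w ^ i * q) * (w ^ j * r)⁻¹ = w ^ j * (r * w ^ i) * q * r⁻¹ * (w ^ j)⁻¹ := by group
          _ = w ^ j * (w ^ i * r) * q * r⁻¹ * (w ^ j)⁻¹ := by rw [c2.eq]
          _ = (w ^ j * (w ^ i * (r * q * r⁻¹))) * (w ^ j)⁻¹ := by group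
          _ = ((w ^ i * (r * q * r⁻¹)) * w ^ j) * (w ^ j)⁻¹ := by
            have hm : w ^ i * (r * q * r⁻¹) ∈ S := S.mul_mem (S.pow_mem hw'.1 i) (S.mul_mem (S.mul_mem (hQS hr) (hQS hq)) (S.inv_mem (hQS hr)))
            rw [((hwc _ hm).pow_left j).eq]
          _ = _ := by rw [mul_inv_cancel_right]
      rw [e1]
      group
    rw [h1]
    exact hcomm q hq r hr
  · intro x hx
    obtain ⟨i, q, hq, rfl⟩ := hdec x hx
    have c1 : Commute (w ^ i) q := (hwc q (hQS hq)).pow_left i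
    rw [c1.mul_pow, ← pow_mul, mul_comm i p, pow_mul]
    exact Z.mul_mem (Z.pow_mem hwp i) (hpow q hq)
  · by_contra hcon
    push Not at hcon
    have h1 : ∀ x ∈ Q, x ∈ Z := fun x hx => (hmemZ x).2 ⟨hx, fun q hq => hcon q (hQS hq) x (hQS hx)⟩
    have h2 : commutator ↥Q = ⊥ := by
      rw [commutator_def, Subgroup.commutator_eq_bot_iff_le_centralizer]
      intro x _
      refine Subgroup.mem_centralizer_iff.2 fun y _ => Subtype.ext (hcon y (hQS y.2) x (hQS x.2))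
    have h3 := hQ.2
    rw [← hQ.1.2.2, h2, Subgroup.card_bot] at h3
    exact hp.out.one_lt.ne h3

end H88.ExSpE
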