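import Cfsg.Agent.Lib.H88.P5W
import Cfsg.Agent.Lib.H89.MaxCl
import Cfsg.Agent.Lib.H57.Small6

/-! `p`-groups of maximal class and order `p^5`. -/

set_option autoImplicit false
open scoped commutatorElement
open Cfsg H57.Small

namespace H88.P5

variable {G : Type*} [Group G]

theorem cm_symm {N : Subgroup G} {x y : G} (h : cm N x y) : cm N y x := by
  unfold cm at h ⊢
  have h1 : y * x * y⁻¹ * x⁻¹ = (x * y * x⁻¹ * y⁻¹)⁻¹ := by group
  rw [h1]; exact inv_mem h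

/-- The centralizer of `y` modulo `N`. -/
def cmod (N : Subgroup G) [hN : N.Normal] (y : G) : Subgroup G :=
  (Subgroup.centralizer {(QuotientGroup.mk y : G ⧸ N)}).comap (QuotientGroup.mk' N)

theorem mem_cmod {N : Subgroup G} [hN : N.Normal] {x y : G} : x ∈ cmod N y ↔ cm N x y := by
  rw [cm_iff]
  unfold cmod
  rw [Subgroup.mem_comap, Subgroup.mem_centralizer_singleton_iff]
  exact ⟨fun h => h, fun h => h⟩

/-- A maximal subgroup and an outside element generate. -/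
theorem eq_top_of_index {p : ℕ} [hp : Fact p.Prime] {M K : Subgroup G} (hM : M.index = p) (hMK : M ≤ K)
    {x : G} (hx : x ∈ K) (hxM : x ∉ M) : K = ⊤ := by
  rw [← Subgroup.index_eq_one]
  have h1 := Subgroup.relIndex_mul_index hMK
  rw [hM] at h1
  rcases (Nat.dvd_prime hp.out).1 (Dvd.intro_left _ h1) with h | h
  · exact h
  · exfalso
    apply hxM
    rw [h] at h1
    have h2 : M.relIndex K = 1 := Nat.eq_of_mul_eq_mul_right hp.out.pos (by rw [h1, one_mul])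
    exact Subgroup.relIndex_eq_one.1 h2 hx

structure Dat (p : ℕ) (Z1 Z2 Z3 M : Subgroup G) : Prop where
  ch1 : Ch Z1
  ch2 : Ch Z2
  ch3 : Ch Z3
  chM : Ch M
  h12 : Z1 ≤ Z2
  h23 : Z2 ≤ Z3
  h3M : Z3 ≤ M
  card1 : Nat.card Z1 = p
  card2 : Nat.card Z2 = p ^ 2
  card3 : Nat.card Z3 = p ^ 3
  cardM : Nat.card M = p ^ 4
  idxM : M.index = p
  com : ∀ x y : G, cm Z3 x y
  z1 : ∀ z ∈ Z1, ∀ g : G, z * g = g * z
  z1' : ∀ z : G, (∀ g : G, z * g = g * z) → z ∈ Z1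
  z2 : ∀ z ∈ Z2, ∀ g : G, cm Z1 z g
  z2' : ∀ z : G, (∀ g : G, cm Z1 z g) → z ∈ Z2
  z3 : ∀ z ∈ Z3, ∀ g : G, cm Z2 z g
  z3' : ∀ z : G, (∀ g : G, cm Z2 z g) → z ∈ Z3
  mm : ∀ x ∈ M, ∀ y ∈ M, cm Z1 x y
  m2 : ∀ x ∈ M, ∀ z ∈ Z2, x * z = z * x
  m2' : ∀ x : G, (∀ z ∈ Z2, x * z = z * x) → x ∈ M
  ab3 : ∀ x ∈ Z3, ∀ y ∈ Z3, x * y = y * x

theorem normal_of_ch {A : Subgroup G} (h : Ch A) : A.Normal :=
  ⟨fun x hx g => h (MulAut.conj g) x hx⟩

theorem ch_ucs (i : ℕ) : Ch (Subgroup.upperCentralSeries G i) := by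
  intro φ x hx
  have h1 : (Subgroup.upperCentralSeries G i).Characteristic := inferInstance
  have h2 := h1.fixed φ
  have h3 : x ∈ (Subgroup.upperCentralSeries G i).comap (MulEquiv.toMonoidHom φ) := by rw [h2]; exact hx
  exact h3

theorem mem_ucs {i : ℕ} {z : G} : z ∈ Subgroup.upperCentralSeries G (i + 1) ↔
    ∀ g : G, cm (Subgroup.upperCentralSeries G i) z g := Subgroup.mem_upperCentralSeries_succ_iff

theorem exists_dat [Finite G] {p : ℕ} [hp : Fact p.Prime] (hc : Nat.card G = p ^ 5)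
    (hcl : Group.nilpotencyClass G = 4)
    (hNA : ∀ A : Subgroup G, (∀ x ∈ A, ∀ y ∈ A, x * y = y * x) → Nat.card A ≠ p ^ 4) :
    Dat p (Subgroup.upperCentralSeries G 1) (Subgroup.upperCentralSeries G 2)
      (Subgroup.upperCentralSeries G 3) (Subgroup.centralizer (Subgroup.upperCentralSeries G 2 : Set G)) := by
  have hG : IsPGroup p G := IsPGroup.of_card hc
  have hu := fun i (hi : i ≤ 3) => H89.MaxCl.upper_eq (p := p) (n := 5) (by norm_num) hc hcl (i := i) (by omega)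
  set Z1 := Subgroup.upperCentralSeries G 1 with hZ1
  set Z2 := Subgroup.upperCentralSeries G 2 with hZ2
  set Z3 := Subgroup.upperCentralSeries G 3 with hZ3
  set M := Subgroup.centralizer (Z2 : Set G) with hM
  have ch1 : Ch Z1 := ch_ucs 1
  have ch2 : Ch Z2 := ch_ucs 2
  have ch3 : Ch Z3 := ch_ucs 3
  have chM : Ch M := ch2.centralizer
  haveI n1 := normal_of_ch ch1
  haveI n2 := normal_of_ch ch2
  haveI n3 := normal_of_ch ch3
  haveI nM := normal_of_ch chM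
  have card1 : Nat.card Z1 = p := by rw [(hu 1 (by norm_num)).2, pow_one]
  have card2 : Nat.card Z2 = p ^ 2 := (hu 2 (by norm_num)).2
  have card3 : Nat.card Z3 = p ^ 3 := (hu 3 (by norm_num)).2
  have h12 : Z1 ≤ Z2 := Subgroup.upperCentralSeries_mono G (by norm_num)
  have h23 : Z2 ≤ Z3 := Subgroup.upperCentralSeries_mono G (by norm_num)
  have z1 : ∀ z ∈ Z1, ∀ g : G, z * g = g * z := by
    intro z hz g
    rw [hZ1, Subgroup.upperCentralSeries_one] at hz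
    exact (Subgroup.mem_center_iff.1 hz g).symm
  have z1' : ∀ z : G, (∀ g : G, z * g = g * z) → z ∈ Z1 := by
    intro z hz
    rw [hZ1, Subgroup.upperCentralSeries_one, Subgroup.mem_center_iff]
    exact fun g => (hz g).symm
  have z2 : ∀ z ∈ Z2, ∀ g : G, cm Z1 z g := fun z hz => mem_ucs.1 hz
  have z2' : ∀ z : G, (∀ g : G, cm Z1 z g) → z ∈ Z2 := fun z hz => mem_ucs.2 hz
  have z3 : ∀ z ∈ Z3, ∀ g : G, cm Z2 z g := fun z hz => mem_ucs.1 hz
  have z3' : ∀ z : G, (∀ g : G, cm Z2 z g) → z ∈ Z3 := fun z hz => mem_ucs.2 hz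
  have com : ∀ x y : G, cm Z3 x y := by
    intro x y
    have h1 : Z3 = Subgroup.lowerCentralSeries (⊤ : Subgroup G) 1 := (hu 3 (by norm_num)).1
    show x * y * x⁻¹ * y⁻¹ ∈ Z3
    rw [h1, Subgroup.lowerCentralSeries_succ]
    exact Subgroup.commutator_mem_commutator (Subgroup.mem_top _) (Subgroup.mem_top _)
  have m2 : ∀ x ∈ M, ∀ z ∈ Z2, x * z = z * x := fun x hx z hz => (Subgroup.mem_centralizer_iff.1 hx z hz).symm
  have m2' : ∀ x : G, (∀ z ∈ Z2, x * z = z * x) → x ∈ M := fun x hx =>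
    Subgroup.mem_centralizer_iff.2 fun z hz => (hx z hz).symm
  -- the homomorphism `g ↦ [g, z]`
  have hhom : ∀ z ∈ Z2, ∀ g h : G, (g * h) * z * (g * h)⁻¹ * z⁻¹ = (g * z * g⁻¹ * z⁻¹) * (h * z * h⁻¹ * z⁻¹) := by
    intro z hz g h
    have h1 : h * z * h⁻¹ * z⁻¹ ∈ Z1 := cm_symm (z2 z hz h)
    have h2 := z1 _ h1 g
    have h3 := z1 _ h1 (g * z * g⁻¹ * z⁻¹)
    calc (g * h) * z * (g * h)⁻¹ * z⁻¹ = (g * (h * z * h⁻¹ * z⁻¹)) * (z * g⁻¹ * z⁻¹) := by group
      _ = ((h * z * h⁻¹ * z⁻¹) * g) * (z * g⁻¹ * z⁻¹) := by rw [h2]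
      _ = (h * z * h⁻¹ * z⁻¹) * (g * z * g⁻¹ * z⁻¹) := by group
      _ = _ := h3
  let f : ∀ z ∈ Z2, (G →* Z1) := fun z hz =>
    { toFun := fun g => ⟨g * z * g⁻¹ * z⁻¹, cm_symm (z2 z hz g)⟩
      map_one' := by apply Subtype.ext; simp
      map_mul' := fun g h => Subtype.ext (hhom z hz g h) }
  have hfker : ∀ z (hz : z ∈ Z2) (g : G), g ∈ (f z hz).ker ↔ g * z = z * g := by
    intro z hz g
    rw [MonoidHom.mem_ker]
    constructor
    · intro h
      have h1 : g * z * g⁻¹ * z⁻¹ = 1 := congrArg Subtype.val h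
      rw [mul_inv_eq_one, mul_inv_eq_iff_eq_mul] at h1
      exact h1
    · intro h
      apply Subtype.ext
      show g * z * g⁻¹ * z⁻¹ = 1
      rw [h]; group
  have hZ1c : ∀ a b : Z1, a * b = b * a := fun a b => Subtype.ext (z1 a a.2 b)
  -- commutators centralize `Z2`
  have h3M : Z3 ≤ M := by
    have h1 : Z3 = Subgroup.lowerCentralSeries (⊤ : Subgroup G) 1 := (hu 3 (by norm_num)).1
    rw [h1, Subgroup.lowerCentralSeries_succ, Subgroup.lowerCentralSeries_zero, Subgroup.commutator_le]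
    intro a _ b _
    apply m2'
    intro z hz
    rw [← hfker z hz, MonoidHom.mem_ker, commutatorElement_def, map_mul, map_mul, map_mul, map_inv, map_inv,
      hZ1c (f z hz a)]
    group
  obtain ⟨z0, hz0, hz01⟩ : ∃ z ∈ Z2, z ∉ Z1 := by
    by_contra hne
    push Not at hne
    have := Subgroup.card_le_of_le (show Z2 ≤ Z1 from hne)
    rw [card1, card2] at this
    have h5 : p < p ^ 2 := by
      calc p = p ^ 1 := (pow_one p).symm
        _ < p ^ 2 := Nat.pow_lt_pow_right hp.out.one_lt (by norm_num)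
    omega
  have hrel : Z1.relIndex Z2 = p := by
    have h1 := Subgroup.relIndex_mul_relIndex ⊥ Z1 Z2 bot_le h12
    rw [Subgroup.relIndex_bot_left, Subgroup.relIndex_bot_left, card1, card2, pow_two] at h1
    exact Nat.eq_of_mul_eq_mul_left hp.out.pos h1
  have hMker : M = (f z0 hz0).ker := by
    apply le_antisymm
    · intro x hx
      exact (hfker z0 hz0 x).2 (m2 x hx z0 hz0)
    · intro x hx
      replace hx := (hfker z0 hz0 x).1 hx
      apply m2'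
      intro z hz
      obtain ⟨m, u, hu', rfl⟩ := exists_wt (p := p) hrel hz0 hz01 hz
      have h1 : Commute x z0 := hx
      have h2 : Commute x u := (z1 u hu' x).symm
      exact ((h1.pow_right m).mul_right h2).eq
  have hMne : M ≠ ⊤ := by
    intro h
    apply hz01
    apply z1'
    intro g
    have : g ∈ M := by rw [h]; exact Subgroup.mem_top g
    exact (m2 g this z0 hz0).symm
  have idxM : M.index = p := by
    have h1 : M.index ∣ Nat.card Z1 := by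
      rw [hMker, Subgroup.index_ker]
      exact Subgroup.card_subgroup_dvd_card _
    rw [card1] at h1
    rcases (Nat.dvd_prime hp.out).1 h1 with h | h
    · exact absurd (Subgroup.index_eq_one.1 h) hMne
    · exact h
  have cardM : Nat.card M = p ^ 4 := by
    have h1 := Subgroup.card_mul_index M
    rw [idxM, hc, show p ^ 5 = p ^ 4 * p from pow_succ p 4] at h1
    exact Nat.eq_of_mul_eq_mul_right hp.out.pos h1
  have hrel23 : Z2.relIndex Z3 = p := by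
    have h1 := Subgroup.relIndex_mul_relIndex ⊥ Z2 Z3 bot_le h23
    rw [Subgroup.relIndex_bot_left, Subgroup.relIndex_bot_left, card2, card3, pow_succ p 2] at h1
    exact Nat.eq_of_mul_eq_mul_left (pow_pos hp.out.pos 2) h1
  obtain ⟨t0, ht0, ht01⟩ : ∃ z ∈ Z3, z ∉ Z2 := by
    by_contra hne
    push Not at hne
    have := Subgroup.card_le_of_le (show Z3 ≤ Z2 from hne)
    rw [card2, card3] at this
    have h5 : p ^ 2 < p ^ 3 := Nat.pow_lt_pow_right hp.out.one_lt (by norm_num)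
    omega
  have ab3 : ∀ x ∈ Z3, ∀ y ∈ Z3, x * y = y * x := by
    intro x hx y hy
    obtain ⟨m, u, hu', rfl⟩ := exists_wt (p := p) hrel23 ht0 ht01 hx
    obtain ⟨n, v, hv, rfl⟩ := exists_wt (p := p) hrel23 ht0 ht01 hy
    have h1 : Commute u t0 := (m2 t0 (h3M ht0) u hu').symm
    have h2 : Commute v t0 := (m2 t0 (h3M ht0) v hv).symm
    have h3 : Commute u v := m2 u (h3M (h23 hu')) v hv
    have h4 : Commute (t0 ^ m) (t0 ^ n * v) := ((Commute.refl t0).pow_pow m n).mul_right (h2.symm.pow_left m)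
    have h5 : Commute u (t0 ^ n * v) := (h1.pow_right n).mul_right h3
    exact (h4.mul_left h5).eq
  have hMnab : ¬ ∀ a b : M, a * b = b * a := by
    intro h
    exact hNA M (fun x hx y hy => congrArg Subtype.val (h ⟨x, hx⟩ ⟨y, hy⟩)) cardM
  have hMp : IsPGroup p M := hG.to_subgroup M
  obtain ⟨k, hk, hk1, hk2, hidx⟩ := center_cases (p := p) hMp hMnab cardM
  have hZ2c : Z2.subgroupOf M ≤ Subgroup.center M := by
    intro x hx
    rw [Subgroup.mem_center_iff]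
    intro g
    exact Subtype.ext (m2 g g.2 x hx)
  have hk' : k = 2 := by
    have h1 := Subgroup.card_le_of_le hZ2c
    rw [Nat.card_congr (Subgroup.subgroupOfEquivOfLe (h23.trans h3M)).toEquiv, card2, hk] at h1
    have := (Nat.pow_le_pow_iff_right hp.out.one_lt).1 h1
    omega
  subst hk'
  obtain ⟨hVZ, -, hcc⟩ := index_sq (p := p) hMp hidx
  have hcomM : ((_root_.commutator M).map M.subtype) = Z1 := by
    have hchM : ((_root_.commutator M).map M.subtype).Normal := by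
      refine ⟨fun x hx g => ?_⟩
      obtain ⟨y, hy, rfl⟩ := hx
      have h1 := Ch.commutator (V := M) (MulAut.conjNormal g) y hy
      exact ⟨_, h1, by simp⟩
    have hcard : Nat.card ((_root_.commutator M).map M.subtype) = p := by
      rw [Subgroup.card_map_of_injective M.subtype_injective, hcc]
    have hne : (_root_.commutator M).map M.subtype ≠ ⊥ := by
      intro h
      rw [h, Subgroup.card_bot] at hcard
      exact hp.out.one_lt.ne hcard
    obtain ⟨s, hs, hso, hsc⟩ := H63.PGroupBasics.exists_central_orderOf_eq hG _ hne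
    have h1 : Subgroup.zpowers s = (_root_.commutator M).map M.subtype :=
      Subgroup.eq_of_le_of_card_ge ((Subgroup.zpowers_le).2 hs) (by rw [hcard, Nat.card_zpowers, hso])
    have h2 : Subgroup.zpowers s = Z1 :=
      Subgroup.eq_of_le_of_card_ge ((Subgroup.zpowers_le).2 (z1' s fun g => (hsc g).symm))
        (by rw [card1, Nat.card_zpowers, hso])
    rw [← h1, h2]
  have mm : ∀ x ∈ M, ∀ y ∈ M, cm Z1 x y := by
    intro x hx y hy
    show x * y * x⁻¹ * y⁻¹ ∈ Z1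
    rw [← hcomM]
    exact ⟨⁅(⟨x, hx⟩ : M), ⟨y, hy⟩⁆, comm_mem _ _, rfl⟩
  exact ⟨ch1, ch2, ch3, chM, h12, h23, h3M, card1, card2, card3, cardM, idxM, com, z1, z1', z2, z2', z3, z3',
    mm, m2, m2', ab3⟩

/-- Weights of an automorphism. -/
theorem Dat.wt [Finite G] {p : ℕ} [hp : Fact p.Prime] {Z1 Z2 Z3 M : Subgroup G} (D : Dat p Z1 Z2 Z3 M)
    (hM : ¬ ∀ x ∈ M, ∀ y ∈ M, x * y = y * x) (κ : MulAut G) {x s : G} (hx : x ∉ M) (hs : s ∈ M) (hs3 : s ∉ Z3) :
    ∃ ξ μ k : ℕ, ∃ m ∈ M, ∃ u ∈ Z3, κ x = x ^ ξ * m ∧ κ s = s ^ μ * u ∧ (μ : ZMod p) = (ξ : ZMod p) ^ 2 ∧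
      (∀ z ∈ Z1, κ z = z ^ k) ∧ (k : ZMod p) = (ξ : ZMod p) ^ 5 ∧ (ξ : ZMod p) ≠ 0 := by
  haveI n1 := normal_of_ch D.ch1
  haveI n2 := normal_of_ch D.ch2
  haveI n3 := normal_of_ch D.ch3
  haveI nM := normal_of_ch D.chM
  have hrel : ∀ (A B : Subgroup G) (n : ℕ), A ≤ B → Nat.card A = p ^ n → Nat.card B = p ^ (n + 1) →
      A.relIndex B = p := by
    intro A B n hAB hA hB
    have h1 := Subgroup.relIndex_mul_relIndex ⊥ A B bot_le hAB
    rw [Subgroup.relIndex_bot_left, Subgroup.relIndex_bot_left, hA, hB, pow_succ] at h1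
    exact Nat.eq_of_mul_eq_mul_left (pow_pos hp.out.pos n) h1
  have h12 := hrel Z1 Z2 1 D.h12 (by rw [pow_one]; exact D.card1) D.card2
  have h23 := hrel Z2 Z3 2 D.h23 D.card2 D.card3
  have h3M := hrel Z3 M 3 D.h3M D.card3 D.cardM
  have hMT : M.relIndex ⊤ = p := by rw [Subgroup.relIndex_top_right]; exact D.idxM
  -- the elements
  set s2 := ⁅x, s⁆ with hs2
  set s3 := ⁅x, s2⁆ with hs3d
  set s4 := ⁅x, s3⁆ with hs4d
  set c := ⁅s, s2⁆ with hcd
  have hs2m : s2 ∈ Z3 := D.com x s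
  have hs3m : s3 ∈ Z2 := cm_symm (D.z3 s2 hs2m x)
  have hs4m : s4 ∈ Z1 := cm_symm (D.z2 s3 hs3m x)
  have hcm : c ∈ Z1 := D.mm s hs s2 (D.h3M hs2m)
  have hs2n : s2 ∉ Z2 := by
    intro h
    apply hs3
    apply D.z3'
    intro g
    apply cm_symm
    rw [← mem_cmod, eq_top_of_index D.idxM (K := cmod Z2 s) (fun y hy => mem_cmod.2 (D.h12 (D.mm y hy s hs)))
      (mem_cmod.2 h) hx]
    exact Subgroup.mem_top g
  have hs3n : s3 ∉ Z1 := by
    intro h
    apply hs2n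
    apply D.z2'
    intro g
    apply cm_symm
    rw [← mem_cmod, eq_top_of_index D.idxM (K := cmod Z1 s2) (fun y hy => mem_cmod.2 (D.mm y hy s2 (D.h3M hs2m)))
      (mem_cmod.2 h) hx]
    exact Subgroup.mem_top g
  have hs4n : s4 ≠ 1 := by
    intro h
    apply hs3n
    apply D.z1'
    intro g
    have h1 : g ∈ Subgroup.centralizer {s3} := by
      rw [eq_top_of_index D.idxM (K := Subgroup.centralizer {s3})
        (fun y hy => Subgroup.mem_centralizer_singleton_iff.2 (D.m2 y hy s3 hs3m))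
        (Subgroup.mem_centralizer_singleton_iff.2 (commutatorElement_eq_one_iff_mul_comm.1 h)) hx]
      exact Subgroup.mem_top g
    exact (Subgroup.mem_centralizer_singleton_iff.1 h1).symm
  have hcn : c ≠ 1 := by
    intro h
    apply hM
    have h1 : Commute s s2 := commutatorElement_eq_one_iff_mul_comm.1 h
    have h2 : ∀ y ∈ Z3, Commute s y := by
      intro y hy
      obtain ⟨m, u, hu, rfl⟩ := exists_wt (p := p) h23 hs2m hs2n hy
      exact (h1.pow_right m).mul_right (D.m2 s hs u hu)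
    intro a ha b hb
    obtain ⟨m, u, hu, rfl⟩ := exists_wt (p := p) h3M hs hs3 ha
    obtain ⟨n, v, hv, rfl⟩ := exists_wt (p := p) h3M hs hs3 hb
    have h3 : Commute (s ^ m) (s ^ n * v) := ((Commute.refl s).pow_pow m n).mul_right ((h2 v hv).pow_left m)
    have h4 : Commute u (s ^ n * v) := ((h2 u hu).symm.pow_right n).mul_right (D.ab3 u hu v hv)
    exact (h3.mul_left h4).eq
  -- the weights
  obtain ⟨ξ, m, hm, hκx⟩ := exists_wt (p := p) hMT (Subgroup.mem_top x) hx (Subgroup.mem_top (κ x))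
  obtain ⟨μ, u, hu, hκs⟩ := exists_wt (p := p) h3M hs hs3 (D.chM κ s hs)
  have c2 : cm Z2 s2 x := D.z3 s2 hs2m x
  have e2 := wt_mod Z2 κ (a := x) (b := s) (c := s2) rfl hκx hκs (D.z3 s2 hs2m x) (D.z3 s2 hs2m s)
    (D.h12 (D.mm m hm s hs)) (D.h12 (D.mm m hm u (D.h3M hu))) (D.z3 u hu x)
  set v2 := (s2 ^ (ξ * μ))⁻¹ * κ s2 with hv2
  have hκ2 : κ s2 = s2 ^ (ξ * μ) * v2 := by rw [hv2]; group
  have e3 := wt_mod Z1 κ (a := x) (b := s2) (c := s3) rfl hκx hκ2 (D.z2 s3 hs3m x) (D.z2 s3 hs3m s2)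
    (D.mm m hm s2 (D.h3M hs2m)) (D.mm m hm v2 (D.h3M (D.h23 e2))) (D.z2 v2 e2 x)
  set v3 := (s3 ^ (ξ * (ξ * μ)))⁻¹ * κ s3 with hv3
  have hκ3 : κ s3 = s3 ^ (ξ * (ξ * μ)) * v3 := by rw [hv3]; group
  have e4 := wt_mod ⊥ κ (a := x) (b := s3) (c := s4) rfl hκx hκ3 (cm_of_comm (D.z1 s4 hs4m x))
    (cm_of_comm (D.z1 s4 hs4m s3)) (cm_of_comm (D.m2 m hm s3 hs3m)) (cm_of_comm (D.z1 v3 e3 m).symm)
    (cm_of_comm (D.z1 v3 e3 x))
  have hκ4 : κ s4 = s4 ^ (ξ * (ξ * (ξ * μ))) := (inv_mul_eq_one.1 (Subgroup.mem_bot.1 e4)).symm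
  have ec := wt_mod ⊥ κ (a := s) (b := s2) (c := c) rfl hκs hκ2 (cm_of_comm (D.z1 c hcm s))
    (cm_of_comm (D.z1 c hcm s2)) (cm_of_comm (D.ab3 u hu s2 hs2m)) (cm_of_comm (D.ab3 u hu v2 (D.h23 e2)))
    (cm_of_comm (D.m2 s hs v2 e2).symm)
  have hκc : κ c = c ^ (μ * (ξ * μ)) := (inv_mul_eq_one.1 (Subgroup.mem_bot.1 ec)).symm
  -- the action on the centre
  have hfin1 : Finite Z1 := Subtype.finite
  have hzp : ∀ z ∈ Z1, z ^ p = 1 := by
    intro z hz
    have h1 : (⟨z, hz⟩ : Z1) ^ Nat.card Z1 = 1 := pow_card_eq_one'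
    rw [D.card1] at h1
    exact congrArg Subtype.val h1
  have hgen : ∀ z ∈ Z1, ∃ j : ℕ, s4 ^ j = z := by
    intro z hz
    have h1 : (⟨s4, hs4m⟩ : Z1) ≠ 1 := fun h => hs4n (congrArg Subtype.val h)
    have h2 := mem_zpowers_of_prime_card D.card1 h1 (g' := (⟨z, hz⟩ : Z1))
    rw [← mem_powers_iff_mem_zpowers] at h2
    obtain ⟨j, hj⟩ := h2
    exact ⟨j, congrArg Subtype.val hj⟩
  have hact : ∀ z ∈ Z1, κ z = z ^ (ξ * (ξ * (ξ * μ))) := by
    intro z hz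
    obtain ⟨j, rfl⟩ := hgen z hz
    rw [map_pow, hκ4, ← pow_mul, ← pow_mul, mul_comm]
  have hweq : (((ξ * (ξ * (ξ * μ)) : ℕ)) : ZMod p) = ((μ * (ξ * μ) : ℕ) : ZMod p) := by
    refine wt_eq (p := p) (⊥ : Subgroup G) (c := c) (y := κ c) (by rwa [Subgroup.mem_bot])
      (by rw [Subgroup.mem_bot]; exact hzp c hcm) ?_ ?_
    · rw [Subgroup.mem_bot, hact c hcm, inv_mul_cancel]
    · rw [Subgroup.mem_bot, hκc, inv_mul_cancel]
  -- nonvanishing of the weights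
  have hξ : (ξ : ZMod p) ≠ 0 := by
    intro h
    rw [ZMod.natCast_eq_zero_iff] at h
    obtain ⟨j, hj⟩ := h
    apply hx
    have h1 : κ x ∈ M := by
      rw [hκx]
      refine M.mul_mem ?_ hm
      have h2 : x ^ p ∈ M := by
        have h3 : ((x : G ⧸ M)) ^ p = 1 := by rw [← D.idxM]; exact pow_card_eq_one'
        exact (QuotientGroup.eq_one_iff _).1 h3
      rw [hj, pow_mul]; exact M.pow_mem h2 j
    have h2 := D.chM κ⁻¹ _ h1
    rwa [MulAut.inv_apply_self] at h2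
  have hμ : (μ : ZMod p) ≠ 0 := by
    intro h
    have h1 : κ c = 1 := by
      rw [hκc]
      rw [ZMod.natCast_eq_zero_iff] at h
      obtain ⟨j, hj⟩ := h
      rw [hj, mul_assoc, pow_mul, hzp c hcm, one_pow]
    exact hcn ((MulEquiv.map_eq_one_iff κ).1 h1)
  push_cast at hweq
  have hμξ : (μ : ZMod p) = (ξ : ZMod p) ^ 2 := by
    have h1 : (ξ : ZMod p) * μ ≠ 0 := mul_ne_zero hξ hμ
    have h2 : ((ξ : ZMod p) * μ) * (ξ : ZMod p) ^ 2 = ((ξ : ZMod p) * μ) * μ := by linear_combination hweq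
    exact (mul_left_cancel₀ h1 h2).symm
  refine ⟨ξ, μ, ξ * (ξ * (ξ * μ)), m, hm, u, hu, hκx, hκs, hμξ, hact, ?_, hξ⟩
  push_cast
  rw [hμξ]; ring


theorem Dat.elts {p : ℕ} [hp : Fact p.Prime] {Z1 Z2 Z3 M : Subgroup G} (D : Dat p Z1 Z2 Z3 M)
    {x s : G} (hx : x ∉ M) (hs : s ∈ M) (hs3 : s ∉ Z3) :
    ⁅x, s⁆ ∈ Z3 ∧ ⁅x, s⁆ ∉ Z2 ∧ ⁅x, ⁅x, s⁆⁆ ∈ Z2 ∧ ⁅x, ⁅x, s⁆⁆ ∉ Z1 ∧ ⁅x, ⁅x, ⁅x, s⁆⁆⁆ ∈ Z1 ∧
      ⁅x, ⁅x, ⁅x, s⁆⁆⁆ ≠ 1 := by
  haveI n1 := normal_of_ch D.ch1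
  haveI n2 := normal_of_ch D.ch2
  set s2 := ⁅x, s⁆ with hs2
  set s3 := ⁅x, s2⁆ with hs3d
  set s4 := ⁅x, s3⁆ with hs4d
  have hs2m : s2 ∈ Z3 := D.com x s
  have hs3m : s3 ∈ Z2 := cm_symm (D.z3 s2 hs2m x)
  have hs4m : s4 ∈ Z1 := cm_symm (D.z2 s3 hs3m x)
  have hs2n : s2 ∉ Z2 := by
    intro h
    apply hs3
    apply D.z3'
    intro g
    apply cm_symm
    rw [← mem_cmod, eq_top_of_index D.idxM (K := cmod Z2 s) (fun y hy => mem_cmod.2 (D.h12 (D.mm y hy s hs)))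
      (mem_cmod.2 h) hx]
    exact Subgroup.mem_top g
  have hs3n : s3 ∉ Z1 := by
    intro h
    apply hs2n
    apply D.z2'
    intro g
    apply cm_symm
    rw [← mem_cmod, eq_top_of_index D.idxM (K := cmod Z1 s2) (fun y hy => mem_cmod.2 (D.mm y hy s2 (D.h3M hs2m)))
      (mem_cmod.2 h) hx]
    exact Subgroup.mem_top g
  have hs4n : s4 ≠ 1 := by
    intro h
    apply hs3n
    apply D.z1'
    intro g
    have h1 : g ∈ Subgroup.centralizer {s3} := by
      rw [eq_top_of_index D.idxM (K := Subgroup.centralizer {s3})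
        (fun y hy => Subgroup.mem_centralizer_singleton_iff.2 (D.m2 y hy s3 hs3m))
        (Subgroup.mem_centralizer_singleton_iff.2 (commutatorElement_eq_one_iff_mul_comm.1 h)) hx]
      exact Subgroup.mem_top g
    exact (Subgroup.mem_centralizer_singleton_iff.1 h1).symm
  exact ⟨hs2m, hs2n, hs3m, hs3n, hs4m, hs4n⟩

theorem Dat.exists_x {p : ℕ} [hp : Fact p.Prime] {Z1 Z2 Z3 M : Subgroup G} (D : Dat p Z1 Z2 Z3 M) :
    ∃ x, x ∉ M := by
  by_contra hne
  push Not at hne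
  have : M = ⊤ := eq_top_iff.2 fun x _ => hne x
  have h1 := D.idxM
  rw [this, Subgroup.index_top] at h1
  exact hp.out.one_lt.ne h1

theorem Dat.exists_s [Finite G] {p : ℕ} [hp : Fact p.Prime] {Z1 Z2 Z3 M : Subgroup G} (D : Dat p Z1 Z2 Z3 M) :
    ∃ s ∈ M, s ∉ Z3 := by
  by_contra hne
  push Not at hne
  have := Subgroup.card_le_of_le (show M ≤ Z3 from hne)
  rw [D.card3, D.cardM] at this
  exact absurd this (not_le.2 (Nat.pow_lt_pow_right hp.out.one_lt (by norm_num)))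

theorem Dat.rel3M {p : ℕ} [hp : Fact p.Prime] {Z1 Z2 Z3 M : Subgroup G} (D : Dat p Z1 Z2 Z3 M) :
    Z3.relIndex M = p := by
  have h1 := Subgroup.relIndex_mul_relIndex ⊥ Z3 M bot_le D.h3M
  rw [Subgroup.relIndex_bot_left, Subgroup.relIndex_bot_left, D.card3, D.cardM, pow_succ p 3] at h1
  exact Nat.eq_of_mul_eq_mul_left (pow_pos hp.out.pos 3) h1

theorem Dat.rel12 {p : ℕ} [hp : Fact p.Prime] {Z1 Z2 Z3 M : Subgroup G} (D : Dat p Z1 Z2 Z3 M) :
    Z1.relIndex Z2 = p := by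
  have h1 := Subgroup.relIndex_mul_relIndex ⊥ Z1 Z2 bot_le D.h12
  rw [Subgroup.relIndex_bot_left, Subgroup.relIndex_bot_left, D.card1, D.card2, pow_succ p 1, pow_one] at h1
  exact Nat.eq_of_mul_eq_mul_left hp.out.pos h1

theorem pow_mem_of_relIndex {p : ℕ} [hp : Fact p.Prime] {A D : Subgroup G} [D.Normal]
    (hi : D.relIndex A = p) {x : G} (hx : x ∈ A) : x ^ p ∈ D := by
  have h1 : (D.subgroupOf A).index = p := hi
  have h2 : ((⟨x, hx⟩ : A) : A ⧸ D.subgroupOf A) ^ p = 1 := by rw [← h1]; exact pow_card_eq_one'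
  have h3 : (⟨x, hx⟩ : A) ^ p ∈ D.subgroupOf A := (QuotientGroup.eq_one_iff _).1 h2
  exact Subgroup.mem_subgroupOf.1 h3

theorem Dat.pow_mem [Finite G] {p : ℕ} [hp : Fact p.Prime] {Z1 Z2 Z3 M : Subgroup G} (D : Dat p Z1 Z2 Z3 M)
    (g : G) : g ^ p ∈ Z3 := by
  haveI n3 := normal_of_ch D.ch3
  haveI nM := normal_of_ch D.chM
  by_cases hg : g ∈ M
  · exact pow_mem_of_relIndex D.rel3M hg
  · by_contra hne
    have h1 : g ^ p ∈ M := by
      apply pow_mem_of_relIndex (A := ⊤) ?_ (Subgroup.mem_top g)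
      rw [Subgroup.relIndex_top_right]; exact D.idxM
    apply (D.elts hg h1 hne).2.1
    have h2 : ⁅g, g ^ p⁆ = 1 := commutatorElement_eq_one_iff_mul_comm.2 ((Commute.refl g).pow_right p)
    rw [h2]; exact one_mem _

/-- A normal subgroup not inside the centre contains the second centre. -/
theorem Dat.Z2_le [Finite G] {p : ℕ} [hp : Fact p.Prime] {Z1 Z2 Z3 M : Subgroup G} (D : Dat p Z1 Z2 Z3 M)
    {K : Subgroup G} (hK : K.Normal) {k : G} (hk : k ∈ K) (hk1 : k ∉ Z1) : Z2 ≤ K := by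
  haveI n1 := normal_of_ch D.ch1
  have hcK : ∀ k ∈ K, ∀ g : G, k * g * k⁻¹ * g⁻¹ ∈ K := by
    intro k hk g
    have h1 : k * g * k⁻¹ * g⁻¹ = k * (g * k⁻¹ * g⁻¹) := by group
    rw [h1]
    exact K.mul_mem hk (hK.conj_mem _ (K.inv_mem hk) g)
  have key2 : ∀ k ∈ K, k ∈ Z2 → k ∉ Z1 → Z2 ≤ K := by
    intro k hk hk2 hk1
    obtain ⟨g, hg⟩ : ∃ g, k * g ≠ g * k := by
      by_contra hne
      push Not at hne
      exact hk1 (D.z1' k hne)
    have hy : k * g * k⁻¹ * g⁻¹ ∈ Z1 := D.z2 k hk2 g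
    have hy1 : (⟨_, hy⟩ : Z1) ≠ 1 := by
      intro h
      apply hg
      have h1 : k * g * k⁻¹ * g⁻¹ = 1 := congrArg Subtype.val h
      rw [mul_inv_eq_one, mul_inv_eq_iff_eq_mul] at h1
      exact h1
    have hZ1K : Z1 ≤ K := by
      intro z hz
      have h2 := mem_zpowers_of_prime_card D.card1 hy1 (g' := (⟨z, hz⟩ : Z1))
      obtain ⟨j, hj⟩ := h2
      have h3 : (k * g * k⁻¹ * g⁻¹) ^ j = z := congrArg Subtype.val hj
      rw [← h3]
      exact K.zpow_mem (hcK k hk g) j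
    intro z hz
    obtain ⟨m, u, hu, rfl⟩ := exists_wt (p := p) D.rel12 hk2 hk1 hz
    exact K.mul_mem (K.pow_mem hk m) (hZ1K hu)
  have key3 : ∀ k ∈ K, k ∈ Z3 → k ∉ Z1 → Z2 ≤ K := by
    intro k hk hk3 hk1
    by_cases hk2 : k ∈ Z2
    · exact key2 k hk hk2 hk1
    · obtain ⟨g, hg⟩ : ∃ g, ¬ cm Z1 k g := by
        by_contra hne
        push Not at hne
        exact hk2 (D.z2' k hne)
      exact key2 _ (hcK k hk g) (D.z3 k hk3 g) hg
  by_cases hk3 : k ∈ Z3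
  · exact key3 k hk hk3 hk1
  · obtain ⟨g, hg⟩ : ∃ g, ¬ cm Z2 k g := by
      by_contra hne
      push Not at hne
      exact hk3 (D.z3' k hne)
    exact key3 _ (hcK k hk g) (D.com k g) (fun h => hg (D.h12 h))

end H88.P5
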