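import Cfsg.Agent.Lib.H88.P5Y

/-! `Aut_F(S)` acting trivially on a piece of the Frattini quotient. -/

set_option autoImplicit false
open Cfsg Cfsg.FusionSystem Subgroup
open H86.FusBasic H86.FusSat H57.Ess

namespace H88.P5Y

universe v
variable {Ω : Type v} [Group Ω] {S : Subgroup Ω} {p : ℕ}

theorem exists_inv_char [Finite S] [hp : Fact p.Prime] (hS : IsPGroup p S) {F : FusionSystem S}
    (hF : F.IsSaturated p) {A : Type*} [CommGroup A] (hA : ∀ a : A, a ^ p = 1) (χ : S →* A) {c : S}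
    (hc : χ c ≠ 1) (hκ : ∀ κ ∈ F.autGroup S, χ (κ c) = χ c) :
    ∃ ψ : S →* A, ψ c ≠ 1 ∧ ∀ κ ∈ F.autGroup S, ∀ x, ψ (κ x) = ψ x := by
  classical
  have hfA : Finite (MulAut S) := finMulAut
  let I : Subgroup (F.autGroup S) := (Inn S).subgroupOf (F.autGroup S)
  haveI hIn : I.Normal := by
    haveI : (Inn S).Normal := inferInstance
    infer_instance
  haveI : Fintype (F.autGroup S ⧸ I) := Fintype.ofFinite _
  have hcos : ∀ α β : F.autGroup S, (QuotientGroup.mk α : F.autGroup S ⧸ I) = QuotientGroup.mk β →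
      ∀ x, χ ((α : MulAut S) x) = χ ((β : MulAut S) x) := by
    intro α β h x
    have h1 : α⁻¹ * β ∈ I := QuotientGroup.eq.1 h
    obtain ⟨g, hg⟩ : ((α⁻¹ * β : F.autGroup S) : MulAut S) ∈ Inn S := Subgroup.mem_subgroupOf.1 h1
    have h2 : (β : MulAut S) = α * MulAut.conj g := by
      have h3 : MulAut.conj g = ((α⁻¹ * β : F.autGroup S) : MulAut S) := hg
      rw [h3, Subgroup.coe_mul, Subgroup.coe_inv]; group
    rw [h2, MulAut.mul_apply, MulAut.conj_apply, map_mul, map_mul, map_mul, map_mul, map_inv, map_inv,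
      mul_comm (χ ((α : MulAut S) g)), mul_inv_cancel_right]
  let ψ : S →* A :=
    { toFun := fun x => ∏ q : F.autGroup S ⧸ I, χ ((q.out : MulAut S) x)
      map_one' := by simp
      map_mul' := fun x y => by rw [← Finset.prod_mul_distrib]; exact Finset.prod_congr rfl fun q _ => by simp }
  have hψ : ∀ x, ψ x = ∏ q : F.autGroup S ⧸ I, χ ((q.out : MulAut S) x) := fun x => rfl
  refine ⟨ψ, ?_, ?_⟩
  · rw [hψ, Finset.prod_congr rfl fun (q : F.autGroup S ⧸ I) _ => hκ _ q.out.2, Finset.prod_const, Finset.card_univ,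
      ← Nat.card_eq_fintype_card, ← Subgroup.index_eq_card]
    intro h
    have h1 := sylIn_aut hS hF (fullyNormalized_self F)
    rw [autInducedBy_self] at h1
    have h2 : ¬ p ∣ I.index := h1.2.2
    have h3 : orderOf (χ c) ∣ p := orderOf_dvd_of_pow_eq_one (hA _)
    have h4 : orderOf (χ c) ∣ I.index := orderOf_dvd_of_pow_eq_one h
    rcases (Nat.dvd_prime hp.out).1 h3 with h5 | h5
    · exact hc (orderOf_eq_one_iff.1 h5)
    · exact h2 (h5 ▸ h4)
  · intro κ hκF x
    rw [hψ, hψ]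
    let k : F.autGroup S := ⟨κ, hκF⟩
    have h1 : ∀ q : F.autGroup S ⧸ I, χ ((q.out : MulAut S) (κ x)) =
        χ (((q * QuotientGroup.mk k).out : MulAut S) x) := by
      intro q
      have h2 : (QuotientGroup.mk (q.out * k) : F.autGroup S ⧸ I) =
          QuotientGroup.mk ((q * QuotientGroup.mk k).out) := by
        rw [QuotientGroup.mk_mul, QuotientGroup.out_eq', QuotientGroup.out_eq']
      have h3 := hcos _ _ h2 x
      rw [← h3]; rfl
    rw [Finset.prod_congr rfl fun q _ => h1 q]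
    exact Equiv.prod_comp (Equiv.mulRight (QuotientGroup.mk k : F.autGroup S ⧸ I))
      (fun q : F.autGroup S ⧸ I => χ ((q.out : MulAut S) x))

theorem no_char [Finite S] [hp : Fact p.Prime] (hS : IsPGroup p S) {F : FusionSystem S}
    (hF : F.IsSaturated p) (hhyp : F.hyperfocalSubgroup p = S)
    (hraw : ∀ (A : Type v) [CommGroup A], (∀ a : A, a ^ p = 1) → Raw p S A) (T : Subgroup S) [T.Normal]
    (hcT : commutator S ≤ T) (hpT : ∀ x : S, x ^ p ∈ T) {c : S} (hc : c ∉ T)
    (hκ : ∀ κ ∈ F.autGroup S, c⁻¹ * κ c ∈ T) : False := by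
  have hSS : normalizerIn S S = S := inf_eq_left.2 Subgroup.le_normalizer
  have hN := H89.KSat3.isNormalizerSystem_nSys F S le_rfl
  set N := H89.KSat3.nSys F S le_rfl with hNdef
  have hNsat := H89.KSat3.normalizer_saturated hS hF (H86.FusSat.fullyNormalized_self F) hN
  let N' : Cfsg.FusionSystem S := H89.KSat3.castSys hSS N
  have hHom : ∀ P, N'.Hom P = N.Hom P := fun P => H89.KSat3.castSys_Hom hSS N P
  have hN' : N'.IsSaturated p := H89.KSat3.saturated_congr hSS (fun P => (hHom P).symm) hNsat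
  have hfoc := foc_eq hS hF hN' (by
      intro P φ hφ
      rw [hHom, hN P] at hφ
      exact hφ.1) (by
      intro φ hφ
      rw [hHom, hN S]
      have hr : φ.range = S := H88.CharBiset.range_eq_of_hom hφ
      refine ⟨hφ, hSS.ge, fun x => hSS.ge (H86.FusBasic.apply_mem F hφ x), ?_⟩
      have h1 : S ⊔ S = S := sup_idem S
      refine ⟨φ.comp (Subgroup.inclusion h1.le), ?_, fun x => rfl, ?_⟩
      · exact H86.FusBasic.restrict_mem F hφ _
      · apply le_antisymm
        · rintro y ⟨x, hx, rfl⟩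
          exact H86.FusBasic.apply_mem F hφ _
        · intro y hy
          rw [← hr] at hy
          obtain ⟨x, rfl⟩ := hy
          exact ⟨⟨x, h1.ge x.2⟩, x.2, rfl⟩) hraw
  obtain ⟨A, _, χ, hA, hχ⟩ := H88.YoshF.exists_char p T hcT hpT
  obtain ⟨ψ, hψc, hψ⟩ := exists_inv_char hS hF hA χ (c := c) (fun h => hc ((hχ c).1 h)) (by
    intro κ hκF
    have h1 := (hχ _).2 (hκ κ hκF)
    rw [map_mul, map_inv, inv_mul_eq_one] at h1
    exact h1.symm)
  have hle : N'.focalSubgroup ≤ (ψ.ker).map S.subtype := by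
    unfold FusionSystem.focalSubgroup
    rw [Subgroup.closure_le]
    rintro _ ⟨P, φ, x, hφ, rfl⟩
    rw [hHom, hN P] at hφ
    obtain ⟨hφF, -, -, θ, hθ, hθP, -⟩ := hφ
    have hPS : P ≤ S := (F.le_of_mem hφF).1
    have h1 : S ≤ P ⊔ S := le_sup_right
    let θ' : S →* Ω := θ.comp (Subgroup.inclusion h1)
    have hθ' : θ' ∈ F.Hom S := restrict_mem F hθ h1
    have hrange : θ'.range = S := H88.CharBiset.range_eq_of_hom hθ'
    obtain hiso := isIso_toEquiv F hθ' hrange
    set e := toEquiv θ' (F.injective_of_mem hθ') hrange with he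
    have h2 := hψ _ hiso.mem_autGroup ⟨x, hPS x.2⟩
    refine ⟨(⟨x, hPS x.2⟩ : S)⁻¹ * e ⟨x, hPS x.2⟩, ?_, ?_⟩
    · show ψ _ = 1
      rw [map_mul, map_inv, inv_mul_eq_one]
      exact h2.symm
    · show (x : Ω)⁻¹ * ((e ⟨x, hPS x.2⟩ : S) : Ω) = (x : Ω)⁻¹ * φ x
      congr 1
      have h3 : ((e ⟨x, hPS x.2⟩ : S) : Ω) = θ' ⟨x, hPS x.2⟩ := rfl
      rw [h3, ← hθP]; rfl
  have hSfoc : S ≤ N'.focalSubgroup := by
    rw [hfoc]
    calc S = F.hyperfocalSubgroup p := hhyp.symm
      _ ≤ _ := H88.Focal.hyp_le_foc F p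
  obtain ⟨y, hy, hyc⟩ := hle (hSfoc c.2)
  have : y = c := Subtype.ext hyc
  rw [this] at hy
  exact hψc hy

end H88.P5Y
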