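import Cfsg.Agent.Lib.H88.P5B
import Cfsg.Agent.Lib.H88.P5Z

/-! Groups of maximal class and order `3^5`; numerical restriction on `p`. -/

set_option autoImplicit false
open scoped commutatorElement
open Cfsg H57.Small H88.P5Y

namespace H88.P5

/-- If all `λ⁶ = 1` in `(ℤ/p)ˣ` then `p ∣ 2 * 3 * 7`. -/
theorem prime_of_six {p : ℕ} [hp : Fact p.Prime] (h : ∀ l : (ZMod p)ˣ, l ^ 6 = 1) (h2 : p ≠ 2) (h7 : p ≠ 7) :
    p = 3 := by
  have h0 : Monoid.exponent (ZMod p)ˣ ∣ 6 := Monoid.exponent_dvd_of_forall_pow_eq_one h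
  rw [IsCyclic.exponent_eq_card, Nat.card_eq_fintype_card, ZMod.card_units] at h0
  have h1 : p - 1 ≤ 6 := Nat.le_of_dvd (by norm_num) h0
  have h3 : p ≤ 7 := by omega
  have hpp := hp.out
  interval_cases p
  · exact absurd hpp (by norm_num)
  · exact absurd hpp (by norm_num)
  · exact absurd rfl h2
  · rfl
  · exact absurd hpp (by norm_num)
  · norm_num at h0
  · exact absurd hpp (by norm_num)
  · exact absurd rfl h7

theorem sq_three : ∀ z : ZMod 3, z ≠ 0 → z ^ 2 = 1 := by decide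

variable {G : Type*} [Group G] [Finite G]

theorem Dat.three {p : ℕ} [hp : Fact p.Prime] {Z1 Z2 Z3 M : Subgroup G} (D : Dat p Z1 Z2 Z3 M)
    (hM : ¬ ∀ x ∈ M, ∀ y ∈ M, x * y = y * x) (h2 : p ≠ 2) (h7 : p ≠ 7) {x : G} (hx : x ∉ M)
    (h : ∀ l : (ZMod p)ˣ, ∃ κ : MulAut G, ∃ a b : ℕ, (a : ZMod p) = l ∧ (b : ZMod p) = (l⁻¹ : (ZMod p)ˣ) ∧
      κ x = x ^ a ∧ ∀ z ∈ Z1, κ z = z ^ b) : p = 3 := by
  haveI nM := normal_of_ch D.chM
  apply prime_of_six _ h2 h7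
  intro l
  obtain ⟨κ, a, b, ha, hb, hκx, hκz⟩ := h l
  obtain ⟨s, hs, hs3⟩ := D.exists_s
  obtain ⟨ξ, μ, k, m, hm, u, hu, hκx', hκs, hμξ, hact, hk, hξ⟩ := D.wt hM κ hx hs hs3
  have e1 : (a : ZMod p) = ξ := by
    refine wt_eq (p := p) M (c := x) (y := κ x) hx ?_ ?_ ?_
    · apply pow_mem_of_relIndex (A := ⊤) ?_ (Subgroup.mem_top x)
      rw [Subgroup.relIndex_top_right]; exact D.idxM
    · rw [hκx, inv_mul_cancel]; exact M.one_mem
    · rw [hκx']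
      have : (x ^ ξ)⁻¹ * (x ^ ξ * m) = m := by group
      rw [this]; exact hm
  obtain ⟨-, -, -, -, h4m, h4n⟩ := D.elts hx hs hs3
  have e2 : (b : ZMod p) = k := by
    refine wt_eq (p := p) (⊥ : Subgroup G) (c := ⁅x, ⁅x, ⁅x, s⁆⁆⁆) (y := κ ⁅x, ⁅x, ⁅x, s⁆⁆⁆)
      (by rwa [Subgroup.mem_bot]) ?_ ?_ ?_
    · rw [Subgroup.mem_bot]
      have h1 : (⟨_, h4m⟩ : Z1) ^ Nat.card Z1 = 1 := pow_card_eq_one'
      rw [D.card1] at h1
      exact congrArg Subtype.val h1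
    · rw [Subgroup.mem_bot, hκz _ h4m, inv_mul_cancel]
    · rw [Subgroup.mem_bot, hact _ h4m, inv_mul_cancel]
  have e3 : ((l⁻¹ : (ZMod p)ˣ) : ZMod p) = (l : ZMod p) ^ 5 := by
    rw [← hb, e2, hk, ← e1, ha]
  have e4 : l⁻¹ = l ^ 5 := by
    apply Units.ext
    rw [e3, Units.val_pow_eq_pow_val]
  calc l ^ 6 = l * l ^ 5 := by rw [← pow_succ']
    _ = 1 := by rw [← e4, mul_inv_cancel]

theorem Dat.raw [hp : Fact (Nat.Prime 3)] {Z1 Z2 Z3 M : Subgroup G} (D : Dat 3 Z1 Z2 Z3 M)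
    {x : G} (hx : x ∉ M) (hx3 : x ^ 3 = 1) {A : Type*} [CommGroup A] (hA : ∀ a : A, a ^ 3 = 1) : Raw 3 G A := by
  obtain ⟨s, hs, hs3⟩ := D.exists_s
  obtain ⟨h2m, h2n, h3m, h3n, h4m, h4n⟩ := D.elts hx hs hs3
  haveI n1 := normal_of_ch D.ch1
  apply raw3_of hA
  intro H hHn hHi g hg u hu
  set c1 := u⁻¹ * (g⁻¹ * u * g) with hc1
  have hc1m : c1 ∈ Z3 := by
    have h1 := D.com u⁻¹ g⁻¹
    unfold cm at h1
    have h2 : u⁻¹ * g⁻¹ * u⁻¹⁻¹ * g⁻¹⁻¹ = c1 := by rw [hc1]; group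
    rwa [h2] at h1
  have hc2m : c1⁻¹ * (g⁻¹ * c1 * g) ∈ Z2 := by
    have h1 := D.z3 c1⁻¹ (Z3.inv_mem hc1m) g⁻¹
    unfold cm at h1
    have h2 : c1⁻¹ * g⁻¹ * c1⁻¹⁻¹ * g⁻¹⁻¹ = c1⁻¹ * (g⁻¹ * c1 * g) := by group
    rwa [h2] at h1
  have hKn : (KH H).Normal := by
    refine ⟨fun y hy t => ?_⟩
    refine Subgroup.closure_induction (p := fun y _ => t * y * t⁻¹ ∈ KH H) ?_ ?_ ?_ ?_ hy
    · rintro y (⟨h, hh, rfl⟩ | ⟨h, hh, k, hk, rfl⟩)
      · apply Subgroup.subset_closure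
        exact Or.inl ⟨t * h * t⁻¹, hHn.conj_mem h hh t, by rw [conj_pow]⟩
      · apply Subgroup.subset_closure
        exact Or.inr ⟨t * h * t⁻¹, hHn.conj_mem h hh t, t * k * t⁻¹, hHn.conj_mem k hk t, by group⟩
    · rw [mul_one, mul_inv_cancel]; exact one_mem _
    · intro a b _ _ ha hb
      have : t * (a * b) * t⁻¹ = (t * a * t⁻¹) * (t * b * t⁻¹) := by group
      rw [this]; exact mul_mem ha hb
    · intro a _ ha
      have : t * a⁻¹ * t⁻¹ = (t * a * t⁻¹)⁻¹ := by group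
      rw [this]; exact inv_mem ha
  -- commutators are in `H`
  have hcH : ∀ a b : G, a * b * a⁻¹ * b⁻¹ ∈ H := by
    intro a b
    rw [← QuotientGroup.eq_one_iff]
    have hq : Nat.card (G ⧸ H) = 3 := hHi
    haveI hcyc : IsCyclic (G ⧸ H) := isCyclic_of_prime_card hq
    have h1 : (QuotientGroup.mk a : G ⧸ H) * QuotientGroup.mk b = QuotientGroup.mk b * QuotientGroup.mk a :=
      (IsCyclic.commutative (α := G ⧸ H)).is_comm.comm _ _
    rw [QuotientGroup.mk_mul, QuotientGroup.mk_mul, QuotientGroup.mk_mul, h1, QuotientGroup.mk_inv,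
      QuotientGroup.mk_inv]
    group
  have hex : ∃ k ∈ KH H, k ∉ Z1 := by
    by_contra hne
    push Not at hne
    by_cases hHM : H ≤ M
    · -- `H = M`
      have hHM' : H = M := by
        have h1 := Subgroup.relIndex_mul_index hHM
        rw [D.idxM, hHi] at h1
        have h2 : H.relIndex M = 1 := by omega
        exact le_antisymm hHM (Subgroup.relIndex_eq_one.1 h2)
      subst hHM'
      have hcube : ∀ m ∈ H, m ^ 3 ∈ Z1 := fun m hm => hne _ (Subgroup.subset_closure (Or.inl ⟨m, hm, rfl⟩))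
      have hz1p : ∀ z ∈ Z1, z ^ 3 = 1 := by
        intro z hz
        have h1 : (⟨z, hz⟩ : Z1) ^ Nat.card Z1 = 1 := pow_card_eq_one'
        rw [D.card1] at h1
        exact congrArg Subtype.val h1
      set s2 := ⁅x, s⁆ with hs2
      set s3 := ⁅x, s2⁆ with hs3d
      set s4 := ⁅x, s3⁆ with hs4d
      have X1 : x * s * x⁻¹ = s2 * s := by rw [hs2, commutatorElement_def]; group
      have X2 : x * s2 * x⁻¹ = s3 * s2 := by rw [hs3d, commutatorElement_def]; group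
      have X3 : x * s3 * x⁻¹ = s4 * s3 := by rw [hs4d, commutatorElement_def]; group
      have h32 : s3 * s2 = s2 * s3 := D.ab3 s3 (D.h23 h3m) s2 h2m
      -- cubes
      have hs2c : s2 ^ 3 = 1 := by
        have h1 : (s2 * s) ^ 3 = s ^ 3 := by
          rw [← X1, conj_pow]
          have := D.z1 _ (hcube s hs) x
          rw [← this]; group
        have h2 : (s2 * s) ^ 3 = s2 ^ 3 * s ^ 3 * ⁅s, s2⁆ ^ (Nat.choose 3 2) := by
          refine H3.ClassTwo.mul_pow_eq ?_ ?_ 3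
          · exact D.z1 _ (D.mm s hs s2 (D.h3M h2m)) s2
          · exact D.z1 _ (D.mm s hs s2 (D.h3M h2m)) s
        have h3 : ⁅s, s2⁆ ^ (Nat.choose 3 2) = 1 := hz1p _ (D.mm s hs s2 (D.h3M h2m))
        rw [h3, mul_one, h1] at h2
        exact (right_eq_mul.1 h2)
      have hs3c : s3 ^ 3 = 1 := by
        have h1 : (s3 * s2) ^ 3 = 1 := by
          rw [← X2, conj_pow, hs2c]; group
        rw [Commute.mul_pow h32, hs2c, mul_one] at h1
        exact h1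
      have hX : ∀ a b : G, x * (a * b) * x⁻¹ = (x * a * x⁻¹) * (x * b * x⁻¹) := fun a b => by group
      have Y1 : x * (s2 * s) * x⁻¹ = (s3 * s2) * (s2 * s) := by rw [hX, X2, X1]
      have Y2 : x * ((s3 * s2) * (s2 * s)) * x⁻¹ = ((s4 * s3) * (s3 * s2)) * ((s3 * s2) * (s2 * s)) := by
        rw [hX, hX, hX, X3, X2, X1]
      have e1 : x ^ 3 * s * (x ^ 3)⁻¹ = x * (x * (x * s * x⁻¹) * x⁻¹) * x⁻¹ := by
        rw [pow_succ, pow_two]; group
      have e3 : ((s4 * s3) * (s3 * s2)) * ((s3 * s2) * (s2 * s)) = s4 * s3 ^ 3 * s2 ^ 3 * s := by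
        calc ((s4 * s3) * (s3 * s2)) * ((s3 * s2) * (s2 * s)) = s4 * s3 * s3 * (s2 * s3) * s2 * s2 * s := by group
          _ = s4 * s3 * s3 * (s3 * s2) * s2 * s2 * s := by rw [← h32]
          _ = _ := by simp only [pow_three]; group
      rw [X1, Y1, Y2, e3, hx3, hs3c, hs2c] at e1
      apply h4n
      have h5 : s = s4 * s := by simpa using e1
      exact (right_eq_mul.1 h5)
    · obtain ⟨h, hh, hhM⟩ := SetLike.not_le_iff_exists.1 hHM
      apply h2n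
      apply D.z2'
      intro t
      apply cm_symm
      have h1 : cm Z1 h ⁅x, s⁆ := hne _ (Subgroup.subset_closure (Or.inr ⟨h, hh, _, hcH x s, rfl⟩))
      rw [← mem_cmod, eq_top_of_index D.idxM (K := cmod Z1 ⁅x, s⁆)
        (fun y hy => mem_cmod.2 (D.mm y hy _ (D.h3M h2m))) (mem_cmod.2 h1) hhM]
      exact Subgroup.mem_top t
  obtain ⟨k, hk, hk1⟩ := hex
  exact D.Z2_le hKn hk hk1 hc2m

/-- For `p = 3` every automorphism is trivial on a section. -/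
theorem Dat.fix_three [hp : Fact (Nat.Prime 3)] {Z1 Z2 Z3 M : Subgroup G} (D : Dat 3 Z1 Z2 Z3 M)
    (hM : ¬ ∀ x ∈ M, ∀ y ∈ M, x * y = y * x) {s : G} (hs : s ∈ M) (hs3 : s ∉ Z3) (κ : MulAut G) :
    s⁻¹ * κ s ∈ Z3 := by
  haveI n3 := normal_of_ch D.ch3
  obtain ⟨x, hx⟩ := D.exists_x
  obtain ⟨ξ, μ, k, m, hm, u, hu, hκx', hκs, hμξ, hact, hk, hξ⟩ := D.wt hM κ hx hs hs3
  have h1 : (μ : ZMod 3) = (1 : ℕ) := by
    rw [hμξ, Nat.cast_one]
    exact sq_three _ hξ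
  rw [ZMod.natCast_eq_natCast_iff] at h1
  have h2 : μ = 3 * (μ / 3) + 1 := by
    have : μ % 3 = 1 := h1
    omega
  rw [hκs, h2, pow_succ', pow_mul]
  have h3 : s⁻¹ * (s * (s ^ 3) ^ (μ / 3) * u) = (s ^ 3) ^ (μ / 3) * u := by group
  rw [h3]
  exact Z3.mul_mem (Z3.pow_mem (D.pow_mem s) _) hu

end H88.P5
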