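import Cfsg.Agent.Lib.H88.P5W
import Cfsg.Agent.Lib.H57.Small6
import Cfsg.Agent.Lib.H3.PBasic

/-! Extension of automorphisms along chains; the flag lemma. -/

set_option autoImplicit false
open scoped commutatorElement
open Cfsg Cfsg.FusionSystem H86.FusBasic H86.FusSat H57.Ess H57.Small

namespace H88.P5

variable {Ω : Type*} [Group Ω] {S : Subgroup Ω} [Finite S] {p : ℕ} [hp : Fact p.Prime]

theorem inv_mem_of_maps {V : Type*} [Group V] [Finite V] {α : MulAut V} {A : Subgroup V}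
    (h : ∀ x ∈ A, α x ∈ A) : ∀ x ∈ A, α⁻¹ x ∈ A := by
  have hfA : Finite (MulAut V) := finMulAut
  have hpow : ∀ n : ℕ, ∀ x ∈ A, (α ^ n) x ∈ A := by
    intro n
    induction n with
    | zero => intro x hx; simpa using hx
    | succ n ih => intro x hx; rw [pow_succ', MulAut.mul_apply]; exact h _ (ih x hx)
  have h2 : α⁻¹ = α ^ (orderOf α - 1) := by
    symm
    apply eq_inv_of_mul_eq_one_right
    rw [← pow_succ', Nat.sub_add_cancel (orderOf_pos α), pow_orderOf_eq_one]
  rw [h2]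
  exact hpow _

/-- Automorphisms preserving a chain with small factors normalize `Aut_S(P)`. -/
theorem ch_normalizes (hS : IsPGroup p S) {F : FusionSystem S} (hF : F.IsSaturated p) {P : Subgroup Ω}
    (hP : F.IsFullyNormalized P) (d : ℕ → Subgroup P) (n : ℕ) (hm : Monotone d) (h0 : d 0 = ⊥) (hn : d n = ⊤)
    (hinv : ∀ i ≤ n, ∀ β ∈ autInducedBy S P, ∀ x ∈ d i, β x ∈ d i)
    (hi : ∀ i < n, (d i).relIndex (d (i + 1)) = p ∨ d i = d (i + 1)) {α : MulAut P} (hα : α ∈ F.autGroup P)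
    (hαd : ∀ i ≤ n, ∀ x ∈ d i, α x ∈ d i) :
    ∀ β ∈ autInducedBy S P, α * β * α⁻¹ ∈ autInducedBy S P := by
  have hfP : Finite P := finite_of_le hP.1
  have hfA : Finite (MulAut P) := finMulAut
  have hsyl := sylIn_aut hS hF hP
  have hle : autInducedBy S P ≤ chainStab d n hm := by
    intro β hβ
    obtain ⟨g, hgN, hgS, rfl⟩ := mem_autInducedBy'.1 hβ
    intro i hi' x hx
    rcases hi i hi' with h | h
    · have hfK : Finite (normalizerIn S P) := finite_of_le (normalizerIn_le S P)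
      have hKp : IsPGroup p (normalizerIn S P) := hS.to_le (normalizerIn_le S P)
      have hnorm : ∀ j ≤ n, normalizerIn S P ≤
          Subgroup.normalizer (((d j).map P.subtype : Subgroup Ω) : Set Ω) := by
        intro j hj k hk
        have hone : ∀ k ∈ normalizerIn S P, ∀ x ∈ (d j).map P.subtype,
            k * x * k⁻¹ ∈ (d j).map P.subtype := by
          rintro k ⟨hkS, hkN⟩ _ ⟨x, hx, rfl⟩
          exact ⟨conjAut P hkN x, hinv j hj _ (conjAut_mem_autInducedBy hkN hkS) x hx, rfl⟩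
        rw [Subgroup.mem_normalizer_iff]
        intro x
        refine ⟨hone k hk x, fun hx => ?_⟩
        have h3 := hone k⁻¹ (inv_mem hk) _ hx
        simpa [mul_assoc] using h3
      have h1 := comm_mem_of_relIndex hKp (H := (d i).map P.subtype) (H' := (d (i + 1)).map P.subtype)
        (Subgroup.map_mono (hm (Nat.le_succ i)))
        ((Subgroup.map_subtype_le _).trans (le_normalizerIn hP.1)) (hnorm i hi'.le) (hnorm _ hi')
        (by rw [← h]; exact Subgroup.relIndex_map_map_of_injective _ _ P.subtype_injective)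
        (x := x) ⟨x, hx, rfl⟩ (g := g) ⟨hgS, hgN⟩
      obtain ⟨y, hy, hyx⟩ := h1
      have : y = x⁻¹ * conjAut P hgN x := Subtype.ext hyx
      rwa [← this]
    · have h2 := hinv (i + 1) hi' _ (conjAut_mem_autInducedBy hgN hgS) x hx
      rw [h]
      exact mul_mem (inv_mem hx) h2
  have heq : autInducedBy S P = chainStab d n hm ⊓ F.autGroup P :=
    hsyl.eq_of_le (le_inf hle hsyl.1) inf_le_right
      ((isPGroup_chainStab (hS.to_le hP.1) h0 hn).to_le inf_le_left)
  intro β hβ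
  rw [heq] at hβ ⊢
  refine ⟨fun i hi x hx => ?_, mul_mem (mul_mem hα hβ.2) (Subgroup.inv_mem _ hα)⟩
  have key : x⁻¹ * (α * β * α⁻¹) x = α ((α⁻¹ x)⁻¹ * β (α⁻¹ x)) := by
    rw [map_mul, map_inv, MulAut.apply_inv_self, MulAut.mul_apply, MulAut.mul_apply]
  rw [key]
  exact hαd i hi.le _ (hβ.1 i hi _ (inv_mem_of_maps (hαd (i + 1) hi) x hx))

/-- Extension to the normalizer of automorphisms preserving a chain. -/
theorem extend_ch (hS : IsPGroup p S) {F : FusionSystem S} (hF : F.IsSaturated p) {P : Subgroup Ω}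
    (hP : F.IsFullyNormalized P) (d : ℕ → Subgroup P) (n : ℕ) (hm : Monotone d) (h0 : d 0 = ⊥) (hn : d n = ⊤)
    (hinv : ∀ i ≤ n, ∀ β ∈ autInducedBy S P, ∀ x ∈ d i, β x ∈ d i)
    (hi : ∀ i < n, (d i).relIndex (d (i + 1)) = p ∨ d i = d (i + 1)) {α : MulAut P} (hα : α ∈ F.autGroup P)
    (hαd : ∀ i ≤ n, ∀ x ∈ d i, α x ∈ d i) :
    ∃ γ ∈ F.autGroup (normalizerIn S P), ∀ x : P,
      ((γ ⟨x, le_normalizerIn hP.1 x.2⟩ : normalizerIn S P) : Ω) = α x :=
  extend_aut (receptive_of_fullyNormalized hS hF hP) hα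
    (ch_normalizes hS hF hP d n hm h0 hn hinv hi hα hαd)

/-- Extension when the group has a small characteristic chain. -/
theorem extend_reach (hS : IsPGroup p S) {F : FusionSystem S} (hF : F.IsSaturated p) {P : Subgroup Ω}
    (hP : F.IsFullyNormalized P) (hr : Reach p (⊤ : Subgroup P)) {α : MulAut P} (hα : α ∈ F.autGroup P) :
    ∃ γ ∈ F.autGroup (normalizerIn S P), ∀ x : P,
      ((γ ⟨x, le_normalizerIn hP.1 x.2⟩ : normalizerIn S P) : Ω) = α x := by
  obtain ⟨d, n, hm, h0, hn, hch, hd⟩ := hr.chain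
  exact extend_ch hS hF hP d n hm h0 (hn n le_rfl) (fun i _ β _ x hx => hch i β x hx) hd hα
    (fun i _ x hx => hch i α x hx)

theorem normalizerIn_of_conj {A : Subgroup Ω} (hA : A ≤ S) {g : Ω} (hg : g ∈ S)
    (h : ∀ x ∈ A, g * x * g⁻¹ ∈ A) : g ∈ normalizerIn S A := by
  have hfA : Finite A := finite_of_le hA
  refine ⟨hg, Subgroup.mem_normalizer_iff.2 fun x => ⟨h x, fun hx => ?_⟩⟩
  let f : A → A := fun y => ⟨g * y * g⁻¹, h y y.2⟩
  have hf : Function.Injective f := by
    intro a b hab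
    exact Subtype.ext (mul_left_cancel (mul_right_cancel (congrArg Subtype.val hab)))
  obtain ⟨y, hy⟩ := (Finite.injective_iff_surjective.1 hf) ⟨g * x * g⁻¹, hx⟩
  have h1 : g * (y : Ω) * g⁻¹ = g * x * g⁻¹ := congrArg Subtype.val hy
  have h2 : (y : Ω) = x := mul_left_cancel (mul_right_cancel h1)
  rw [← h2]; exact y.2

/-- The flag lemma. -/
theorem flag (hS : IsPGroup p S) {F : FusionSystem S} {E P R : Subgroup Ω}
    (hE : F.IsFullyNormalized E) (hNE : normalizerIn S E = P) (hPS : P < S) (hRE : R ≤ E)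
    (hiR : R.relIndex E = p) (hiE : E.relIndex P = p)
    (hR : ∀ α ∈ F.autGroup P, ∀ x : P, (x : Ω) ∈ R → ((α x : P) : Ω) ∈ R) :
    ∃ U : Subgroup P, U.index = p ∧ R.subgroupOf P ≤ U ∧ (R.subgroupOf P).relIndex U = p ∧
      ∀ α ∈ F.autGroup P, ∀ x ∈ U, α x ∈ U := by
  have hPS' := hPS.le
  have hEP : E ≤ P := hNE ▸ le_normalizerIn hE.1
  have hfP : Finite P := finite_of_le hPS'
  have hfE : Finite E := finite_of_le hE.1
  set Q := normalizerIn S P with hQ
  have hPQ : P ≤ Q := le_normalizerIn hPS'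
  have hfQ : Finite Q := finite_of_le (normalizerIn_le S P)
  obtain ⟨q, hqQ, hqP⟩ := SetLike.exists_of_lt (H86.FusCentric.lt_inf_normalizer hS hPS)
  change q ∈ Q at hqQ
  have hcA : ∀ g (hg : g ∈ Q), conjAut P hg.2 ∈ F.autGroup P := fun g hg =>
    mem_autGroup_of_normalizer F hPS' hg.1 hg.2
  set R0 := R.subgroupOf P with hR0
  set E0 := E.subgroupOf P with hE0
  have hR0A : ∀ α ∈ F.autGroup P, ∀ x ∈ R0, α x ∈ R0 := fun α hα x hx => hR α hα x hx
  haveI hR0n : R0.Normal := by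
    refine ⟨fun x hx g => ?_⟩
    exact hR0A _ (hcA g (hPQ g.2)) x hx
  have hRQ : ∀ g ∈ Q, ∀ x ∈ R, g * x * g⁻¹ ∈ R := by
    intro g hg x hx
    exact hR _ (hcA g hg) ⟨x, hEP (hRE hx)⟩ hx
  have hR0E : R0 ≤ E0 := fun x hx => hRE hx
  have hrelRE : R0.relIndex E0 = p := by
    rw [hR0, hE0, Subgroup.relIndex_subgroupOf hEP]; exact hiR
  have hE0i : E0.index = p := hiE
  have hR0i : R0.index = p ^ 2 := by
    rw [← Subgroup.relIndex_mul_index hR0E, hrelRE, hE0i, pow_two]
  -- the element `u`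
  obtain ⟨u, hu1, hup, huc⟩ : ∃ u : P, u ∉ R0 ∧ u ^ p ∈ R0 ∧ ∀ g (hg : g ∈ Q), u⁻¹ * conjAut P hg.2 u ∈ R0 := by
    let N1 : Subgroup Q := R.subgroupOf Q
    haveI hN1 : N1.Normal := ⟨fun x hx g => hRQ g g.2 x hx⟩
    haveI hP1 : (P.subgroupOf Q).Normal :=
      (Subgroup.normal_subgroupOf_iff_le_normalizer hPQ).2 inf_le_right
    let M1 : Subgroup (Q ⧸ N1) := (P.subgroupOf Q).map (QuotientGroup.mk' N1)
    haveI : M1.Normal := hP1.map _ (QuotientGroup.mk'_surjective _)
    have hQp : IsPGroup p (Q ⧸ N1) := (hS.to_le (normalizerIn_le S P)).to_quotient _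
    have hM1 : M1 ≠ ⊥ := by
      intro h
      have h1 : ∀ x : P, x ∈ R0 := by
        intro x
        have h2 : QuotientGroup.mk' N1 ⟨x, hPQ x.2⟩ ∈ M1 := ⟨⟨x, hPQ x.2⟩, x.2, rfl⟩
        rw [h, Subgroup.mem_bot] at h2
        have h3 : (⟨(x : Ω), hPQ x.2⟩ : Q) ∈ N1 := (QuotientGroup.eq_one_iff _).1 h2
        exact h3
      have h2 : R0 = ⊤ := eq_top_iff.2 fun x _ => h1 x
      rw [h2, Subgroup.index_top] at hR0i
      exact (Nat.one_lt_pow two_ne_zero hp.out.one_lt).ne hR0i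
    obtain ⟨s, hs, hso, hsc⟩ := H63.PGroupBasics.exists_central_orderOf_eq hQp M1 hM1
    obtain ⟨u, hu, hus⟩ := hs
    refine ⟨⟨u, hu⟩, ?_, ?_, ?_⟩
    · intro h
      have h1 : (QuotientGroup.mk u : Q ⧸ N1) = 1 := (QuotientGroup.eq_one_iff _).2 h
      have h2 : s = 1 := by rw [← hus]; exact h1
      rw [h2, orderOf_one] at hso
      exact hp.out.one_lt.ne hso
    · have h1 : s ^ p = 1 := by rw [← hso]; exact pow_orderOf_eq_one s
      rw [← hus, ← map_pow] at h1
      have h3 : u ^ p ∈ N1 := (QuotientGroup.eq_one_iff _).1 h1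
      exact h3
    · intro g hg
      have h1 := hsc (QuotientGroup.mk' N1 ⟨g, hg⟩)
      rw [← hus, ← map_mul, ← map_mul] at h1
      have h2 : QuotientGroup.mk' N1 (u⁻¹ * (⟨g, hg⟩ * u * ⟨g, hg⟩⁻¹)) = 1 := by
        rw [map_mul, map_mul, h1, map_mul, map_inv, map_inv]; group
      have h3 : u⁻¹ * (⟨g, hg⟩ * u * ⟨g, hg⟩⁻¹) ∈ N1 := (QuotientGroup.eq_one_iff _).1 h2
      exact h3
  -- elements outside `P` move `E`
  have hmove : ∀ g (hg : g ∈ Q), (∀ x ∈ E0, conjAut P hg.2 x ∈ E0) → g ∈ P := by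
    intro g hg h
    rw [← hNE]
    apply normalizerIn_of_conj hE.1 hg.1
    intro x hx
    exact h ⟨x, hEP hx⟩ hx
  have hu2 : u ∉ E0 := by
    intro hue
    apply hqP
    apply hmove q hqQ
    intro x hx
    obtain ⟨m, r, hr, rfl⟩ := exists_wt (p := p) hrelRE hue hu1 hx
    rw [map_mul, map_pow]
    have h1 : conjAut P hqQ.2 u = u * (u⁻¹ * conjAut P hqQ.2 u) := by group
    refine E0.mul_mem (E0.pow_mem ?_ m) (hR0E (hR0A _ (hcA q hqQ) r hr))
    rw [h1]
    exact E0.mul_mem hue (hR0E (huc q hqQ))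
  -- the subgroup `U`
  let U : Subgroup P := (Subgroup.zpowers (QuotientGroup.mk u : P ⧸ R0)).comap (QuotientGroup.mk' R0)
  have hR0U : R0 ≤ U := by
    intro x hx
    refine Subgroup.mem_comap.2 ?_
    have : QuotientGroup.mk' R0 x = 1 := (QuotientGroup.eq_one_iff _).2 hx
    rw [this]; exact one_mem _
  have huU : u ∈ U := Subgroup.mem_zpowers _
  have hou : orderOf (QuotientGroup.mk u : P ⧸ R0) = p := by
    apply orderOf_eq_prime
    · exact (QuotientGroup.eq_one_iff _).2 hup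
    · intro h; exact hu1 ((QuotientGroup.eq_one_iff _).1 h)
  have hrelRU : R0.relIndex U = p := by
    have h1 := Subgroup.relIndex_ker U (QuotientGroup.mk' R0)
    rw [QuotientGroup.ker_mk'] at h1
    rw [h1, Subgroup.map_comap_eq_self_of_surjective (QuotientGroup.mk'_surjective _), Nat.card_zpowers, hou]
  have hUi : U.index = p := by
    have h1 := Subgroup.relIndex_mul_index hR0U
    rw [hrelRU, hR0i, pow_two] at h1
    exact Nat.eq_of_mul_eq_mul_left hp.out.pos h1
  have hPp : IsPGroup p P := hS.to_le hPS'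
  haveI hUn : U.Normal := H3.PBasic.normal_of_index hPp hUi
  have hUc : ∀ g (hg : g ∈ Q), ∀ x ∈ U, conjAut P hg.2 x ∈ U := by
    intro g hg x hx
    obtain ⟨m, r, hr, rfl⟩ := exists_wt (p := p) hrelRU huU hu1 hx
    rw [map_mul, map_pow]
    have h1 : conjAut P hg.2 u = u * (u⁻¹ * conjAut P hg.2 u) := by group
    refine U.mul_mem (U.pow_mem ?_ m) (hR0U (hR0A _ (hcA g hg) r hr))
    rw [h1]
    exact U.mul_mem huU (hR0U (huc g hg))
  obtain ⟨e, he, heR⟩ : ∃ e ∈ E0, e ∉ R0 := by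
    by_contra hne
    push Not at hne
    have h1 : R0.relIndex E0 = 1 := Subgroup.relIndex_eq_one.2 hne
    rw [hrelRE] at h1
    exact hp.out.one_lt.ne' h1
  set c := conjAut P hqQ.2 with hc
  set w := e⁻¹ * c e with hw
  have hcR : ∀ x ∈ R0, c x ∈ R0 := hR0A _ (hcA q hqQ)
  have hwU : w ∈ U := by
    have hnU : Q ≤ Subgroup.normalizer ((U.map P.subtype : Subgroup Ω) : Set Ω) := by
      intro g hg
      have hone : ∀ g ∈ Q, ∀ x ∈ U.map P.subtype, g * x * g⁻¹ ∈ U.map P.subtype := by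
        rintro g hg _ ⟨x, hx, rfl⟩
        exact ⟨conjAut P hg.2 x, hUc g hg x hx, rfl⟩
      rw [Subgroup.mem_normalizer_iff]
      intro x
      refine ⟨hone g hg x, fun hx => ?_⟩
      have h3 := hone g⁻¹ (inv_mem hg) _ hx
      simpa [mul_assoc] using h3
    have h1 := comm_mem_of_relIndex (hS.to_le (normalizerIn_le S P)) (H := U.map P.subtype) (H' := P)
      (Subgroup.map_subtype_le _) hPQ hnU inf_le_right (by
        have : (U.map P.subtype).relIndex P = U.index := by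
          rw [← Subgroup.relIndex_top_right]
          have h2 := Subgroup.relIndex_map_map_of_injective U ⊤ P.subtype_injective
          rw [← h2, ← MonoidHom.range_eq_map, Subgroup.range_subtype]
        rw [this, hUi]) (x := (e : Ω)) e.2 (g := q) hqQ
    obtain ⟨y, hy, hyx⟩ := h1
    have : y = w := Subtype.ext hyx
    rwa [← this]
  have hce : c e = e * w := by rw [hw]; group
  have hwR : w ∉ R0 := by
    intro hwR
    apply hqP
    apply hmove q hqQ
    intro x hx
    obtain ⟨m, r, hr, rfl⟩ := exists_wt (p := p) hrelRE he heR hx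
    show c _ ∈ E0
    rw [map_mul, map_pow, hce]
    exact E0.mul_mem (E0.pow_mem (E0.mul_mem he (hR0E hwR)) m) (hR0E (hcR r hr))
  -- powers of `c`
  have hcw : w⁻¹ * c w ∈ R0 := by
    obtain ⟨m, r, hr, hwm⟩ := exists_wt (p := p) hrelRU huU hu1 hwU
    rw [hwm, map_mul, map_pow, ← QuotientGroup.eq_one_iff]
    have h1 : (QuotientGroup.mk (c u) : P ⧸ R0) = QuotientGroup.mk u := (QuotientGroup.eq.2 (huc q hqQ)).symm
    have h2 : (QuotientGroup.mk (c r) : P ⧸ R0) = 1 := (QuotientGroup.eq_one_iff _).2 (hcR r hr)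
    have h3 : (QuotientGroup.mk r : P ⧸ R0) = 1 := (QuotientGroup.eq_one_iff _).2 hr
    rw [QuotientGroup.mk_mul, QuotientGroup.mk_inv, QuotientGroup.mk_mul, QuotientGroup.mk_mul, QuotientGroup.mk_pow,
      QuotientGroup.mk_pow, h1, h2, h3, mul_one, inv_mul_cancel]
  have hck : ∀ k : ℕ, (e * w ^ k)⁻¹ * (c ^ k) e ∈ R0 := by
    intro k
    induction k with
    | zero => simp [R0.one_mem]
    | succ k ih =>
      set r := (e * w ^ k)⁻¹ * (c ^ k) e with hr
      have h1 : (c ^ k) e = e * w ^ k * r := by rw [hr]; group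
      have h2 : (c ^ (k + 1)) e = e * w * (c w) ^ k * c r := by
        rw [pow_succ', MulAut.mul_apply, h1, map_mul, map_mul, map_pow, hce]
      rw [h2, ← QuotientGroup.eq_one_iff]
      have h3 : (QuotientGroup.mk (c w) : P ⧸ R0) = QuotientGroup.mk w := (QuotientGroup.eq.2 hcw).symm
      have h4 : (QuotientGroup.mk (c r) : P ⧸ R0) = 1 := (QuotientGroup.eq_one_iff _).2 (hcR r ih)
      rw [QuotientGroup.mk_mul, QuotientGroup.mk_inv, QuotientGroup.mk_mul, QuotientGroup.mk_mul,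
        QuotientGroup.mk_mul, QuotientGroup.mk_mul, QuotientGroup.mk_pow, QuotientGroup.mk_pow, h3, h4, mul_one,
        pow_succ']
      group
  refine ⟨U, hUi, hR0U, hrelRU, ?_⟩
  intro α hα
  by_contra hne
  have hnle : ¬ U.map α.toMonoidHom ≤ U := by
    intro h
    apply hne
    intro x hx
    exact h ⟨x, hx, rfl⟩
  have hU2n : (U.map α.toMonoidHom).Normal := hUn.map _ α.surjective
  have htop : U.map α.toMonoidHom ⊔ U = ⊤ := by
    obtain ⟨y, hy, hyU⟩ := SetLike.not_le_iff_exists.1 hnle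
    rw [← Subgroup.index_eq_one]
    have h1 := Subgroup.relIndex_mul_index (le_sup_right : U ≤ U.map α.toMonoidHom ⊔ U)
    rw [hUi] at h1
    rcases (Nat.dvd_prime hp.out).1 (Dvd.intro_left _ h1) with h | h
    · exact h
    · exfalso
      rw [h] at h1
      have h2 : U.relIndex (U.map α.toMonoidHom ⊔ U) = 1 :=
        Nat.eq_of_mul_eq_mul_right hp.out.pos (by rw [h1, one_mul])
      exact hyU (Subgroup.relIndex_eq_one.1 h2 (Subgroup.mem_sup_left hy))
  obtain ⟨a, ha, b, hb, hab⟩ := Subgroup.mem_sup_of_normal_right.1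
    (show e ∈ U.map α.toMonoidHom ⊔ U by rw [htop]; exact Subgroup.mem_top e)
  obtain ⟨u', hu', rfl⟩ := ha
  obtain ⟨k, r, hr, hbk⟩ := exists_wt (p := p) hrelRU hwU hwR (U.inv_mem hb)
  have hαu' : α u' = e * b⁻¹ := by rw [← hab]; show α u' = α u' * b * b⁻¹; group
  have hA2 := hck k
  set r2 := (e * w ^ k)⁻¹ * (c ^ k) e with hr2
  have h5 : (c ^ k) e = α u' * (r⁻¹ * r2) := by
    rw [hαu', hbk, hr2]; group
  have hβA : α⁻¹ * c ^ k ∈ F.autGroup P := mul_mem (Subgroup.inv_mem _ hα) (Subgroup.pow_mem _ (hcA q hqQ) k)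
  set β := α⁻¹ * c ^ k with hβ
  have hβe : β e ∈ U := by
    rw [hβ, MulAut.mul_apply, h5, map_mul, MulAut.inv_apply_self]
    exact U.mul_mem hu' (hR0U (hR0A _ (Subgroup.inv_mem _ hα) _ (R0.mul_mem (R0.inv_mem hr) hA2)))
  have hβE : ∀ x ∈ E0, β x ∈ U := by
    intro x hx
    obtain ⟨m, r, hr, rfl⟩ := exists_wt (p := p) hrelRE he heR hx
    rw [map_mul, map_pow]
    exact U.mul_mem (U.pow_mem hβe m) (hR0U (hR0A _ hβA r hr))
  -- contradiction with the full normalization of `E`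
  have hφ : (P.subtype.comp β.toMonoidHom).comp (Subgroup.inclusion hEP) ∈ F.Hom E :=
    restrict_mem F ((mem_autGroup' F hPS').1 hβA) hEP
  have hconj : F.IsConj E (U.map P.subtype) := by
    refine ⟨_, hφ, ?_⟩
    have hfU : Finite (U.map P.subtype) := finite_of_le ((Subgroup.map_subtype_le _).trans hPS')
    apply Subgroup.eq_of_le_of_card_ge
    · rintro _ ⟨x, rfl⟩
      exact ⟨β ⟨x, hEP x.2⟩, hβE _ x.2, rfl⟩
    · have h6 : Nat.card ((P.subtype.comp β.toMonoidHom).comp (Subgroup.inclusion hEP)).range = Nat.card E :=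
        (Nat.card_congr (MonoidHom.ofInjective (F.injective_of_mem hφ)).toEquiv).symm
      rw [h6, Subgroup.card_map_of_injective P.subtype_injective]
      have h7 := Subgroup.card_mul_index U
      have h8 := Subgroup.card_mul_index E0
      rw [hUi] at h7
      rw [hE0i, Nat.card_congr (Subgroup.subgroupOfEquivOfLe hEP).toEquiv] at h8
      exact (Nat.eq_of_mul_eq_mul_right hp.out.pos (h7.trans h8.symm)).le
  have h9 := hE.2 _ hconj
  rw [hNE] at h9
  have h10 : Q ≤ normalizerIn S (U.map P.subtype) := by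
    intro g hg
    apply normalizerIn_of_conj ((Subgroup.map_subtype_le _).trans hPS') hg.1
    rintro _ ⟨x, hx, rfl⟩
    exact ⟨conjAut P hg.2 x, hUc g hg x hx, rfl⟩
  have hfN : Finite (normalizerIn S (U.map P.subtype)) := finite_of_le (normalizerIn_le _ _)
  have h11 := Subgroup.card_le_of_le h10
  have h12 : P = Q := Subgroup.eq_of_le_of_card_ge hPQ (h11.trans h9)
  exact hqP (h12 ▸ hqQ)

end H88.P5
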