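import Cfsg.Agent.Lib.H88.P5C
import Cfsg.Agent.Lib.H88.P5B3
import Cfsg.Agent.Lib.H3.SelfCent

/-! Essential subgroups of order `p²` in a group of order `p^5`. -/

set_option autoImplicit false
open scoped commutatorElement
open Cfsg Cfsg.FusionSystem H86.FusBasic H86.FusSat H57.Ess H57.Small H57.TvPair

namespace H88.P5

section
variable {G : Type*} [Group G] [Finite G] {p : ℕ} [hp : Fact p.Prime]

theorem index_centralizer_ucs (h1 : Nat.card (Subgroup.upperCentralSeries G 1) = p)
    (h2 : Nat.card (Subgroup.upperCentralSeries G 2) = p ^ 2) :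
    (Subgroup.centralizer (Subgroup.upperCentralSeries G 2 : Set G)).index = p := by
  set Z1 := Subgroup.upperCentralSeries G 1 with hZ1
  set Z2 := Subgroup.upperCentralSeries G 2 with hZ2
  set M := Subgroup.centralizer (Z2 : Set G) with hM
  haveI n1 : Z1.Normal := normal_of_ch (ch_ucs 1)
  have h12 : Z1 ≤ Z2 := Subgroup.upperCentralSeries_mono G (by norm_num)
  have z1 : ∀ z ∈ Z1, ∀ g : G, z * g = g * z := by
    intro z hz g
    rw [hZ1, Subgroup.upperCentralSeries_one] at hz
    exact (Subgroup.mem_center_iff.1 hz g).symm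
  have z1' : ∀ z : G, (∀ g : G, z * g = g * z) → z ∈ Z1 := by
    intro z hz
    rw [hZ1, Subgroup.upperCentralSeries_one, Subgroup.mem_center_iff]
    exact fun g => (hz g).symm
  have z2 : ∀ z ∈ Z2, ∀ g : G, cm Z1 z g := fun z hz => mem_ucs.1 hz
  have m2 : ∀ x ∈ M, ∀ z ∈ Z2, x * z = z * x := fun x hx z hz => (Subgroup.mem_centralizer_iff.1 hx z hz).symm
  have m2' : ∀ x : G, (∀ z ∈ Z2, x * z = z * x) → x ∈ M := fun x hx =>
    Subgroup.mem_centralizer_iff.2 fun z hz => (hx z hz).symm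
  obtain ⟨z0, hz0, hz01⟩ : ∃ z ∈ Z2, z ∉ Z1 := by
    by_contra hne
    push Not at hne
    have := Subgroup.card_le_of_le (show Z2 ≤ Z1 from hne)
    rw [h1, h2] at this
    have h5 : p < p ^ 2 := by
      calc p = p ^ 1 := (pow_one p).symm
        _ < p ^ 2 := Nat.pow_lt_pow_right hp.out.one_lt (by norm_num)
    omega
  have hrel : Z1.relIndex Z2 = p := by
    have h3 := Subgroup.relIndex_mul_relIndex ⊥ Z1 Z2 bot_le h12
    rw [Subgroup.relIndex_bot_left, Subgroup.relIndex_bot_left, h1, h2, pow_two] at h3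
    exact Nat.eq_of_mul_eq_mul_left hp.out.pos h3
  let f : G →* Z1 :=
    { toFun := fun g => ⟨g * z0 * g⁻¹ * z0⁻¹, cm_symm (z2 z0 hz0 g)⟩
      map_one' := by apply Subtype.ext; simp
      map_mul' := fun g h => by
        apply Subtype.ext
        show (g * h) * z0 * (g * h)⁻¹ * z0⁻¹ = (g * z0 * g⁻¹ * z0⁻¹) * (h * z0 * h⁻¹ * z0⁻¹)
        have h1 : h * z0 * h⁻¹ * z0⁻¹ ∈ Z1 := cm_symm (z2 z0 hz0 h)
        have h2 := z1 _ h1 g
        have h3 := z1 _ h1 (g * z0 * g⁻¹ * z0⁻¹)
        calc (g * h) * z0 * (g * h)⁻¹ * z0⁻¹ = (g * (h * z0 * h⁻¹ * z0⁻¹)) * (z0 * g⁻¹ * z0⁻¹) := by group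
          _ = ((h * z0 * h⁻¹ * z0⁻¹) * g) * (z0 * g⁻¹ * z0⁻¹) := by rw [h2]
          _ = (h * z0 * h⁻¹ * z0⁻¹) * (g * z0 * g⁻¹ * z0⁻¹) := by group
          _ = _ := h3 }
  have hfker : ∀ g : G, g ∈ f.ker ↔ g * z0 = z0 * g := by
    intro g
    rw [MonoidHom.mem_ker]
    constructor
    · intro h
      have h1 : g * z0 * g⁻¹ * z0⁻¹ = 1 := congrArg Subtype.val h
      rw [mul_inv_eq_one, mul_inv_eq_iff_eq_mul] at h1
      exact h1
    · intro h
      apply Subtype.ext
      show g * z0 * g⁻¹ * z0⁻¹ = 1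
      rw [h]; group
  have hMker : M = f.ker := by
    apply le_antisymm
    · intro x hx
      exact (hfker x).2 (m2 x hx z0 hz0)
    · intro x hx
      replace hx := (hfker x).1 hx
      apply m2'
      intro z hz
      obtain ⟨m, u, hu', rfl⟩ := exists_wt (p := p) hrel hz0 hz01 hz
      have h1 : Commute x z0 := hx
      have h2 : Commute x u := (z1 u hu' x).symm
      exact ((h1.pow_right m).mul_right h2).eq
  have hMne : M ≠ ⊤ := by
    intro h
    apply hz01
    apply z1'
    intro g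
    have : g ∈ M := by rw [h]; exact Subgroup.mem_top g
    exact (m2 g this z0 hz0).symm
  have h3 : M.index ∣ Nat.card Z1 := by
    rw [hMker, Subgroup.index_ker]
    exact Subgroup.card_subgroup_dvd_card _
  rw [h1] at h3
  rcases (Nat.dvd_prime hp.out).1 h3 with h | h
  · exact absurd (Subgroup.index_eq_one.1 h) hMne
  · exact h

theorem reach_of_four (hc : Nat.card G = p ^ 4) {A : Subgroup G} (hA : Nat.card A = p ^ 2)
    (hAC : Subgroup.centralizer (A : Set G) = A) : Reach p (⊤ : Subgroup G) := by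
  have hcl : Group.nilpotencyClass G = 4 - 1 := H3.SelfCent.nilpotencyClass_eq 4 G hc A hA hAC
  have hu := fun i (hi : i ≤ 2) => H89.MaxCl.upper_eq (p := p) (n := 4) (by norm_num) hc hcl (i := i) hi
  have h1 : Nat.card (Subgroup.upperCentralSeries G 1) = p := by rw [(hu 1 (by norm_num)).2, pow_one]
  have h2 : Nat.card (Subgroup.upperCentralSeries G 2) = p ^ 2 := (hu 2 le_rfl).2
  have hi := index_centralizer_ucs h1 h2
  have h3 : Nat.card (Subgroup.centralizer (Subgroup.upperCentralSeries G 2 : Set G)) = p ^ 3 := by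
    have h4 := Subgroup.card_mul_index (Subgroup.centralizer (Subgroup.upperCentralSeries G 2 : Set G))
    rw [hi, hc, show p ^ 4 = p ^ 3 * p from pow_succ p 3] at h4
    exact Nat.eq_of_mul_eq_mul_right hp.out.pos h4
  have r1 : Reach p (Subgroup.upperCentralSeries G 1) :=
    Reach.bot.of_card (ch_ucs 1) bot_le (by rw [Subgroup.card_bot, mul_one, h1])
  have r2 : Reach p (Subgroup.upperCentralSeries G 2) :=
    r1.of_card (ch_ucs 2) (Subgroup.upperCentralSeries_mono G (by norm_num)) (by rw [h1, h2, pow_two])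
  have hab := IsPGroup.commutative_of_card_eq_prime_sq h2
  have r3 : Reach p (Subgroup.centralizer (Subgroup.upperCentralSeries G 2 : Set G)) :=
    r2.of_card (ch_ucs 2).centralizer (by
      intro x hx
      rw [Subgroup.mem_centralizer_iff]
      intro y hy
      exact congrArg Subtype.val (hab ⟨y, hy⟩ ⟨x, hx⟩)) (by rw [h3, h2, pow_succ']; )
  exact r3.of_card Ch.top le_top (by rw [Subgroup.card_top, hc, h3, ← pow_succ'])

end

variable {Ω : Type*} [Group Ω] {S : Subgroup Ω} [Finite S] {p : ℕ} [hp : Fact p.Prime]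

omit [Finite S] in
theorem cast_aut {F : FusionSystem S} {Q : Subgroup Ω} (h : Q = S) {γ : MulAut Q} (hγ : γ ∈ F.autGroup Q) :
    ∃ κ ∈ F.autGroup S, ∀ (x : Ω) (hx : x ∈ Q), ((κ ⟨x, h ▸ hx⟩ : S) : Ω) = γ ⟨x, hx⟩ := by
  subst h
  exact ⟨γ, hγ, fun x hx => rfl⟩

theorem fn_of_index {F : FusionSystem S} (hS : IsPGroup p S) {Q : Subgroup Ω} (hQ : Q ≤ S)
    (hi : (Q.subgroupOf S).index = p) : F.IsFullyNormalized Q ∧ normalizerIn S Q = S := by
  have hn : (Q.subgroupOf S).Normal := H3.PBasic.normal_of_index hS hi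
  have h1 : normalizerIn S Q = S :=
    inf_eq_left.2 ((Subgroup.normal_subgroupOf_iff_le_normalizer hQ).1 hn)
  refine ⟨⟨hQ, fun R _ => ?_⟩, h1⟩
  rw [h1]
  exact Nat.card_le_card_of_injective _ (Subgroup.inclusion_injective (normalizerIn_le S R))

/-- Choice of an essential subgroup whose normalizer is fully normalized. -/
theorem choose_E {F : FusionSystem S} {E : Subgroup Ω} (hE : F.IsEssential p E) :
    ∃ E' : Subgroup Ω, F.IsEssential p E' ∧ Nat.card E' = Nat.card E ∧
      F.IsFullyNormalized (normalizerIn S E') := by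
  have hES := hE.1.1
  set P := normalizerIn S E with hP
  have hPS : P ≤ S := normalizerIn_le S E
  obtain ⟨P', hconj, hP'⟩ := exists_fullyNormalized F hPS
  obtain ⟨e, he⟩ := (isConj_iff F).1 hconj
  obtain ⟨E', f, hE'P', hf, hfe, hmem⟩ := he.restrict (le_normalizerIn hES)
  have hfP' : Finite P' := finite_of_le hP'.1
  have hfE' : Finite E' := finite_of_le (hE'P'.trans hP'.1)
  have hle : P' ≤ normalizerIn S E' := by
    intro g hg
    apply normalizerIn_of_conj (hE'P'.trans hP'.1) (hP'.1 hg)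
    intro x hx
    have h1 : ((e.symm ⟨x, hE'P' hx⟩ : P) : Ω) ∈ E := (hmem ⟨x, hE'P' hx⟩).1 hx
    have h2 := (e.symm ⟨g, hg⟩).2
    have h3 := (Subgroup.mem_normalizer_iff.1 h2.2 _).1 h1
    have h4 : ((⟨g, hg⟩ * ⟨x, hE'P' hx⟩ * ⟨g, hg⟩⁻¹ : P') : Ω) ∈ E' := by
      rw [hmem, map_mul, map_mul, map_inv]
      exact h3
    exact h4
  have hcE : Nat.card E' = Nat.card E := (Nat.card_congr f.toEquiv).symm
  have hcP : Nat.card P' = Nat.card P := (Nat.card_congr e.toEquiv).symm
  have hfull : ∀ R, F.IsConj E' R → Nat.card (normalizerIn S R) ≤ Nat.card P' := by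
    intro R hR
    rw [hcP]
    exact hE.2.1.2 R (isConj_trans hf.isConj hR)
  have hfN : Finite (normalizerIn S E') := finite_of_le (normalizerIn_le _ _)
  have heq : P' = normalizerIn S E' :=
    Subgroup.eq_of_le_of_card_ge hle (hfull E' (isConj_refl F (hE'P'.trans hP'.1)))
  have hE'fn : F.IsFullyNormalized E' := ⟨hE'P'.trans hP'.1, fun R hR => by rw [← heq]; exact hfull R hR⟩
  exact ⟨E', essential_iso hE hf hE'fn, hcE, heq ▸ hP'⟩

theorem card_of_index {A B : Subgroup Ω} (h : A ≤ B) {n : ℕ} (hA : Nat.card A = p ^ n)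
    (hi : (A.subgroupOf B).index = p) : Nat.card B = p ^ (n + 1) := by
  have h1 := Subgroup.card_mul_index (A.subgroupOf B)
  rw [hi, Nat.card_congr (Subgroup.subgroupOfEquivOfLe h).toEquiv, hA] at h1
  rw [← h1, pow_succ]

theorem index_of_card {A B : Subgroup Ω} (h : A ≤ B) {n : ℕ} (hA : Nat.card A = p ^ n)
    (hB : Nat.card B = p ^ (n + 1)) : (A.subgroupOf B).index = p := by
  have h1 := Subgroup.card_mul_index (A.subgroupOf B)
  rw [Nat.card_congr (Subgroup.subgroupOfEquivOfLe h).toEquiv, hA, hB, pow_succ] at h1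
  exact Nat.eq_of_mul_eq_mul_left (pow_pos hp.out.pos n) h1

/-- Extension to `S` of automorphisms of an essential subgroup of order `p²`. -/
theorem caseB_ext (hS : IsPGroup p S) {F : FusionSystem S} (hF : F.IsSaturated p) (hcard : Nat.card S = p ^ 5)
    {E : Subgroup Ω} (hE : F.IsEssential p E) (hEc : Nat.card E = p ^ 2)
    (hPfn : F.IsFullyNormalized (normalizerIn S E)) {α : MulAut E} (hα : α ∈ F.autGroup E)
    (hn : ∀ β ∈ autInducedBy S E, α * β * α⁻¹ ∈ autInducedBy S E) :
    ∃ κ ∈ F.autGroup S, ∀ x : E, ((κ ⟨x, hE.1.1 x.2⟩ : S) : Ω) = α x := by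
  have hES := hE.1.1
  obtain ⟨hcomm, hel, hc1, hidx, -⟩ := essential_p_sq hS hF hE hEc
  have hiP : (E.subgroupOf (normalizerIn S E)).index = p := index_normalizer_of_card hE hcomm hc1
  set P := normalizerIn S E with hP
  have hPS : P ≤ S := normalizerIn_le S E
  have hEP : E ≤ P := le_normalizerIn hES
  obtain ⟨γ1, hγ1, hγ1x⟩ : ∃ γ ∈ F.autGroup P, ∀ x : E, ((γ ⟨x, hEP x.2⟩ : P) : Ω) = α x :=
    extend_aut (receptive_of_fullyNormalized hS hF hE.2.1) hα hn
  have hcP : Nat.card P = p ^ 3 := card_of_index hEP hEc hiP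
  have hfP : Finite P := finite_of_le hPS
  have hPp : IsPGroup p P := hS.to_le hPS
  have hPlt : P < S := by
    refine lt_of_le_of_ne hPS fun h => ?_
    rw [h, hcard] at hcP
    exact absurd ((Nat.pow_right_injective hp.out.two_le) hcP) (by norm_num)
  have hC := centralizerIn_le_of_essential hE
  have hEltP : ¬ P ≤ E := by
    intro h
    haveI : Finite E := finite_of_le hES
    have h1 := Subgroup.card_le_of_le h
    rw [hcP, hEc] at h1
    exact absurd h1 (not_le.2 (Nat.pow_lt_pow_right hp.out.one_lt (by norm_num)))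
  have hPnab : ¬ ∀ a b : P, a * b = b * a := by
    intro h
    apply hEltP
    intro x hx
    apply hC
    refine mem_centralizerIn.2 ⟨hPS hx, fun y hy => ?_⟩
    exact congrArg Subtype.val (h ⟨y, hEP hy⟩ ⟨x, hx⟩)
  obtain ⟨k, hk, hk1, hk2, -⟩ := center_cases (p := p) hPp hPnab hcP
  have hk' : k = 1 := by omega
  subst hk'
  set R := (Subgroup.center P).map P.subtype with hR
  have hRc : Nat.card R = p ^ 1 := by rw [hR, Subgroup.card_map_of_injective P.subtype_injective, hk]
  have hRE : R ≤ E := by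
    rintro _ ⟨z, hz, rfl⟩
    apply hC
    refine mem_centralizerIn.2 ⟨hPS z.2, fun y hy => ?_⟩
    exact congrArg Subtype.val (Subgroup.mem_center_iff.1 hz ⟨y, hEP hy⟩)
  have hR0 : R.subgroupOf P = Subgroup.center P := by
    rw [hR, Subgroup.subgroupOf, Subgroup.comap_map_eq_self_of_injective P.subtype_injective]
  have hRinv : ∀ β : MulAut P, ∀ x : P, (x : Ω) ∈ R → ((β x : P) : Ω) ∈ R := by
    intro β x hx
    have h1 : x ∈ R.subgroupOf P := hx
    rw [hR0] at h1
    have h2 := Ch.center β x h1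
    rw [← hR0] at h2
    exact h2
  obtain ⟨U, hUi, hRU, hrelRU, hUA⟩ := flag hS (F := F) hE.2.1 hP.symm hPlt hRE
    (index_of_card hRE hRc hEc) hiP (fun α _ => hRinv α)
  have hdinv : ∀ i ≤ 3, ∀ β ∈ F.autGroup P, ∀ x ∈ chain3 (R.subgroupOf P) U i, β x ∈ chain3 (R.subgroupOf P) U i := by
    intro i hi β hβ x hx
    match i, hi with
    | 0, _ =>
      have h1 : x = 1 := hx
      rw [h1, map_one]; exact one_mem _
    | 1, _ => exact hRinv β x hx
    | 2, _ => exact hUA β hβ x hx
    | 3, _ => exact Subgroup.mem_top _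
  obtain ⟨γ2, hγ2, hγ2x⟩ := extend_ch hS hF hPfn (chain3 (R.subgroupOf P) U) 3 (chain3_mono hRU) rfl rfl
    (fun i hi β hβ => hdinv i hi β (autInducedBy_le_autGroup F hPS hβ)) (by
      intro i hi
      match i, hi with
      | 0, _ =>
        left
        show (⊥ : Subgroup P).relIndex (R.subgroupOf P) = p
        rw [Subgroup.relIndex_bot_left, hR0, hk, pow_one]
      | 1, _ => left; exact hrelRU
      | 2, _ =>
        left
        show U.relIndex ⊤ = p
        rw [Subgroup.relIndex_top_right, hUi]) hγ1 (fun i hi => hdinv i hi γ1 hγ1)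
  set Q := normalizerIn S P with hQ
  have hPQ : P ≤ Q := le_normalizerIn hPS
  have hQS : Q ≤ S := normalizerIn_le S P
  by_cases hQe : Q = S
  · obtain ⟨κ, hκ, hκx⟩ := cast_aut hQe hγ2
    refine ⟨κ, hκ, fun x => ?_⟩
    rw [hκx x (hPQ (hEP x.2))]
    have h1 := hγ2x ⟨x, hEP x.2⟩
    rw [h1, hγ1x]
  · have hfQ : Finite Q := finite_of_le hQS
    have hcQ : Nat.card Q = p ^ 4 := by
      have h1 : Nat.card Q ∣ p ^ 5 := hcard ▸ Subgroup.card_dvd_of_le hQS
      obtain ⟨j, hj, hj'⟩ := (Nat.dvd_prime_pow hp.out).1 h1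
      have h2 : P < Q := lt_of_le_of_ne hPQ (fun h => by
        have := H86.FusCentric.lt_inf_normalizer hS hPlt
        exact this.ne h)
      have h3 : Nat.card P < Nat.card Q := by
        refine lt_of_le_of_ne (Subgroup.card_le_of_le hPQ) fun h => ?_
        exact h2.ne (Subgroup.eq_of_le_of_card_ge hPQ h.ge)
      have h4 : Nat.card Q < Nat.card S := by
        refine lt_of_le_of_ne (Subgroup.card_le_of_le hQS) fun h => ?_
        exact hQe (Subgroup.eq_of_le_of_card_ge hQS h.ge)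
      rw [hj', hcP] at h3
      rw [hj', hcard] at h4
      have h5 := (Nat.pow_lt_pow_iff_right hp.out.one_lt).1 h3
      have h6 := (Nat.pow_lt_pow_iff_right hp.out.one_lt).1 h4
      have : j = 4 := by omega
      rw [hj', this]
    obtain ⟨hQfn, hNQ⟩ := fn_of_index (F := F) hS hQS (index_of_card hQS hcQ hcard)
    have hEQ : E ≤ Q := hEP.trans hPQ
    have hreach : Reach p (⊤ : Subgroup Q) := by
      refine reach_of_four hcQ (A := E.subgroupOf Q) ?_ ?_
      · rw [Nat.card_congr (Subgroup.subgroupOfEquivOfLe hEQ).toEquiv, hEc]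
      · apply le_antisymm
        · intro x hx
          apply hC
          refine mem_centralizerIn.2 ⟨hQS x.2, fun y hy => ?_⟩
          exact congrArg Subtype.val (Subgroup.mem_centralizer_iff.1 hx ⟨y, hEQ hy⟩ hy)
        · intro x hx
          rw [Subgroup.mem_centralizer_iff]
          intro y hy
          have h9 : (y : Ω) * x = x * y := congrArg Subtype.val (hcomm ⟨y, hy⟩ ⟨x, hx⟩)
          exact Subtype.ext h9
    obtain ⟨γ3, hγ3, hγ3x⟩ := extend_reach hS hF hQfn hreach hγ2
    obtain ⟨κ, hκ, hκx⟩ := cast_aut hNQ hγ3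
    refine ⟨κ, hκ, fun x => ?_⟩
    rw [hκx x (le_normalizerIn hQS (hEQ x.2))]
    have h1 := hγ3x ⟨x, hEQ x.2⟩
    have h2 := hγ2x ⟨x, hEP x.2⟩
    rw [h1, h2, hγ1x]

end H88.P5
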