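import Cfsg.Agent.Lib.H88.P5D

/-! No essential subgroup of order `p²`. -/

set_option autoImplicit false
set_option maxHeartbeats 400000
open scoped commutatorElement
open Cfsg Cfsg.FusionSystem H86.FusBasic H86.FusSat H57.Ess H57.Small H57.TvPair Matrix

namespace H88.P5

/-- The torus of `SL_2(p)`. -/
def tor2 {p : ℕ} (l : (ZMod p)ˣ) : SpecialLinearGroup (Fin 2) (ZMod p) :=
  ⟨!![((l⁻¹ : (ZMod p)ˣ) : ZMod p), 0; 0, (l : ZMod p)], by simp [Matrix.det_fin_two]⟩

theorem diag_up {p : ℕ} {a b : ZMod p} (t : ZMod p) (h : a * b = 1) :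
    (!![a, 0; 0, b] : Matrix (Fin 2) (Fin 2) (ZMod p)) * !![1, t; 0, 1] = !![1, a * t * a; 0, 1] * !![a, 0; 0, b] := by
  have e : a * t * a * b = a * t := by rw [mul_assoc, h, mul_one]
  ext i j
  fin_cases i <;> fin_cases j <;> simp [Matrix.mul_apply, Fin.sum_univ_two, e]

theorem tor2_up {p : ℕ} [hp : Fact p.Prime] (l : (ZMod p)ˣ) (t : ZMod p) :
    tor2 l * up t * (tor2 l)⁻¹ = up (((l⁻¹ : (ZMod p)ˣ) : ZMod p) * t * ((l⁻¹ : (ZMod p)ˣ) : ZMod p)) := by
  rw [mul_inv_eq_iff_eq_mul]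
  exact Subtype.ext (diag_up t l.inv_mul)

/-- The torus normalizes the group of upper elementary matrices. -/
theorem tor2_normalizes {V : Type*} [Group V] {p : ℕ} [hp : Fact p.Prime] (D : Plane V p) {T : Subgroup (MulAut V)}
    (hT : ∀ u, u ∈ T ↔ ∃ t, u = D.rho (up t)) (l : (ZMod p)ˣ) :
    ∀ β ∈ T, D.rho (tor2 l) * β * (D.rho (tor2 l))⁻¹ ∈ T := by
  intro β hβ
  obtain ⟨t, rfl⟩ := (hT β).1 hβ
  refine (hT _).2 ⟨((l⁻¹ : (ZMod p)ˣ) : ZMod p) * t * ((l⁻¹ : (ZMod p)ˣ) : ZMod p), ?_⟩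
  rw [← map_inv, ← map_mul, ← map_mul, tor2_up]

theorem Plane.pow_ι {V : Type*} [Group V] {p : ℕ} [hp : Fact p.Prime] (D : Plane V p) (w : Fin 2 → ZMod p) (c : ZMod p) :
    D.ι (Multiplicative.ofAdd (c • w)) = D.ι (Multiplicative.ofAdd w) ^ c.val := by
  rw [← map_pow, ← ofAdd_nsmul]
  congr 2
  ext i
  simp

theorem diag_x {p : ℕ} (a b : ZMod p) : (!![a, 0; 0, b] : Matrix (Fin 2) (Fin 2) (ZMod p)) *ᵥ ![0, 1] = b • ![0, 1] := by
  ext i
  fin_cases i <;> simp [Matrix.mulVec, dotProduct, Fin.sum_univ_two]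

theorem diag_y {p : ℕ} (a b c : ZMod p) : (!![a, 0; 0, b] : Matrix (Fin 2) (Fin 2) (ZMod p)) *ᵥ ![c, 0] = a • ![c, 0] := by
  ext i
  fin_cases i <;> simp [Matrix.mulVec, dotProduct, Fin.sum_univ_two]

theorem Plane.tor2_x {V : Type*} [Group V] {p : ℕ} [hp : Fact p.Prime] (D : Plane V p) (l : (ZMod p)ˣ) :
    D.rho (tor2 l) (D.ι (Multiplicative.ofAdd ![0, 1])) = D.ι (Multiplicative.ofAdd ![0, 1]) ^ (l : ZMod p).val := by
  rw [D.rho_apply, D.act_ι, ← Plane.pow_ι]
  congr 2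
  exact diag_x _ _

theorem Plane.tor2_y {V : Type*} [Group V] {p : ℕ} [hp : Fact p.Prime] (D : Plane V p) (l : (ZMod p)ˣ)
    (a : ZMod p) :
    D.rho (tor2 l) (D.ι (Multiplicative.ofAdd ![a, 0])) =
      D.ι (Multiplicative.ofAdd ![a, 0]) ^ ((l⁻¹ : (ZMod p)ˣ) : ZMod p).val := by
  rw [D.rho_apply, D.act_ι, ← Plane.pow_ι]
  congr 2
  exact diag_y _ _ _

universe v
variable {Ω : Type v} [Group Ω] {S : Subgroup Ω} [Finite S] {p : ℕ} [hp : Fact p.Prime]

theorem commutator_le_of_com {G : Type*} [Group G] {Z : Subgroup G} (h : ∀ x y : G, cm Z x y) :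
    _root_.commutator G ≤ Z := by
  rw [commutator_def, Subgroup.commutator_le]
  intro a _ b _
  exact h a b

theorem caseB_false (hS : IsPGroup p S) {F : FusionSystem S} (hF : F.IsSaturated p) (hp2 : p ≠ 2) (hp7 : p ≠ 7)
    (hcard : Nat.card S = p ^ 5)
    (hNA : ∀ A : Subgroup Ω, A ≤ S → (∀ x ∈ A, ∀ y ∈ A, x * y = y * x) → Nat.card A ≠ p ^ 4)
    (hhyp : F.hyperfocalSubgroup p = S) {E : Subgroup Ω} (hE0 : F.IsEssential p E) (hEc0 : Nat.card E = p ^ 2) :
    False := by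
  obtain ⟨E, hE, hEc, hPfn⟩ := choose_E hE0
  rw [hEc0] at hEc
  clear hE0 hEc0
  have hES := hE.1.1
  have hfE : Finite E := finite_of_le hES
  obtain ⟨hcomm, hel, hc1, hidx, D, hD, hDU, hDπ⟩ := essential_p_sq hS hF hE hEc
  have hC := centralizerIn_le_of_essential hE
  have hiP : (E.subgroupOf (normalizerIn S E)).index = p := index_normalizer_of_card hE hcomm hc1
  have hcP : Nat.card (normalizerIn S E) = p ^ 3 := card_of_index (le_normalizerIn hES) hEc hiP
  -- the group `S`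
  have hcE0 : Nat.card (E.subgroupOf S) = p ^ 2 := by
    rw [Nat.card_congr (Subgroup.subgroupOfEquivOfLe hES).toEquiv, hEc]
  have hcent : Subgroup.centralizer ((E.subgroupOf S : Subgroup S) : Set S) = E.subgroupOf S := by
    apply le_antisymm
    · intro x hx
      apply hC
      refine mem_centralizerIn.2 ⟨x.2, fun y hy => ?_⟩
      exact congrArg Subtype.val (Subgroup.mem_centralizer_iff.1 hx ⟨y, hES hy⟩ hy)
    · intro x hx
      rw [Subgroup.mem_centralizer_iff]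
      intro y hy
      have h9 : (y : Ω) * x = x * y := congrArg Subtype.val (hcomm ⟨y, hy⟩ ⟨x, hx⟩)
      exact Subtype.ext h9
  have hcl : Group.nilpotencyClass S = 4 := H3.SelfCent.nilpotencyClass_eq 5 S hcard _ hcE0 hcent
  have hNA' : ∀ A : Subgroup S, (∀ x ∈ A, ∀ y ∈ A, x * y = y * x) → Nat.card A ≠ p ^ 4 := by
    intro A hA h
    refine hNA (A.map S.subtype) (Subgroup.map_subtype_le _) ?_ (by
      rw [Subgroup.card_map_of_injective S.subtype_injective, h])
    rintro _ ⟨x, hx, rfl⟩ _ ⟨y, hy, rfl⟩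
    exact congrArg Subtype.val (hA x hx y hy)
  obtain ⟨Z1, Z2, Z3, M, hDat⟩ : ∃ Z1 Z2 Z3 M : Subgroup S, Dat p Z1 Z2 Z3 M := ⟨_, _, _, _, exists_dat hcard hcl hNA'⟩
  have hMnab : ¬ ∀ x ∈ M, ∀ y ∈ M, x * y = y * x := fun h => hNA' M h hDat.cardM
  -- `ι` is bijective
  have hbij : Function.Bijective D.ι := by
    rw [Nat.bijective_iff_injective_and_card]
    refine ⟨D.ι_injective, ?_⟩
    rw [hEc]
    show Nat.card (Fin 2 → ZMod p) = _
    rw [Nat.card_fun, Nat.card_zmod, Nat.card_eq_fintype_card, Fintype.card_fin]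
  -- the centre
  have hZ1E : ∀ z ∈ Z1, ∃ a : ZMod p, ∃ h : (z : Ω) ∈ E, (⟨(z : Ω), h⟩ : E) = D.ι (Multiplicative.ofAdd ![a, 0]) := by
    intro z hz
    have hzE : (z : Ω) ∈ E := by
      apply hC
      refine mem_centralizerIn.2 ⟨z.2, fun y hy => ?_⟩
      exact (congrArg Subtype.val (hDat.z1 z hz ⟨y, hES hy⟩)).symm
    have hfix : (⟨(z : Ω), hzE⟩ : E) ∈ fixN S E := by
      intro g hg _
      have h1 : (z : Ω) * g = g * z := congrArg Subtype.val (hDat.z1 z hz ⟨g, hg⟩)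
      show g * (z : Ω) * g⁻¹ = z
      rw [← h1, mul_inv_cancel_right]
    obtain ⟨w, hw⟩ := hbij.2 ⟨(z : Ω), hzE⟩
    have h2 := (hDπ _).2 hfix
    rw [← hw, D.ret] at h2
    refine ⟨w.toAdd 0, hzE, ?_⟩
    rw [← hw]
    congr 1
    apply Multiplicative.toAdd.injective
    rw [toAdd_ofAdd]
    ext i
    fin_cases i
    · rfl
    · exact h2
  -- the element `x`
  set x0 : E := D.ι (Multiplicative.ofAdd ![0, 1]) with hx0
  set x : S := ⟨x0, hES x0.2⟩ with hx
  have hxM : x ∉ M := by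
    intro hxM
    have h1 : Z2.map S.subtype ≤ E := by
      rintro _ ⟨z, hz, rfl⟩
      apply hC
      refine mem_centralizerIn.2 ⟨z.2, fun y hy => ?_⟩
      obtain ⟨w, hw⟩ := hbij.2 ⟨y, hy⟩
      have h2 : (⟨y, hy⟩ : E) = D.ι (Multiplicative.ofAdd ![w.toAdd 0, 0]) * x0 ^ (w.toAdd 1).val := by
        rw [hx0, ← Plane.pow_ι, ← map_mul, ← ofAdd_add, ← hw]
        congr 1
        apply Multiplicative.toAdd.injective
        rw [toAdd_ofAdd]
        ext i
        fin_cases i <;> simp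
      -- `ι (a, 0)` is central
      have h3 : ((D.ι (Multiplicative.ofAdd ![w.toAdd 0, 0]) : E) : Ω) * z = z * (D.ι (Multiplicative.ofAdd ![w.toAdd 0, 0]) : E) := by
        -- the subgroup `Z1` is all of the fixed line
        have h4 : ∀ v : E, v ∈ fixN S E → ∃ z' ∈ Z1, (z' : Ω) = v := by
          have h5 : (Z1.map S.subtype) ≤ (fixN S E).map E.subtype := by
            rintro _ ⟨z', hz', rfl⟩
            obtain ⟨a, h, ha⟩ := hZ1E z' hz'
            refine ⟨⟨(z' : Ω), h⟩, ?_, rfl⟩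
            rw [SetLike.mem_coe, ← hDπ, ha, D.ret, toAdd_ofAdd]
            rfl
          have hcfix : Nat.card (fixN S E) = p := by
            have h6 := Subgroup.card_mul_index (fixN S E)
            rw [hidx, hEc, pow_two] at h6
            exact Nat.eq_of_mul_eq_mul_right hp.out.pos h6
          have hff : Finite ((fixN S E).map E.subtype) := finite_of_le ((Subgroup.map_subtype_le _).trans hES)
          have h7 : Z1.map S.subtype = (fixN S E).map E.subtype := by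
            apply Subgroup.eq_of_le_of_card_ge h5
            rw [Subgroup.card_map_of_injective S.subtype_injective, Subgroup.card_map_of_injective E.subtype_injective,
              hcfix, hDat.card1]
          intro v hv
          have h8 : (v : Ω) ∈ Z1.map S.subtype := by rw [h7]; exact ⟨v, hv, rfl⟩
          obtain ⟨z', hz', h9⟩ := h8
          exact ⟨z', hz', h9⟩
        obtain ⟨z', hz', h10⟩ := h4 (D.ι (Multiplicative.ofAdd ![w.toAdd 0, 0])) (by
          rw [← hDπ, D.ret, toAdd_ofAdd]; rfl)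
        rw [← h10]
        exact congrArg Subtype.val (hDat.z1 z' hz' z)
      have h5 : (x0 : Ω) * z = z * x0 := congrArg Subtype.val (hDat.m2 x hxM z hz)
      have h6 : y = ((D.ι (Multiplicative.ofAdd ![w.toAdd 0, 0]) : E) : Ω) * (x0 : Ω) ^ (w.toAdd 1).val :=
        congrArg Subtype.val h2
      rw [h6]
      exact (Commute.mul_left h3 ((show Commute (x0 : Ω) z from h5).pow_left _)).eq
    have h2 : Z2.map S.subtype = E := by
      apply Subgroup.eq_of_le_of_card_ge h1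
      rw [Subgroup.card_map_of_injective S.subtype_injective, hDat.card2, hEc]
    have h3 : normalizerIn S E = S := by
      apply le_antisymm (normalizerIn_le S E)
      intro g hg
      apply normalizerIn_of_conj hES hg
      rw [← h2]
      rintro _ ⟨z, hz, rfl⟩
      have h8 : (⟨g, hg⟩ : S) * z * ⟨g, hg⟩⁻¹ ∈ Z2 := (normal_of_ch hDat.ch2).conj_mem z hz ⟨g, hg⟩
      exact Subgroup.mem_map.2 ⟨_, h8, rfl⟩
    rw [h3, hcard] at hcP
    exact absurd ((Nat.pow_right_injective hp.out.two_le) hcP) (by norm_num)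
  have hfam : ∀ l : (ZMod p)ˣ, ∃ κ : MulAut S, ∃ a b : ℕ, (a : ZMod p) = l ∧ (b : ZMod p) = (l⁻¹ : (ZMod p)ˣ) ∧
      κ x = x ^ a ∧ ∀ z ∈ Z1, κ z = z ^ b := by
    intro l
    obtain ⟨κ, hκ, hκx⟩ := caseB_ext hS hF hcard hE hEc hPfn (hD (tor2 l)) (tor2_normalizes D hDU l)
    refine ⟨κ, (l : ZMod p).val, ((l⁻¹ : (ZMod p)ˣ) : ZMod p).val, ZMod.natCast_zmod_val _,
      ZMod.natCast_zmod_val _, ?_, ?_⟩
    · apply Subtype.ext
      have h1 := hκx x0
      rw [hx0, Plane.tor2_x, Subgroup.coe_pow] at h1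
      rw [Subgroup.coe_pow]
      exact h1
    · intro z hz
      obtain ⟨a, h, ha⟩ := hZ1E z hz
      apply Subtype.ext
      have h1 := hκx ⟨(z : Ω), h⟩
      rw [ha, Plane.tor2_y, ← ha, Subgroup.coe_pow] at h1
      rw [Subgroup.coe_pow]
      exact h1
  have hp3 := hDat.three hMnab hp2 hp7 hxM hfam
  subst hp3
  obtain ⟨s, hs, hs3⟩ := hDat.exists_s
  haveI : Z3.Normal := normal_of_ch hDat.ch3
  refine H88.P5Y.no_char hS hF hhyp (fun A _ hA => hDat.raw hxM ?_ hA) Z3 (commutator_le_of_com hDat.com)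
    hDat.pow_mem hs3 (fun κ _ => hDat.fix_three hMnab hs hs3 κ)
  have h9 : (x0 : Ω) ^ 3 = 1 := congrArg Subtype.val (hel x0)
  exact Subtype.ext h9

end H88.P5
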