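import Cfsg.Agent.Lib.H88.P5E
import Cfsg.Agent.Lib.H57.Small3
import Cfsg.Agent.Lib.H89.Normal3

/-! An essential subgroup moving the centre. -/

set_option autoImplicit false
set_option maxHeartbeats 400000
open scoped commutatorElement
open Cfsg Cfsg.FusionSystem H86.FusBasic H86.FusSat H57.Ess H57.Small H57.TvPair

namespace H88.P5

variable {Ω : Type*} [Group Ω] {S : Subgroup Ω} [Finite S] {p : ℕ} [hp : Fact p.Prime]

/-- The centre of `S` as a subgroup of `Ω`. -/
def ZS (S : Subgroup Ω) : Subgroup Ω := (Subgroup.center S).map S.subtype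

omit [Finite S] in
theorem mem_ZS {x : Ω} : x ∈ ZS S ↔ x ∈ S ∧ ∀ y ∈ S, x * y = y * x := by
  constructor
  · rintro ⟨z, hz, rfl⟩
    refine ⟨z.2, fun y hy => ?_⟩
    exact (congrArg Subtype.val (Subgroup.mem_center_iff.1 hz ⟨y, hy⟩)).symm
  · rintro ⟨hx, h⟩
    refine ⟨⟨x, hx⟩, ?_, rfl⟩
    exact Subgroup.mem_center_iff.2 fun g => Subtype.ext (h g g.2).symm

omit [Finite S] in
theorem ZS_le : ZS S ≤ S := Subgroup.map_subtype_le _

theorem ZS_ne_bot (hS : IsPGroup p S) (hne : S ≠ ⊥) : ZS S ≠ ⊥ := by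
  haveI : Nontrivial S := (Subgroup.nontrivial_iff_ne_bot S).2 hne
  haveI := hS.center_nontrivial
  intro h
  have h1 : Subgroup.center S = ⊥ := (Subgroup.map_eq_bot_iff_of_injective _ S.subtype_injective).1 h
  exact (Subgroup.nontrivial_iff_ne_bot _).1 this h1

/-- The centre is moved by some essential subgroup when the core is trivial. -/
theorem exists_mover (hS : IsPGroup p S) {F : FusionSystem S} (hF : F.IsSaturated p) (hcore : F.core = ⊥)
    (hne : S ≠ ⊥) : ∃ E, F.IsEssential p E ∧ ∃ α ∈ F.autGroup E, ∃ x : E, (x : Ω) ∈ ZS S ∧ ((α x : E) : Ω) ∉ ZS S := by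
  by_contra hcon
  push Not at hcon
  have hn : F.IsNormal (ZS S) := by
    refine H89.Normal.isNormal_of_essential hS hF fun P hP => ?_
    rcases hP with rfl | hP
    · refine ⟨ZS_le, fun α _ x hx => ?_⟩
      rw [mem_ZS] at hx ⊢
      refine ⟨(α x).2, fun y hy => ?_⟩
      have h1 : x ∈ Subgroup.center P := Subgroup.mem_center_iff.2 fun g => Subtype.ext (hx.2 g g.2).symm
      have h2 := Ch.center α x h1
      exact (congrArg Subtype.val (Subgroup.mem_center_iff.1 h2 ⟨y, hy⟩)).symm
    · refine ⟨?_, fun α hα x hx => hcon P hP α hα x hx⟩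
      intro z hz
      rw [mem_ZS] at hz
      exact centralizerIn_le_of_essential hP (mem_centralizerIn.2 ⟨hz.1, fun y hy => (hz.2 y (hP.1.1 hy)).symm⟩)
  have h1 := H89.Normal3.isNormal_le_core hn
  rw [hcore] at h1
  exact ZS_ne_bot hS hne (le_bot_iff.1 h1)

omit [Finite S] hp in
theorem mover_absurd {E : Subgroup Ω} {α : MulAut E} {x : E} (hx : (x : Ω) ∈ ZS S) (hαx : ((α x : E) : Ω) ∉ ZS S)
    {A : Subgroup E} (hA : Ch A) (h : A.map E.subtype = ZS S) : False := by
  apply hαx
  rw [← h] at hx ⊢
  obtain ⟨y, hy, hyx⟩ := hx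
  have : y = x := Subtype.ext hyx
  rw [this] at hy
  exact ⟨α x, hA α x hy, rfl⟩

theorem mover_cases (hS : IsPGroup p S) {F : FusionSystem S} (hF : F.IsSaturated p) (hcard : Nat.card S = p ^ 5)
    (hNA : ∀ A : Subgroup Ω, A ≤ S → (∀ x ∈ A, ∀ y ∈ A, x * y = y * x) → Nat.card A ≠ p ^ 4)
    {E : Subgroup Ω} (hE : F.IsEssential p E) {α : MulAut E} {x : E}
    (hx : (x : Ω) ∈ ZS S) (hαx : ((α x : E) : Ω) ∉ ZS S) :
    Nat.card E = p ^ 2 ∨ (Nat.card E = p ^ 3 ∧ (∀ a b : E, a * b = b * a) ∧ ∀ a : E, a ^ p = 1) := by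
  have hES := hE.1.1
  have hfE : Finite E := finite_of_le hES
  have hEp : IsPGroup p E := hS.to_le hES
  have hlt := lt_of_essential hS hF hE
  have hC := centralizerIn_le_of_essential hE
  have hnr := not_reach hS hF hE
  have hSne : S ≠ ⊥ := by
    rintro rfl
    rw [Subgroup.card_bot] at hcard
    exact (Nat.one_lt_pow (by norm_num) hp.out.one_lt).ne hcard
  have hZE : ZS S ≤ E := by
    intro z hz
    rw [mem_ZS] at hz
    exact hC (mem_centralizerIn.2 ⟨hz.1, fun y hy => (hz.2 y (hES hy)).symm⟩)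
  have hZC : ZS S ≤ (Subgroup.center E).map E.subtype := by
    intro z hz
    refine ⟨⟨z, hZE hz⟩, ?_, rfl⟩
    rw [mem_ZS] at hz
    exact Subgroup.mem_center_iff.2 fun g => Subtype.ext (hz.2 g (hES g.2)).symm
  have hfZ : Finite (ZS S) := finite_of_le ZS_le
  have hZp : IsPGroup p (ZS S) := hS.to_le ZS_le
  have hZge : p ≤ Nat.card (ZS S) := by
    obtain ⟨n, hn⟩ := IsPGroup.iff_card.1 hZp
    have hn0 : n ≠ 0 := by
      rintro rfl
      rw [pow_zero] at hn
      exact ZS_ne_bot hS hSne (Subgroup.card_eq_one.1 hn)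
    rw [hn]
    exact Nat.le_self_pow hn0 p
  have hd : Nat.card E ∣ p ^ 5 := hcard ▸ Subgroup.card_dvd_of_le hES
  obtain ⟨k, hk5, hk⟩ := (Nat.dvd_prime_pow hp.out).1 hd
  have hk5' : k ≠ 5 := by
    rintro rfl
    exact hlt.ne (Subgroup.eq_of_le_of_card_ge hES (by rw [hk, hcard]))
  -- the centre of order `p`
  have hcen1 : Nat.card (Subgroup.center E) = p → False := by
    intro h
    refine mover_absurd hx hαx Ch.center ?_
    have hf : Finite ((Subgroup.center E).map E.subtype) := finite_of_le ((Subgroup.map_subtype_le _).trans hES)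
    refine (Subgroup.eq_of_le_of_card_ge hZC ?_).symm
    rw [Subgroup.card_map_of_injective E.subtype_injective, h]
    exact hZge
  have hk' : k = 0 ∨ k = 1 ∨ k = 2 ∨ k = 3 ∨ k = 4 := by omega
  rcases hk' with rfl | rfl | rfl | rfl | rfl
  · exfalso
    rw [pow_zero] at hk
    have h1 : E = ⊥ := Subgroup.card_eq_one.1 hk
    have h2 := le_bot_iff.1 (h1 ▸ hZE)
    exact ZS_ne_bot hS hSne h2
  · exfalso
    have h1 : ZS S = E := Subgroup.eq_of_le_of_card_ge hZE (by rw [hk, pow_one]; exact hZge)
    apply hlt.not_ge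
    intro y hy
    apply hC
    refine mem_centralizerIn.2 ⟨hy, fun z hz => ?_⟩
    rw [← h1, mem_ZS] at hz
    exact hz.2 y hy
  · exact Or.inl hk
  · by_cases hab : ∀ a b : E, a * b = b * a
    · right
      refine ⟨hk, hab, ?_⟩
      by_contra hne
      have hrk : Nat.card (tor hab p) ≤ p ^ 2 := by
        have h1 : Nat.card (tor hab p) ∣ p ^ 3 := hk ▸ Subgroup.card_subgroup_dvd_card _
        obtain ⟨j, hj, hj'⟩ := (Nat.dvd_prime_pow hp.out).1 h1
        rw [hj']
        apply Nat.pow_le_pow_right hp.out.pos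
        by_contra hj3
        have : j = 3 := by omega
        subst this
        apply hne
        have h4 : tor hab p = ⊤ := Subgroup.eq_top_of_card_eq _ (by rw [hj', hk])
        intro a
        have : a ∈ tor hab p := by rw [h4]; exact Subgroup.mem_top a
        exact this
      obtain ⟨b, -, h2, -⟩ := abelian_rank_two hS hF hE hab hrk
      rw [hk] at h2
      have := Nat.pow_right_injective hp.out.two_le h2
      omega
    · exfalso
      obtain ⟨j, hj, hj1, hj2, -⟩ := center_cases (p := p) hEp hab hk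
      have : j = 1 := by omega
      subst this
      exact hcen1 (by rw [hj, pow_one])
  · exfalso
    have hab : ¬ ∀ a b : E, a * b = b * a := by
      intro h
      exact hNA E hES (fun x hx y hy => congrArg Subtype.val (h ⟨x, hx⟩ ⟨y, hy⟩)) hk
    obtain ⟨j, hj, hj1, hj2, hidx⟩ := center_cases (p := p) hEp hab hk
    have hj' : j = 1 ∨ j = 2 := by omega
    rcases hj' with rfl | rfl
    · exact hcen1 (by rw [hj, pow_one])
    · obtain ⟨hVZ, -, hcc⟩ := index_sq (p := p) hEp hidx
      obtain ⟨-, hNE⟩ := fn_of_index (F := F) hS hES (index_of_card hES hk hcard)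
      -- the commutator subgroup is central in `S`
      have hcle : (_root_.commutator E).map E.subtype ≤ ZS S := by
        let N : Subgroup S := ((_root_.commutator E).map E.subtype).subgroupOf S
        have hNS : (_root_.commutator E).map E.subtype ≤ S := (Subgroup.map_subtype_le _).trans hES
        have hcN : Nat.card N = p := by
          rw [Nat.card_congr (Subgroup.subgroupOfEquivOfLe hNS).toEquiv,
            Subgroup.card_map_of_injective E.subtype_injective, hcc]
        haveI hNn : N.Normal := by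
          refine ⟨fun y hy g => ?_⟩
          obtain ⟨c, hc, hcy⟩ := Subgroup.mem_subgroupOf.1 hy
          have hg : (g : Ω) ∈ normalizerIn S E := by rw [hNE]; exact g.2
          have h1 := Ch.commutator (conjAut E hg.2) c hc
          rw [Subgroup.mem_subgroupOf]
          refine ⟨_, h1, ?_⟩
          show (g : Ω) * c * (g : Ω)⁻¹ = (g : Ω) * y * (g : Ω)⁻¹
          rw [← hcy]; rfl
        have hNne : N ≠ ⊥ := by
          intro h
          rw [h, Subgroup.card_bot] at hcN
          exact hp.out.one_lt.ne hcN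
        obtain ⟨s, hs, hso, hsc⟩ := H63.PGroupBasics.exists_central_orderOf_eq hS N hNne
        have h1 : Subgroup.zpowers s = N :=
          Subgroup.eq_of_le_of_card_ge ((Subgroup.zpowers_le).2 hs) (by rw [hcN, Nat.card_zpowers, hso])
        intro y hy
        have h2 : (⟨y, hNS hy⟩ : S) ∈ N := Subgroup.mem_subgroupOf.2 hy
        rw [← h1] at h2
        obtain ⟨m, hm⟩ := h2
        rw [mem_ZS]
        refine ⟨hNS hy, fun t ht => ?_⟩
        have h3 : (⟨t, ht⟩ : S) * ⟨y, hNS hy⟩ = ⟨y, hNS hy⟩ * ⟨t, ht⟩ := by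
          rw [← hm]
          exact ((show Commute (⟨t, ht⟩ : S) s from hsc _).zpow_right m).eq
        exact (congrArg Subtype.val h3).symm
      obtain ⟨n, hn⟩ := IsPGroup.iff_card.1 hZp
      have hf : Finite ((Subgroup.center E).map E.subtype) := finite_of_le ((Subgroup.map_subtype_le _).trans hES)
      have hn2 : n ≤ 2 := by
        have h1 := Subgroup.card_le_of_le hZC
        rw [hn, Subgroup.card_map_of_injective E.subtype_injective, hj] at h1
        exact (Nat.pow_le_pow_iff_right hp.out.one_lt).1 h1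
      have hn1 : n ≠ 0 := by
        rintro rfl
        rw [pow_zero] at hn
        exact ZS_ne_bot hS hSne (Subgroup.card_eq_one.1 hn)
      have hn' : n = 1 ∨ n = 2 := by omega
      rcases hn' with rfl | rfl
      · refine mover_absurd hx hαx Ch.commutator ?_
        apply Subgroup.eq_of_le_of_card_ge hcle
        rw [hn, Subgroup.card_map_of_injective E.subtype_injective, hcc, pow_one]
      · refine mover_absurd hx hαx Ch.center ?_
        refine (Subgroup.eq_of_le_of_card_ge hZC ?_).symm
        rw [hn, Subgroup.card_map_of_injective E.subtype_injective, hj]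

end H88.P5
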