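import Cfsg.Agent.Lib.H88.P5F

/-! Elementary abelian groups of order `p³` with Sylow automizer of order `p²`. -/

set_option autoImplicit false
set_option maxHeartbeats 400000
open Cfsg H57.Ess H57.Small H57.TvPair H89.Syl

namespace H88.P5

variable {V : Type*} [Group V] [Finite V] {p : ℕ} [hp : Fact p.Prime]

/-- Image of a subgroup under an automorphism. -/
def mp (α : MulAut V) (A : Subgroup V) : Subgroup V := A.comap (α⁻¹ : MulAut V).toMonoidHom

omit [Finite V] in
theorem mem_mp {α : MulAut V} {A : Subgroup V} {y : V} : y ∈ mp α A ↔ α⁻¹ y ∈ A := Iff.rfl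

omit [Finite V] in
theorem map_mem_mp {α : MulAut V} {A : Subgroup V} {y : V} (h : y ∈ A) : α y ∈ mp α A := by
  rw [mem_mp, MulAut.inv_apply_self]; exact h

omit [Finite V] in
theorem mp_mul (α β : MulAut V) (A : Subgroup V) : mp (α * β) A = mp α (mp β A) := by
  ext y
  rw [mem_mp, mem_mp, mem_mp, mul_inv_rev, MulAut.mul_apply]

omit [Finite V] in
theorem mp_one (A : Subgroup V) : mp 1 A = A := by
  ext y
  rw [mem_mp, inv_one, MulAut.one_apply]

omit [Finite V] in
theorem mp_inj {α : MulAut V} {A B : Subgroup V} (h : mp α A = mp α B) : A = B := by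
  have h1 : mp α⁻¹ (mp α A) = mp α⁻¹ (mp α B) := by rw [h]
  rwa [← mp_mul, ← mp_mul, inv_mul_cancel, mp_one, mp_one] at h1

omit [Finite V] in
theorem card_mp (α : MulAut V) (A : Subgroup V) : Nat.card (mp α A) = Nat.card A := by
  have h : mp α A = A.map α.toMonoidHom := by
    ext y
    rw [mem_mp]
    constructor
    · intro h
      exact ⟨α⁻¹ y, h, by show α (α⁻¹ y) = y; rw [MulAut.apply_inv_self]⟩
    · rintro ⟨x, hx, rfl⟩
      show α⁻¹ (α x) ∈ A
      rw [MulAut.inv_apply_self]; exact hx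
  rw [h, Subgroup.card_map_of_injective α.injective]

theorem exists_fixed {T : Subgroup (MulAut V)} (hV : IsPGroup p V) (hT : IsPGroup p T) {A : Subgroup V}
    (hA : ∀ t ∈ T, ∀ a ∈ A, t a ∈ A) (hne : A ≠ ⊥) : ∃ a ∈ A, a ≠ 1 ∧ ∀ t ∈ T, t a = a := by
  let act : MulAction T A :=
    { smul := fun t a => ⟨(t : MulAut V) a, hA t t.2 a a.2⟩
      one_smul := fun a => Subtype.ext rfl
      mul_smul := fun s t a => Subtype.ext rfl }
  have hsm : ∀ (t : T) (a : A), ((t • a : A) : V) = (t : MulAut V) a := fun _ _ => rfl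
  have hfA : Finite A := Subtype.finite
  have hd : p ∣ Nat.card A := by
    obtain ⟨n, hn⟩ := IsPGroup.iff_card.1 (hV.to_subgroup A)
    have hn0 : n ≠ 0 := by
      rintro rfl
      rw [pow_zero] at hn
      exact hne (Subgroup.card_eq_one.1 hn)
    rw [hn]; exact dvd_pow_self p hn0
  obtain ⟨b, hb, hb1⟩ := hT.exists_fixed_point_of_prime_dvd_card_of_fixed_point A hd (a := 1)
    (fun t => Subtype.ext (by rw [hsm]; exact map_one _))
  refine ⟨b, b.2, fun h => hb1 (Subtype.ext h.symm), fun t ht => ?_⟩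
  have := congrArg Subtype.val (hb ⟨t, ht⟩)
  rwa [hsm] at this

omit [Finite V] in
theorem triv_factor {T : Subgroup (MulAut V)} (hT : IsPGroup p T) {A B : Subgroup V} [A.Normal]
    (hi : A.relIndex B = p) (hA : ∀ t ∈ T, ∀ a ∈ A, t a ∈ A) (hB : ∀ t ∈ T, ∀ a ∈ B, t a ∈ B) :
    ∀ t ∈ T, ∀ b ∈ B, b⁻¹ * t b ∈ A := by
  intro t ht b hb
  by_cases hbA : b ∈ A
  · exact A.mul_mem (A.inv_mem hbA) (hA t ht b hbA)
  obtain ⟨m, u, hu, hm⟩ := exists_wt (p := p) hi hb hbA (hB t ht b hb)
  have hpow : ∀ k : ℕ, (b ^ (m ^ k))⁻¹ * (t ^ k) b ∈ A := by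
    intro k
    induction k with
    | zero => simp [A.one_mem]
    | succ k ih =>
      set r := (b ^ (m ^ k))⁻¹ * (t ^ k) b with hr
      have h1 : (t ^ k) b = b ^ (m ^ k) * r := by rw [hr]; group
      rw [pow_succ' t k, MulAut.mul_apply, h1, map_mul, map_pow, hm, ← QuotientGroup.eq_one_iff]
      have h2 : (QuotientGroup.mk (t r) : V ⧸ A) = 1 := (QuotientGroup.eq_one_iff _).2 (hA t ht r ih)
      have h3 : (QuotientGroup.mk u : V ⧸ A) = 1 := (QuotientGroup.eq_one_iff _).2 hu
      rw [QuotientGroup.mk_mul, QuotientGroup.mk_inv, QuotientGroup.mk_mul, QuotientGroup.mk_pow, QuotientGroup.mk_pow,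
        QuotientGroup.mk_mul, QuotientGroup.mk_pow, h2, h3, mul_one, mul_one, ← pow_mul, ← pow_succ' m k,
        inv_mul_cancel]
  obtain ⟨n, hn⟩ := hT ⟨t, ht⟩
  have htn : t ^ p ^ n = 1 := congrArg Subtype.val hn
  have h1 := hpow (p ^ n)
  rw [htn, MulAut.one_apply] at h1
  have hbp : b ^ p ∈ A := pow_mem_of_relIndex hi hb
  have h2 := wt_eq (p := p) A (c := b) (y := b) (m := m ^ p ^ n) (n := 1) hbA hbp h1 (by
    rw [pow_one, inv_mul_cancel]; exact A.one_mem)
  rw [Nat.cast_pow, ZMod.pow_card_pow, ZMod.natCast_eq_natCast_iff] at h2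
  have h3 : (QuotientGroup.mk b : V ⧸ A) ^ m = (QuotientGroup.mk b) ^ 1 := by
    rw [pow_inj_mod]
    have h4 : orderOf (QuotientGroup.mk b : V ⧸ A) = p := by
      apply orderOf_eq_prime
      · exact (QuotientGroup.eq_one_iff _).2 hbp
      · intro h
        exact hbA ((QuotientGroup.eq_one_iff _).1 h)
    rw [h4]; exact h2
  rw [hm, ← QuotientGroup.eq_one_iff, QuotientGroup.mk_mul, QuotientGroup.mk_mul, QuotientGroup.mk_inv,
    QuotientGroup.mk_pow, h3, pow_one, (QuotientGroup.eq_one_iff u).2 hu, mul_one, inv_mul_cancel]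

/-- The homomorphism `v ↦ v⁻¹ t(v)`. -/
def Dt (hcomm : ∀ a b : V, a * b = b * a) (t : MulAut V) : V →* V where
  toFun := fun v => v⁻¹ * t v
  map_one' := by simp
  map_mul' := fun a b => by
    rw [map_mul, mul_inv_rev, hcomm b⁻¹ a⁻¹]
    calc a⁻¹ * b⁻¹ * (t a * t b) = a⁻¹ * (b⁻¹ * t a) * t b := by group
      _ = a⁻¹ * (t a * b⁻¹) * t b := by rw [hcomm b⁻¹ (t a)]
      _ = _ := by group

omit [Finite V] in
theorem Dt_apply (hcomm : ∀ a b : V, a * b = b * a) (t : MulAut V) (v : V) : Dt hcomm t v = v⁻¹ * t v := rfl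

omit [Finite V] in
theorem mem_ker_Dt (hcomm : ∀ a b : V, a * b = b * a) (t : MulAut V) (v : V) : v ∈ (Dt hcomm t).ker ↔ t v = v := by
  rw [MonoidHom.mem_ker, Dt_apply, inv_mul_eq_one]
  exact eq_comm

theorem zpowers_eq_of_prime {L : Subgroup V} (hL : Nat.card L = p) {a : V} (ha : a ∈ L) (ha1 : a ≠ 1) :
    Subgroup.zpowers a = L := by
  have hfL : Finite L := Subtype.finite
  apply Subgroup.eq_of_le_of_card_ge ((Subgroup.zpowers_le).2 ha)
  rw [hL]
  have h1 : orderOf a ∣ p := by
    rw [← hL, ← Subgroup.orderOf_mk a ha]; exact orderOf_dvd_natCard _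
  rcases (Nat.dvd_prime hp.out).1 h1 with h2 | h2
  · exact absurd (orderOf_eq_one_iff.1 h2) ha1
  · rw [Nat.card_zpowers, h2]

theorem no_A1 (hVc : Nat.card V = p ^ 3) (hcomm : ∀ a b : V, a * b = b * a)
    {G T : Subgroup (MulAut V)} (hT : SylIn p T G) (hTc : Nat.card T = p ^ 2) {α : MulAut V} (hα : α ∈ G)
    (hsep : ∀ β ∈ T, α * β * α⁻¹ ∈ T → β = 1) : False := by
  have hfA : Finite (MulAut V) := finMulAut
  have hV : IsPGroup p V := IsPGroup.of_card hVc
  have hTp : IsPGroup p T := hT.2.1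
  have hn : ∀ A : Subgroup V, A.Normal := fun A => normal_of_comm hcomm A
  have hT1 : T ≠ ⊥ := by
    intro h
    rw [h, Subgroup.card_bot] at hTc
    exact (Nat.one_lt_pow two_ne_zero hp.out.one_lt).ne hTc
  have hcases : ∀ A : Subgroup V, ∃ j ≤ 3, Nat.card A = p ^ j := fun A =>
    (Nat.dvd_prime_pow hp.out).1 (hVc ▸ Subgroup.card_subgroup_dvd_card A)
  have hidx : ∀ A : Subgroup V, Nat.card A = p ^ 2 → A.index = p := by
    intro A hA
    have h1 := Subgroup.card_mul_index A
    rw [hA, hVc, pow_succ p 2] at h1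
    exact Nat.eq_of_mul_eq_mul_left (pow_pos hp.out.pos 2) h1
  have hnohyp : ∀ C : Subgroup V, (∀ v ∈ C, ∀ u ∈ T, u v = v) → Nat.card C ≠ p ^ 2 := by
    intro C hC hc
    have h1 := card_eq_of_sep hV hcomm hT hα hsep hT1 hC (hidx C hc)
    rw [h1] at hTc
    have h5 : p < p ^ 2 := by
      calc p = p ^ 1 := (pow_one p).symm
        _ < p ^ 2 := Nat.pow_lt_pow_right hp.out.one_lt (by norm_num)
    omega
  -- conjugating back: a `p`-subgroup containing `T` and `T^α` is impossible
  have hnoconj : ∀ W : Subgroup (MulAut V), W ≤ G → IsPGroup p W → T ≤ W → (∀ t ∈ T, α * t * α⁻¹ ∈ W) → False := by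
    intro W hWG hWp hTW h
    have h1 := hT.eq_of_le hTW hWG hWp
    apply hT1
    rw [eq_bot_iff]
    intro t ht
    rw [Subgroup.mem_bot]
    exact hsep t ht (by rw [h1]; exact h t ht)
  -- the fixed points
  let L : Subgroup V :=
    { carrier := {v | ∀ t ∈ T, t v = v}
      one_mem' := fun t _ => map_one t
      mul_mem' := fun {a b} ha hb t ht => by rw [map_mul, ha t ht, hb t ht]
      inv_mem' := fun {a} ha t ht => by rw [map_inv, ha t ht] }
  have hLmem : ∀ v, v ∈ L ↔ ∀ t ∈ T, t v = v := fun v => Iff.rfl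
  have hLinv : ∀ t ∈ T, ∀ a ∈ L, t a ∈ L := fun t ht a ha => by rw [(hLmem a).1 ha t ht]; exact ha
  have hVnt : (⊤ : Subgroup V) ≠ ⊥ := by
    intro h
    have h1 := congrArg (fun A : Subgroup V => Nat.card A) h
    simp only [Subgroup.card_top, Subgroup.card_bot, hVc] at h1
    exact (Nat.one_lt_pow (by norm_num) hp.out.one_lt).ne' h1
  have hLc : Nat.card L = p := by
    obtain ⟨j, hj, hj'⟩ := hcases L
    have h0 : j ≠ 0 := by
      rintro rfl
      rw [pow_zero] at hj'
      obtain ⟨a, -, ha1, ha⟩ := exists_fixed hV hTp (A := ⊤) (fun _ _ _ _ => Subgroup.mem_top _) hVnt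
      have h1 : a ∈ L := ha
      rw [Subgroup.card_eq_one.1 hj', Subgroup.mem_bot] at h1
      exact ha1 h1
    have h2 : j ≠ 2 := by
      rintro rfl
      exact hnohyp L (fun v hv u hu => hv u hu) hj'
    have h3 : j ≠ 3 := by
      rintro rfl
      apply hT1
      have h4 : L = ⊤ := Subgroup.eq_top_of_card_eq _ (by rw [hj', hVc])
      rw [eq_bot_iff]
      intro t ht
      rw [Subgroup.mem_bot]
      ext v
      have : v ∈ L := by rw [h4]; exact Subgroup.mem_top v
      exact this t ht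
    have : j = 1 := by omega
    rw [hj', this, pow_one]
  have hinvL : ∀ A : Subgroup V, (∀ t ∈ T, ∀ a ∈ A, t a ∈ A) → A ≠ ⊥ → L ≤ A := by
    intro A hA hne
    obtain ⟨a, haA, ha1, ha⟩ := exists_fixed hV hTp hA hne
    rw [← zpowers_eq_of_prime hLc (show a ∈ L from ha) ha1, Subgroup.zpowers_le]
    exact haA
  have hTcomm : ∀ s ∈ T, ∀ t ∈ T, s * t = t * s := fun s hs t ht =>
    congrArg Subtype.val ((IsPGroup.commutative_of_card_eq_prime_sq hTc) (⟨s, hs⟩ : T) ⟨t, ht⟩)
  -- kernel and range of `Dt`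
  have hkerinv : ∀ s ∈ T, ∀ t ∈ T, ∀ a ∈ (Dt hcomm s).ker, t a ∈ (Dt hcomm s).ker := by
    intro s hs t ht a ha
    rw [mem_ker_Dt] at ha ⊢
    rw [← MulAut.mul_apply, hTcomm s hs t ht, MulAut.mul_apply, ha]
  have hraninv : ∀ s ∈ T, ∀ t ∈ T, ∀ a ∈ (Dt hcomm s).range, t a ∈ (Dt hcomm s).range := by
    rintro s hs t ht _ ⟨v, rfl⟩
    refine ⟨t v, ?_⟩
    rw [Dt_apply, Dt_apply, map_mul, map_inv, ← MulAut.mul_apply, hTcomm s hs t ht, MulAut.mul_apply]
  have hLker : ∀ s ∈ T, L ≤ (Dt hcomm s).ker := by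
    intro s hs v hv
    rw [mem_ker_Dt]; exact hv s hs
  have hLran : ∀ s ∈ T, s ≠ 1 → L ≤ (Dt hcomm s).range := by
    intro s hs hs1
    apply hinvL _ (hraninv s hs)
    intro h
    apply hs1
    ext v
    have h1 : Dt hcomm s v ∈ (Dt hcomm s).range := ⟨v, rfl⟩
    rw [h, Subgroup.mem_bot, Dt_apply, inv_mul_eq_one] at h1
    exact h1.symm
  have hkr : ∀ s : MulAut V, Nat.card (Dt hcomm s).ker * Nat.card (Dt hcomm s).range = p ^ 3 := by
    intro s
    have h1 := Subgroup.card_mul_index (Dt hcomm s).ker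
    rwa [Subgroup.index_ker, hVc] at h1
  have hker3 : ∀ s : MulAut V, s ≠ 1 → Nat.card (Dt hcomm s).ker ≠ p ^ 3 := by
    intro s hs1 h
    apply hs1
    have h4 : (Dt hcomm s).ker = ⊤ := Subgroup.eq_top_of_card_eq _ (by rw [h, hVc])
    ext v
    rw [MulAut.one_apply]
    exact (mem_ker_Dt hcomm s v).1 (by rw [h4]; exact Subgroup.mem_top v)
  -- transvections in `T` have centre `L`
  have htvL : ∀ s ∈ T, s ≠ 1 → ∀ A : Subgroup V, p ^ 2 ≤ Nat.card A → (∀ v ∈ A, s v = v) →
      (∀ v, v⁻¹ * s v ∈ L) ∧ Nat.card (Dt hcomm s).ker = p ^ 2 := by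
    intro s hs hs1 A hA hAs
    have h1 : A ≤ (Dt hcomm s).ker := fun v hv => (mem_ker_Dt hcomm s v).2 (hAs v hv)
    obtain ⟨j, hj, hj'⟩ := hcases (Dt hcomm s).ker
    have h2 := Subgroup.card_le_of_le h1
    rw [hj'] at h2
    have h3 : 2 ≤ j := (Nat.pow_le_pow_iff_right hp.out.one_lt).1 (hA.trans h2)
    have h4 : j ≠ 3 := fun h => hker3 s hs1 (by rw [hj', h])
    have h5 : j = 2 := by omega
    subst h5
    refine ⟨?_, hj'⟩
    have h6 := hkr s
    rw [hj', pow_succ p 2] at h6
    have h7 : Nat.card (Dt hcomm s).range = p := Nat.eq_of_mul_eq_mul_left (pow_pos hp.out.pos 2) h6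
    have h8 : L = (Dt hcomm s).range := Subgroup.eq_of_le_of_card_ge (hLran s hs hs1) (by rw [h7, hLc])
    intro v
    rw [h8]
    exact ⟨v, rfl⟩
  -- kernel elements for `h₀`
  have hkill : ∀ h0 : V, (∀ t ∈ T, h0⁻¹ * t h0 ∈ L) → ∃ z ∈ T, z ≠ 1 ∧ z h0 = h0 := by
    intro h0 hh
    let f : T → L := fun t => ⟨h0⁻¹ * (t : MulAut V) h0, hh t t.2⟩
    have hninj : ¬ Function.Injective f := by
      intro h
      have h1 := Nat.card_le_card_of_injective f h
      rw [hTc, hLc] at h1
      have h5 : p < p ^ 2 := by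
        calc p = p ^ 1 := (pow_one p).symm
          _ < p ^ 2 := Nat.pow_lt_pow_right hp.out.one_lt (by norm_num)
      omega
    unfold Function.Injective at hninj
    push Not at hninj
    obtain ⟨s, t, hst, hne⟩ := hninj
    have h1 : (s : MulAut V) h0 = (t : MulAut V) h0 := by
      have h2 := congrArg Subtype.val hst
      exact mul_left_cancel h2
    refine ⟨(t : MulAut V)⁻¹ * s, T.mul_mem (T.inv_mem t.2) s.2, ?_, ?_⟩
    · intro h
      apply hne
      apply Subtype.ext
      exact (inv_mul_eq_one.1 h).symm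
    · rw [MulAut.mul_apply, h1, MulAut.inv_apply_self]
  have hfixsup : ∀ (z : MulAut V) (A B : Subgroup V), (∀ v ∈ A, z v = v) → (∀ v ∈ B, z v = v) →
      ∀ v ∈ A ⊔ B, z v = v := by
    intro z A B hA hB v hv
    have h1 : A ⊔ B ≤ (Dt hcomm z).ker :=
      sup_le (fun w hw => (mem_ker_Dt hcomm z w).2 (hA w hw)) (fun w hw => (mem_ker_Dt hcomm z w).2 (hB w hw))
    exact (mem_ker_Dt hcomm z v).1 (h1 hv)
  have hfixz : ∀ (z : MulAut V) (h0 : V), z h0 = h0 → ∀ v ∈ Subgroup.zpowers h0, z v = v := by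
    rintro z h0 hz _ ⟨k, rfl⟩
    show z (h0 ^ k) = h0 ^ k
    rw [map_zpow, hz]
  have hrelLH : ∀ H : Subgroup V, L ≤ H → Nat.card H = p ^ 2 → L.relIndex H = p := by
    intro H hLH hHc
    have h1 := Subgroup.relIndex_mul_relIndex ⊥ L H bot_le hLH
    rw [Subgroup.relIndex_bot_left, Subgroup.relIndex_bot_left, hLc, hHc, pow_two] at h1
    exact Nat.eq_of_mul_eq_mul_left hp.out.pos h1
  -- a transvection
  obtain ⟨z, hz, hz1, H, hHc, hHz, hHinv⟩ : ∃ z ∈ T, z ≠ 1 ∧ ∃ H : Subgroup V, Nat.card H = p ^ 2 ∧ (∀ v ∈ H, z v = v) ∧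
      ∀ t ∈ T, ∀ a ∈ H, t a ∈ H := by
    obtain ⟨t0, ht0, ht01⟩ : ∃ t ∈ T, t ≠ 1 := by
      by_contra hne
      push Not at hne
      exact hT1 (eq_bot_iff.2 fun t ht => Subgroup.mem_bot.2 (hne t ht))
    obtain ⟨j, hj, hj'⟩ := hcases (Dt hcomm t0).ker
    have h3 : j ≠ 3 := fun h => hker3 t0 ht01 (by rw [hj', h])
    have h0 : j ≠ 0 := by
      rintro rfl
      have h1 := Subgroup.card_le_of_le (hLker t0 ht0)
      rw [hj', pow_zero, hLc] at h1
      exact absurd h1 (not_le.2 hp.out.one_lt)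
    by_cases h2 : j = 2
    · subst h2
      exact ⟨t0, ht0, ht01, _, hj', fun v hv => (mem_ker_Dt hcomm t0 v).1 hv, hkerinv t0 ht0⟩
    · have h1 : j = 1 := by omega
      subst h1
      have h6 := hkr t0
      rw [hj', pow_one, show p ^ 3 = p * p ^ 2 from pow_succ' p 2] at h6
      have h7 : Nat.card (Dt hcomm t0).range = p ^ 2 := Nat.eq_of_mul_eq_mul_left hp.out.pos h6
      have hLR := hLran t0 ht0 ht01
      have hrel := hrelLH _ hLR h7
      obtain ⟨h0, hh0, hh0L⟩ : ∃ h ∈ (Dt hcomm t0).range, h ∉ L := by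
        by_contra hne
        push Not at hne
        have h8 : L.relIndex (Dt hcomm t0).range = 1 := Subgroup.relIndex_eq_one.2 hne
        rw [hrel] at h8
        exact hp.out.one_lt.ne' h8
      haveI := hn L
      have htr := triv_factor hTp hrel hLinv (hraninv t0 ht0)
      obtain ⟨z, hz, hz1, hzh⟩ := hkill h0 (fun t ht => htr t ht h0 hh0)
      refine ⟨z, hz, hz1, _, h7, ?_, hraninv t0 ht0⟩
      intro v hv
      obtain ⟨m, u, hu, rfl⟩ := exists_wt (p := p) hrel hh0 hh0L hv
      rw [map_mul, map_pow, hzh, (hLmem u).1 hu z hz]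
  have hLH : L ≤ H := by
    apply hinvL H hHinv
    intro h
    rw [h, Subgroup.card_bot] at hHc
    exact (Nat.one_lt_pow two_ne_zero hp.out.one_lt).ne hHc
  obtain ⟨hzL, -⟩ := htvL z hz hz1 H hHc.ge hHz
  have hrLH := hrelLH H hLH hHc
  have hHi : H.relIndex ⊤ = p := by rw [Subgroup.relIndex_top_right]; exact hidx H hHc
  haveI := hn L
  haveI := hn H
  have htrLH := triv_factor hTp hrLH hLinv hHinv
  have htrH := triv_factor hTp hHi hHinv (fun _ _ _ _ => Subgroup.mem_top _)
  by_cases hII : ∀ t ∈ T, t ≠ 1 → ∀ v, t v = v → v ∈ H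
  · -- the regular case
    have htrans : ∀ y, y ∉ H → ∀ h ∈ H, ∃ t ∈ T, t y = y * h := by
      intro y hy h hh
      let f : T → H := fun t => ⟨y⁻¹ * (t : MulAut V) y, htrH t t.2 y (Subgroup.mem_top y)⟩
      have hf : Function.Injective f := by
        intro s t hst
        have h1 : (s : MulAut V) y = (t : MulAut V) y := mul_left_cancel (congrArg Subtype.val hst)
        by_contra hne
        apply hy
        refine hII ((t : MulAut V)⁻¹ * s) (T.mul_mem (T.inv_mem t.2) s.2) ?_ y ?_
        · intro h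
          exact hne (Subtype.ext (inv_mul_eq_one.1 h).symm)
        · rw [MulAut.mul_apply, h1, MulAut.inv_apply_self]
      have hfb : Function.Bijective f := by
        rw [Nat.bijective_iff_injective_and_card]
        exact ⟨hf, by rw [hTc, hHc]⟩
      obtain ⟨t, ht⟩ := hfb.2 ⟨h, hh⟩
      refine ⟨t, t.2, ?_⟩
      have h1 : y⁻¹ * (t : MulAut V) y = h := congrArg Subtype.val ht
      rw [← h1]; group
    -- the claim
    have hclaim : ∀ g ∈ G, ∀ g' ∈ G, mp g L ≤ mp g' H → mp g L = mp g' L ∧ mp g H = mp g' H := by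
      intro g hg g' hg' hle
      have hzg : ∀ g : MulAut V, ∀ v, v⁻¹ * (g * z * g⁻¹) v ∈ mp g L := by
        intro g v
        rw [mem_mp, map_mul, map_inv, MulAut.mul_apply, MulAut.mul_apply, MulAut.inv_apply_self]
        exact hzL (g⁻¹ v)
      have hzf : ∀ g : MulAut V, ∀ v ∈ mp g H, (g * z * g⁻¹) v = v := by
        intro g v hv
        rw [MulAut.mul_apply, MulAut.mul_apply, hHz (g⁻¹ v) hv, MulAut.apply_inv_self]
      have hmpLH : ∀ g : MulAut V, mp g L ≤ mp g H := fun g v hv => hLH hv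
      have hm := chain3_mono (le_sup_left : mp g L ≤ mp g L ⊔ mp g' L)
      let W := chainStab (chain3 (mp g L) (mp g L ⊔ mp g' L)) 3 hm ⊓ G
      have hWp : IsPGroup p W := (isPGroup_chainStab hV (n := 3) (hm := hm) rfl rfl).to_le inf_le_left
      have hzW : g * z * g⁻¹ ∈ W := by
        refine ⟨?_, G.mul_mem (G.mul_mem hg (hT.1 hz)) (G.inv_mem hg)⟩
        intro i hi x hx
        match i, hi with
        | 0, _ =>
          show x⁻¹ * (g * z * g⁻¹) x = 1
          rw [hzf g x (hmpLH g hx), inv_mul_cancel]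
        | 1, _ => exact hzg g x
        | 2, _ => exact Subgroup.mem_sup_left (hzg g x)
      have hzW' : g' * z * g'⁻¹ ∈ W := by
        refine ⟨?_, G.mul_mem (G.mul_mem hg' (hT.1 hz)) (G.inv_mem hg')⟩
        have hfx : ∀ x ∈ mp g L ⊔ mp g' L, (g' * z * g'⁻¹) x = x :=
          hfixsup _ _ _ (fun v hv => hzf g' v (hle hv)) (fun v hv => hzf g' v (hmpLH g' hv))
        intro i hi x hx
        match i, hi with
        | 0, _ =>
          show x⁻¹ * (g' * z * g'⁻¹) x = 1
          rw [hzf g' x (hle hx), inv_mul_cancel]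
        | 1, _ =>
          show x⁻¹ * (g' * z * g'⁻¹) x ∈ mp g L
          rw [hfx x hx, inv_mul_cancel]; exact one_mem _
        | 2, _ => exact Subgroup.mem_sup_right (hzg g' x)
      obtain ⟨k, hk, hkW⟩ := hT.exists_conj (U := W) inf_le_right hWp
      have hfin : ∀ g : MulAut V, k * (g * z * g⁻¹) * k⁻¹ ∈ T → mp k (mp g L) = L ∧ mp k (mp g H) = H := by
        intro g hkg
        have hne1 : k * (g * z * g⁻¹) * k⁻¹ ≠ 1 := by
          intro h
          apply hz1
          have h2 : z = (k * g)⁻¹ * (k * (g * z * g⁻¹) * k⁻¹) * (k * g) := by group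
          rw [h2, h]; group
        have e1 : k * (g * z * g⁻¹) * k⁻¹ = (k * g) * z * (k * g)⁻¹ := by group
        have h3 : mp (k * g) H ≤ H := by
          intro v hv
          refine hII _ hkg hne1 v ?_
          rw [e1]; exact hzf (k * g) v hv
        have h4 : mp (k * g) H = H := Subgroup.eq_of_le_of_card_ge h3 (by rw [card_mp])
        have h5 : L ≤ mp (k * g) L := by
          intro v hv
          obtain ⟨w, hw⟩ := hLran _ hkg hne1 hv
          rw [← hw, Dt_apply, e1]
          exact hzg (k * g) w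
        have h6 : L = mp (k * g) L := Subgroup.eq_of_le_of_card_ge h5 (by rw [card_mp])
        rw [← mp_mul, ← mp_mul]
        exact ⟨h6.symm, h4⟩
      obtain ⟨a1, a2⟩ := hfin g (hkW _ hzW)
      obtain ⟨b1, b2⟩ := hfin g' (hkW _ hzW')
      exact ⟨mp_inj (a1.trans b1.symm), mp_inj (a2.trans b2.symm)⟩
    have hαL : mp α L ≠ L := by
      intro h
      obtain ⟨-, h2⟩ := hclaim α hα 1 G.one_mem (by rw [h, mp_one]; exact hLH)
      rw [mp_one] at h2
      have hm := chain3_mono hLH
      have hLα : ∀ v ∈ L, α⁻¹ v ∈ L := fun v hv => by rw [← h] at hv; exact hv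
      have hHα : ∀ v ∈ H, α⁻¹ v ∈ H := fun v hv => by rw [← h2] at hv; exact hv
      have hLα' : ∀ v ∈ L, α v ∈ L := fun v hv => by rw [← h]; exact map_mem_mp hv
      have hHα' : ∀ v ∈ H, α v ∈ H := fun v hv => by rw [← h2]; exact map_mem_mp hv
      refine hnoconj (chainStab (chain3 L H) 3 hm ⊓ G) inf_le_right
        ((isPGroup_chainStab hV (n := 3) (hm := hm) rfl rfl).to_le inf_le_left) ?_ ?_
      · intro t ht
        refine ⟨?_, hT.1 ht⟩
        intro i hi x hx
        match i, hi with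
        | 0, _ =>
          show x⁻¹ * t x = 1
          rw [(hLmem x).1 hx t ht, inv_mul_cancel]
        | 1, _ => exact htrLH t ht x hx
        | 2, _ => exact htrH t ht x (Subgroup.mem_top x)
      · intro t ht
        refine ⟨?_, G.mul_mem (G.mul_mem hα (hT.1 ht)) (G.inv_mem hα)⟩
        have key : ∀ x : V, x⁻¹ * (α * t * α⁻¹) x = α ((α⁻¹ x)⁻¹ * t (α⁻¹ x)) := by
          intro x
          rw [map_mul, map_inv, MulAut.apply_inv_self, MulAut.mul_apply, MulAut.mul_apply]
        intro i hi x hx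
        match i, hi with
        | 0, _ =>
          show x⁻¹ * (α * t * α⁻¹) x = 1
          rw [key, (hLmem _).1 (hLα x hx) t ht, inv_mul_cancel, map_one]
        | 1, _ =>
          rw [key]
          exact hLα' _ (htrLH t ht _ (hHα x hx))
        | 2, _ =>
          rw [key]
          exact hHα' _ (htrH t ht _ (Subgroup.mem_top _))
    have hnle : ¬ mp α L ≤ H := by
      intro h
      obtain ⟨h1, -⟩ := hclaim α hα 1 G.one_mem (by rw [mp_one]; exact h)
      rw [mp_one] at h1
      exact hαL h1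
    obtain ⟨y, hy, hyH⟩ := SetLike.not_le_iff_exists.1 hnle
    have hy1 : y ≠ 1 := by rintro rfl; exact hyH H.one_mem
    have hint : ∃ h ∈ H, h ∈ mp α H ∧ h ≠ 1 := by
      by_contra hne
      push Not at hne
      have h1 : H ⊓ mp α H = ⊥ := by
        rw [eq_bot_iff]
        rintro h ⟨h1, h2⟩
        exact Subgroup.mem_bot.2 (hne h h1 h2)
      haveI := hn (mp α H)
      have h2 := Subgroup.relIndex_dvd_index_of_normal (mp α H) H
      rw [Subgroup.relIndex, show (mp α H).subgroupOf H = ⊥ by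
        rw [Subgroup.subgroupOf_eq_bot, disjoint_iff, inf_comm]; exact h1, Subgroup.index_bot, hHc,
        hidx (mp α H) (by rw [card_mp, hHc])] at h2
      have h3 := Nat.le_of_dvd hp.out.pos h2
      have h5 : p < p ^ 2 := by
        calc p = p ^ 1 := (pow_one p).symm
          _ < p ^ 2 := Nat.pow_lt_pow_right hp.out.one_lt (by norm_num)
      omega
    obtain ⟨h, hhH, hhα, hh1⟩ := hint
    obtain ⟨t, ht, hty⟩ := htrans y hyH h hhH
    have hαLc : Nat.card (mp α L) = p := by rw [card_mp, hLc]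
    have e1 : mp (t * α) L ≤ mp α H := by
      have h2 : mp (t * α) L = Subgroup.zpowers (y * h) := by
        symm
        apply zpowers_eq_of_prime (p := p) (by rw [card_mp, hLc])
        · rw [mp_mul, ← hty]; exact map_mem_mp hy
        · rw [← hty]
          intro h3
          exact hy1 ((MulEquiv.map_eq_one_iff t).1 h3)
      rw [h2, Subgroup.zpowers_le]
      exact (mp α H).mul_mem (hLH hy) hhα
    obtain ⟨h3, -⟩ := hclaim (t * α) (G.mul_mem (hT.1 ht) hα) α hα e1
    have h4 : y * h ∈ mp α L := by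
      rw [← h3, mp_mul, ← hty]; exact map_mem_mp hy
    have h5 : h ∈ mp α L := by
      have := (mp α L).mul_mem ((mp α L).inv_mem hy) h4
      rwa [inv_mul_cancel_left] at this
    apply hnle
    rw [← zpowers_eq_of_prime hαLc h5 hh1, Subgroup.zpowers_le]
    exact hhH
  · -- all of `T` acts trivially on `V/L`
    push Not at hII
    obtain ⟨t, ht, ht1, v, htv, hvH⟩ := hII
    have hkert : p ^ 2 ≤ Nat.card (Dt hcomm t).ker := by
      obtain ⟨j, hj, hj'⟩ := hcases (Dt hcomm t).ker
      have h1 : Nat.card L < Nat.card (Dt hcomm t).ker := by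
        refine lt_of_le_of_ne (Subgroup.card_le_of_le (hLker t ht)) fun h => ?_
        have h2 : L = (Dt hcomm t).ker := Subgroup.eq_of_le_of_card_ge (hLker t ht) h.ge
        apply hvH
        apply hLH
        rw [h2]
        exact (mem_ker_Dt hcomm t v).2 htv
      rw [hj', hLc] at h1
      rw [hj']
      have h2 : p ^ 1 < p ^ j := by rw [pow_one]; exact h1
      exact Nat.pow_le_pow_right hp.out.pos ((Nat.pow_lt_pow_iff_right hp.out.one_lt).1 h2)
    obtain ⟨htL, -⟩ := htvL t ht ht1 _ hkert (fun w hw => (mem_ker_Dt hcomm t w).1 hw)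
    have hm1 : Monotone (chain3 L ⊤) := chain3_mono le_top
    let W0 := chainStab (chain3 L ⊤) 2 hm1 ⊓ G
    have hW0p : IsPGroup p W0 := (isPGroup_chainStab hV (n := 2) (hm := hm1) rfl rfl).to_le inf_le_left
    have hmemW0 : ∀ s ∈ T, (∀ w, w⁻¹ * s w ∈ L) → s ∈ W0 := by
      intro s hs hsL
      refine ⟨?_, hT.1 hs⟩
      intro i hi x hx
      match i, hi with
      | 0, _ =>
        show x⁻¹ * s x = 1
        rw [(hLmem x).1 hx s hs, inv_mul_cancel]
      | 1, _ => exact hsL x
    -- `T = ⟨z, t⟩`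
    have hTW0 : T ≤ W0 := by
      let K := T ⊓ W0
      have hK1 : Nat.card K = p ^ 2 := by
        have h1 : Nat.card K ∣ p ^ 2 := hTc ▸ Subgroup.card_dvd_of_le inf_le_left
        obtain ⟨j, hj, hj'⟩ := (Nat.dvd_prime_pow hp.out).1 h1
        have htK : t ∈ K := ⟨ht, hmemW0 t ht htL⟩
        have hzK : z ∈ K := ⟨hz, hmemW0 z hz hzL⟩
        have h0 : j ≠ 0 := by
          rintro rfl
          rw [pow_zero] at hj'
          rw [Subgroup.card_eq_one.1 hj', Subgroup.mem_bot] at htK
          exact ht1 htK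
        have h2 : j ≠ 1 := by
          rintro rfl
          rw [pow_one] at hj'
          have hfK : Finite K := Subtype.finite
          have h3 : Subgroup.zpowers t = K := by
            apply Subgroup.eq_of_le_of_card_ge ((Subgroup.zpowers_le).2 htK)
            rw [hj']
            have h1 : orderOf t ∣ p := by
              rw [← hj', ← Subgroup.orderOf_mk t htK]; exact orderOf_dvd_natCard _
            rcases (Nat.dvd_prime hp.out).1 h1 with h2 | h2
            · exact absurd (orderOf_eq_one_iff.1 h2) ht1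
            · rw [Nat.card_zpowers, h2]
          rw [← h3] at hzK
          obtain ⟨m, hm⟩ := hzK
          have hzv : z v = v := by
            have h4 : ∀ m : ℤ, (t ^ m) v = v := by
              intro m
              have h5 : t ∈ MulAction.stabilizer (MulAut V) v := htv
              exact (MulAction.stabilizer (MulAut V) v).zpow_mem h5 m
            have h6 : t ^ m = z := hm
            rw [← h6]; exact h4 m
          apply hz1
          have h7 : H ⊔ Subgroup.zpowers v = ⊤ := by
            have hlt : Nat.card H < Nat.card (H ⊔ Subgroup.zpowers v : Subgroup V) := by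
              refine lt_of_le_of_ne (Subgroup.card_le_of_le le_sup_left) fun h => ?_
              have h8 : H = H ⊔ Subgroup.zpowers v := Subgroup.eq_of_le_of_card_ge le_sup_left h.ge
              apply hvH
              rw [h8]; exact Subgroup.mem_sup_right (Subgroup.mem_zpowers v)
            obtain ⟨i, hi, hi'⟩ := hcases (H ⊔ Subgroup.zpowers v)
            rw [hHc, hi'] at hlt
            have := (Nat.pow_lt_pow_iff_right hp.out.one_lt).1 hlt
            have h9 : i = 3 := by omega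
            exact Subgroup.eq_top_of_card_eq _ (by rw [hi', h9, hVc])
          ext w
          rw [MulAut.one_apply]
          exact hfixsup z H _ hHz (hfixz z v hzv) w (by rw [h7]; exact Subgroup.mem_top w)
        have : j = 2 := by omega
        rw [hj', this]
      have hfT : Finite T := Subtype.finite
      have h3 : K = T := Subgroup.eq_of_le_of_card_ge inf_le_left (by rw [hK1, hTc])
      rw [← h3]; exact inf_le_right
    have hTL : ∀ s ∈ T, ∀ w, w⁻¹ * s w ∈ L := by
      intro s hs w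
      exact (hTW0 hs).1 1 (by norm_num) w (Subgroup.mem_top w)
    have key : ∀ (s : MulAut V) (x : V), x⁻¹ * (α * s * α⁻¹) x = α ((α⁻¹ x)⁻¹ * s (α⁻¹ x)) := by
      intro s x
      rw [map_mul, map_inv, MulAut.apply_inv_self, MulAut.mul_apply, MulAut.mul_apply]
    have hαL : mp α L ≠ L := by
      intro h
      have hLα : ∀ v ∈ L, α⁻¹ v ∈ L := fun v hv => by rw [← h] at hv; exact hv
      have hLα' : ∀ v ∈ L, α v ∈ L := fun v hv => by rw [← h]; exact map_mem_mp hv
      refine hnoconj W0 inf_le_right hW0p hTW0 ?_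
      intro s hs
      refine ⟨?_, G.mul_mem (G.mul_mem hα (hT.1 hs)) (G.inv_mem hα)⟩
      intro i hi x hx
      match i, hi with
      | 0, _ =>
        show x⁻¹ * (α * s * α⁻¹) x = 1
        rw [key, (hLmem _).1 (hLα x hx) s hs, inv_mul_cancel, map_one]
      | 1, _ =>
        rw [key]
        exact hLα' _ (hTL s hs _)
    -- generators of `mp α L` and `mp α⁻¹ L`
    have hgen : ∀ β : MulAut V, mp β L ≠ L → ∃ h0 ∈ mp β L, h0 ∉ L ∧ h0 ≠ 1 := by
      intro β hβ
      obtain ⟨h0, hh0, hh0L⟩ : ∃ h0 ∈ mp β L, h0 ∉ L := by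
        by_contra hne
        push Not at hne
        exact hβ (Subgroup.eq_of_le_of_card_ge hne (by rw [card_mp]))
      exact ⟨h0, hh0, hh0L, fun h => hh0L (h ▸ L.one_mem)⟩
    have hαL' : mp α⁻¹ L ≠ L := by
      intro h
      apply hαL
      have h1 : mp α (mp α⁻¹ L) = mp α L := by rw [h]
      rwa [← mp_mul, mul_inv_cancel, mp_one, eq_comm] at h1
    obtain ⟨h1, hh1, hh1L, hh11⟩ := hgen α hαL
    obtain ⟨h2, hh2, hh2L, hh21⟩ := hgen α⁻¹ hαL'
    obtain ⟨z1, hz1T, hz11, hz1h⟩ := hkill h1 (fun s hs => hTL s hs h1)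
    obtain ⟨z2, hz2T, hz21, hz2h⟩ := hkill h2 (fun s hs => hTL s hs h2)
    set P := L ⊔ mp α L with hP
    have hPc : Nat.card P = p ^ 2 := by
      have e1 : ∀ w ∈ P, ∃ a ∈ L, ∃ b ∈ mp α L, a * b = w := fun w hw => Subgroup.mem_sup_of_normal_right.1 hw
      obtain ⟨j, hj, hj'⟩ := hcases P
      have h3 : Nat.card L < Nat.card P := by
        refine lt_of_le_of_ne (Subgroup.card_le_of_le le_sup_left) fun h => ?_
        have h8 : L = P := Subgroup.eq_of_le_of_card_ge le_sup_left h.ge
        apply hh1L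
        rw [h8]; exact Subgroup.mem_sup_right hh1
      rw [hLc, hj'] at h3
      have h4 : p ^ 1 < p ^ j := by rw [pow_one]; exact h3
      have h5 := (Nat.pow_lt_pow_iff_right hp.out.one_lt).1 h4
      have h6 : Nat.card P ≤ p ^ 2 := by
        have hsurj : Function.Surjective (fun ab : L × mp α L => (⟨ab.1 * ab.2,
            P.mul_mem (Subgroup.mem_sup_left ab.1.2) (Subgroup.mem_sup_right ab.2.2)⟩ : P)) := by
          rintro ⟨w, hw⟩
          obtain ⟨a, ha, b, hb, hab⟩ := e1 w hw
          exact ⟨(⟨a, ha⟩, ⟨b, hb⟩), Subtype.ext hab⟩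
        have := Nat.card_le_card_of_surjective _ hsurj
        rwa [Nat.card_prod, card_mp, hLc, ← pow_two] at this
      rw [hj'] at h6
      have h7 := (Nat.pow_le_pow_iff_right hp.out.one_lt).1 h6
      have : j = 2 := by omega
      rw [hj', this]
    have hmP : Monotone (chain3 P ⊤) := chain3_mono le_top
    let W := chainStab (chain3 P ⊤) 2 hmP ⊓ G
    have hWp : IsPGroup p W := (isPGroup_chainStab hV (n := 2) (hm := hmP) rfl rfl).to_le inf_le_left
    have hz1P : ∀ w ∈ P, z1 w = w := by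
      apply hfixsup
      · intro w hw; exact (hLmem w).1 hw z1 hz1T
      · rw [← zpowers_eq_of_prime (p := p) (by rw [card_mp, hLc]) hh1 hh11]
        exact hfixz z1 h1 hz1h
    have hz2P : ∀ w ∈ P, (α * z2 * α⁻¹) w = w := by
      apply hfixsup
      · intro w hw
        have h3 : α⁻¹ w ∈ mp α⁻¹ L := map_mem_mp hw
        rw [← zpowers_eq_of_prime (p := p) (by rw [card_mp, hLc]) hh2 hh21] at h3
        rw [MulAut.mul_apply, MulAut.mul_apply, hfixz z2 h2 hz2h _ h3, MulAut.apply_inv_self]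
      · intro w hw
        rw [MulAut.mul_apply, MulAut.mul_apply, (hLmem _).1 (mem_mp.1 hw) z2 hz2T, MulAut.apply_inv_self]
    have hz1W : z1 ∈ W := by
      refine ⟨?_, hT.1 hz1T⟩
      intro i hi x hx
      match i, hi with
      | 0, _ =>
        show x⁻¹ * z1 x = 1
        rw [hz1P x hx, inv_mul_cancel]
      | 1, _ => exact Subgroup.mem_sup_left (hTL z1 hz1T x)
    have hz2W : α * z2 * α⁻¹ ∈ W := by
      refine ⟨?_, G.mul_mem (G.mul_mem hα (hT.1 hz2T)) (G.inv_mem hα)⟩
      intro i hi x hx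
      match i, hi with
      | 0, _ =>
        show x⁻¹ * (α * z2 * α⁻¹) x = 1
        rw [hz2P x hx, inv_mul_cancel]
      | 1, _ =>
        rw [key]
        exact Subgroup.mem_sup_right (map_mem_mp (hTL z2 hz2T _))
    have hWc : Nat.card W = p ^ 2 := by
      obtain ⟨j, hj⟩ := IsPGroup.iff_card.1 hWp
      have h3 := hT.card_le (U := W) inf_le_right hWp
      rw [hTc, hj] at h3
      have h4 := (Nat.pow_le_pow_iff_right hp.out.one_lt).1 h3
      have h0 : j ≠ 0 := by
        rintro rfl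
        rw [pow_zero] at hj
        rw [Subgroup.card_eq_one.1 hj, Subgroup.mem_bot] at hz1W
        exact hz11 hz1W
      have h1' : j ≠ 1 := by
        rintro rfl
        rw [pow_one] at hj
        have hfW : Finite W := Subtype.finite
        have h3 : Subgroup.zpowers z1 = W := by
          apply Subgroup.eq_of_le_of_card_ge ((Subgroup.zpowers_le).2 hz1W)
          rw [hj]
          have h1 : orderOf z1 ∣ p := by
            rw [← hj, ← Subgroup.orderOf_mk z1 hz1W]; exact orderOf_dvd_natCard _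
          rcases (Nat.dvd_prime hp.out).1 h1 with h2 | h2
          · exact absurd (orderOf_eq_one_iff.1 h2) hz11
          · rw [Nat.card_zpowers, h2]
        rw [← h3] at hz2W
        have h4 : Subgroup.zpowers z1 ≤ T := (Subgroup.zpowers_le).2 hz1T
        exact hz21 (hsep z2 hz2T (h4 hz2W))
      have : j = 2 := by omega
      rw [hj, this]
    obtain ⟨g, hg, hgW⟩ := hT.exists_conj (U := W) inf_le_right hWp
    have hsurj : ∀ s ∈ T, ∃ u ∈ W, g * u * g⁻¹ = s := by
      let f : W → T := fun u => ⟨g * u * g⁻¹, hgW u u.2⟩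
      have hf : Function.Injective f := by
        intro a b hab
        exact Subtype.ext (mul_left_cancel (mul_right_cancel (congrArg Subtype.val hab)))
      have hfb : Function.Bijective f := by
        rw [Nat.bijective_iff_injective_and_card]
        exact ⟨hf, by rw [hTc, hWc]⟩
      intro s hs
      obtain ⟨u, hu⟩ := hfb.2 ⟨s, hs⟩
      exact ⟨u, u.2, congrArg Subtype.val hu⟩
    refine hnohyp (mp g P) ?_ (by rw [card_mp, hPc])
    intro w hw s hs
    obtain ⟨u, hu, rfl⟩ := hsurj s hs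
    have h3 : u (g⁻¹ w) = g⁻¹ w := by
      have h4 : (g⁻¹ w)⁻¹ * u (g⁻¹ w) = 1 := hu.1 0 (by norm_num) (g⁻¹ w) hw
      exact (inv_mul_eq_one.1 h4).symm
    rw [MulAut.mul_apply, MulAut.mul_apply, h3, MulAut.apply_inv_self]

end H88.P5
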