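import Cfsg.Agent.Lib.H88.P5G

/-! Group theory for the rank three case. -/

set_option autoImplicit false
set_option maxHeartbeats 400000
open scoped commutatorElement
open Cfsg H57.Ess H57.Small H88.P5Y

namespace H88.P5

variable {G : Type*} [Group G] [Finite G] {p : ℕ} [hp : Fact p.Prime]

omit [Finite G] in
/-- A normal factor of order `p` of a `p`-group is central. -/
theorem cm_of_rel (hG : IsPGroup p G) {A B : Subgroup G} (hA : A.Normal) (hB : B.Normal)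
    (hi : A.relIndex B = p) : ∀ b ∈ B, ∀ g : G, cm A b g := by
  intro b hb g
  have hT : IsPGroup p (MulAut.conj : G →* MulAut G).range := by
    have h1 : IsPGroup p (⊤ : Subgroup G) := hG.to_subgroup ⊤
    have h2 := h1.map (MulAut.conj : G →* MulAut G)
    rwa [← MonoidHom.range_eq_map] at h2
  have h1 := triv_factor hT hi
    (by rintro _ ⟨g, rfl⟩ a ha; exact hA.conj_mem a ha g)
    (by rintro _ ⟨g, rfl⟩ a ha; exact hB.conj_mem a ha g) (MulAut.conj g) ⟨g, rfl⟩ b⁻¹ (B.inv_mem hb)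
  have h2 : b⁻¹⁻¹ * (MulAut.conj g) b⁻¹ = b * g * b⁻¹ * g⁻¹ := by
    rw [MulAut.conj_apply]; group
  rw [h2] at h1
  exact h1

structure A2 (p : ℕ) (N B Y L : Subgroup G) (x : G) : Prop where
  nN : N.Normal
  nB : B.Normal
  nY : Y.Normal
  nL : L.Normal
  hLY : L ≤ Y
  hYB : Y ≤ B
  hBN : B ≤ N
  idxN : N.index = p
  cardL : Nat.card L = p
  relY : L.relIndex Y = p
  relB : Y.relIndex B = p
  relN : B.relIndex N = p
  nn : ∀ a ∈ N, ∀ b ∈ N, cm L a b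
  yc : ∀ a ∈ Y, ∀ n ∈ N, a * n = n * a
  yc' : ∀ a ∈ N, (∀ n ∈ N, a * n = n * a) → a ∈ Y
  xN : x ∈ N
  xB : x ∉ B
  xs : ∀ s, s ∉ N → ⁅x, s⁆ ∉ Y
  na : ∀ A : Subgroup G, (∀ x ∈ A, ∀ y ∈ A, x * y = y * x) → Nat.card A ≠ p ^ 4
  hc : Nat.card G = p ^ 5

variable {N B Y L : Subgroup G} {x : G}

theorem A2.isP (D : A2 p N B Y L x) : IsPGroup p G := IsPGroup.of_card D.hc

theorem A2.cmL (D : A2 p N B Y L x) : ∀ z ∈ L, ∀ g : G, z * g = g * z := by
  intro z hz g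
  haveI := D.nL
  have hbn : (⊥ : Subgroup G).Normal := inferInstance
  have h1 := cm_of_rel D.isP hbn D.nL (by rw [Subgroup.relIndex_bot_left]; exact D.cardL) z hz g
  have h2 : z * g * z⁻¹ * g⁻¹ = 1 := Subgroup.mem_bot.1 h1
  rw [mul_inv_eq_one, mul_inv_eq_iff_eq_mul] at h2
  exact h2

theorem A2.cmY (D : A2 p N B Y L x) : ∀ z ∈ Y, ∀ g : G, cm L z g := cm_of_rel D.isP D.nL D.nY D.relY

theorem A2.cmB (D : A2 p N B Y L x) : ∀ z ∈ B, ∀ g : G, cm Y z g := cm_of_rel D.isP D.nY D.nB D.relB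

theorem A2.cmN (D : A2 p N B Y L x) : ∀ z ∈ N, ∀ g : G, cm B z g := cm_of_rel D.isP D.nB D.nN D.relN

theorem comm_iff_eq {a b : G} : ⁅a, b⁆ = 1 ↔ a * b = b * a := commutatorElement_eq_one_iff_mul_comm

/-- Basic commutators. -/
theorem A2.basic (D : A2 p N B Y L x) {s : G} (hs : s ∉ N) :
    ⁅x, s⁆ ∈ B ∧ ⁅x, s⁆ ∉ Y ∧ ⁅x, ⁅x, s⁆⁆ ∈ L ∧ ⁅x, ⁅x, s⁆⁆ ≠ 1 ∧ (∀ a ∈ B, ∀ b ∈ B, a * b = b * a) := by
  haveI := D.nY
  have hbB : ⁅x, s⁆ ∈ B := D.cmN x D.xN s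
  have hbY := D.xs s hs
  set b := ⁅x, s⁆ with hb
  have hbab : ∀ a ∈ B, ∀ c ∈ B, a * c = c * a := by
    intro a ha c hc
    obtain ⟨m, u, hu, rfl⟩ := exists_wt (p := p) D.relB hbB hbY ha
    obtain ⟨n, v, hv, rfl⟩ := exists_wt (p := p) D.relB hbB hbY hc
    have h1 : Commute u b := D.yc u hu b (D.hBN hbB)
    have h2 : Commute v b := D.yc v hv b (D.hBN hbB)
    have h3 : Commute u v := D.yc u hu v (D.hBN (D.hYB hv))
    have h4 : Commute (b ^ m) (b ^ n * v) := ((Commute.refl b).pow_pow m n).mul_right (h2.symm.pow_left m)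
    have h5 : Commute u (b ^ n * v) := (h1.pow_right n).mul_right h3
    exact (h4.mul_left h5).eq
  refine ⟨hbB, hbY, D.nn x D.xN b (D.hBN hbB), ?_, hbab⟩
  intro h
  apply hbY
  apply D.yc' b (D.hBN hbB)
  intro n hn
  haveI := D.nB
  obtain ⟨m, u, hu, rfl⟩ := exists_wt (p := p) D.relN D.xN D.xB hn
  have h1 : Commute b x := (comm_iff_eq.1 h).symm
  have h2 : Commute b u := hbab b hbB u hu
  exact ((h1.pow_right m).mul_right h2).eq

theorem A2.pL (D : A2 p N B Y L x) : ∀ z ∈ L, z ^ p = 1 := by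
  intro z hz
  have h1 : (⟨z, hz⟩ : L) ^ Nat.card L = 1 := pow_card_eq_one'
  rw [D.cardL] at h1
  exact congrArg Subtype.val h1

theorem A2.exists_s (D : A2 p N B Y L x) : ∃ s, s ∉ N := by
  by_contra hne
  push Not at hne
  have : N = ⊤ := eq_top_iff.2 fun x _ => hne x
  have h1 := D.idxN
  rw [this, Subgroup.index_top] at h1
  exact hp.out.one_lt.ne h1

theorem pow_two_of {l : ℕ} {y : G} {p : ℕ} (hy : y ^ p = 1) {m n : ℕ} (h : (m : ZMod p) = n) (hl : l = m) : y ^ l = y ^ n := by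
  subst hl
  rw [ZMod.natCast_eq_natCast_iff] at h
  exact pow_eq_pow_iff_modEq.2 (h.of_dvd (orderOf_dvd_of_pow_eq_one hy))

/-- Weights of an automorphism fixing `c`. -/
theorem A2.wt (D : A2 p N B Y L x) {s c : G} (hs : s ∉ N) (hcY : c ∈ Y) (hcL : c ∉ L) {κ : MulAut G}
    (hκN : ∀ a ∈ N, κ a ∈ N) {l : ℕ} {k : ℕ} (hκx : κ x = x ^ l) (hκc : κ c = c) (hκL : ∀ z ∈ L, κ z = z ^ k)
    (hl : (l : ZMod p) ≠ 0) (hlk : (l : ZMod p) * k = 1) :
    (⁅c, s⁆ ≠ 1 → (l : ZMod p) ^ 2 = 1) ∧ (⁅⁅x, s⁆, s⁆ ∉ L → (l : ZMod p) ^ 5 = 1) := by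
  haveI := D.nL
  haveI := D.nY
  haveI := D.nN
  obtain ⟨hbB, hbY, hxbL, hxb1, hBab⟩ := D.basic hs
  set b := ⁅x, s⁆ with hb
  have hNT : N.relIndex ⊤ = p := by rw [Subgroup.relIndex_top_right]; exact D.idxN
  obtain ⟨σ, n, hn, hκs⟩ := exists_wt (p := p) hNT (Subgroup.mem_top s) hs (Subgroup.mem_top (κ s))
  have hκx' : κ x = x ^ l * 1 := by rw [mul_one]; exact hκx
  have c1 : ∀ (A : Subgroup G) (g : G), cm A 1 g := fun A g => cm_of_comm (by rw [one_mul, mul_one])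
  have c1' : ∀ (A : Subgroup G) (g : G), cm A g 1 := fun A g => cm_of_comm (by rw [one_mul, mul_one])
  have e1 := wt_mod Y κ (a := x) (b := s) (c := b) rfl hκx' hκs (D.cmB b hbB x) (D.cmB b hbB s) (c1 _ _) (c1 _ _)
    (D.hLY (D.nn n hn x D.xN))
  set v := (b ^ (l * σ))⁻¹ * κ b with hv
  have hκb : κ b = b ^ (l * σ) * v := by rw [hv]; group
  have e2 := wt_mod ⊥ κ (a := x) (b := b) (c := ⁅x, b⁆) rfl hκx' hκb (cm_of_comm (D.cmL _ hxbL x))
    (cm_of_comm (D.cmL _ hxbL b)) (c1 _ _) (c1 _ _) (cm_of_comm (D.yc v e1 x D.xN))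
  have hκxb : κ ⁅x, b⁆ = ⁅x, b⁆ ^ (l * (l * σ)) := (inv_mul_eq_one.1 (Subgroup.mem_bot.1 e2)).symm
  have hσ : (l : ZMod p) * (l * σ) = k := by
    have := wt_eq (p := p) (⊥ : Subgroup G) (c := ⁅x, b⁆) (y := κ ⁅x, b⁆) (m := l * (l * σ)) (n := k)
      (by rwa [Subgroup.mem_bot]) (by rw [Subgroup.mem_bot]; exact D.pL _ hxbL)
      (by rw [Subgroup.mem_bot, hκxb, inv_mul_cancel]) (by rw [Subgroup.mem_bot, hκL _ hxbL, inv_mul_cancel])
    push_cast at this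
    exact this
  have hσ' : (l : ZMod p) ^ 3 * σ = 1 := by
    calc (l : ZMod p) ^ 3 * σ = l * (l * (l * σ)) := by ring
      _ = 1 := by rw [hσ, hlk]
  constructor
  · intro hcs
    have hcsL : ⁅c, s⁆ ∈ L := D.cmY c hcY s
    have e3 := wt_mod ⊥ κ (a := c) (b := s) (c := ⁅c, s⁆) (m := 1) rfl (show κ c = c ^ 1 * 1 by rw [hκc]; simp) hκs
      (cm_of_comm (D.cmL _ hcsL c)) (cm_of_comm (D.cmL _ hcsL s)) (c1 _ _) (c1 _ _)
      (cm_of_comm (D.yc c hcY n hn).symm)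
    have h3 : (σ : ZMod p) = k := by
      have := wt_eq (p := p) (⊥ : Subgroup G) (c := ⁅c, s⁆) (y := κ ⁅c, s⁆) (m := 1 * σ) (n := k)
        (by rwa [Subgroup.mem_bot]) (by rw [Subgroup.mem_bot]; exact D.pL _ hcsL) e3
        (by rw [Subgroup.mem_bot, hκL _ hcsL, inv_mul_cancel])
      rwa [one_mul] at this
    rw [h3] at hσ'
    calc (l : ZMod p) ^ 2 = l ^ 2 * (l * k) := by rw [hlk, mul_one]
      _ = 1 := by rw [← hσ']; ring
  · intro hbs
    have hbsY : ⁅b, s⁆ ∈ Y := D.cmB b hbB s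
    have e4 := wt_mod L κ (a := b) (b := s) (c := ⁅b, s⁆) rfl hκb hκs (D.cmY _ hbsY b) (D.cmY _ hbsY s)
      (D.cmY v e1 s) (D.cmY v e1 n) (D.nn n hn b (D.hBN hbB))
    -- `κ` is trivial on `Y / L`
    have hYL : ∀ w ∈ Y, (w ^ 1)⁻¹ * κ w ∈ L := by
      intro w hw
      obtain ⟨m, u, hu, rfl⟩ := exists_wt (p := p) D.relY hcY hcL hw
      rw [map_mul, map_pow, hκc, pow_one, hκL u hu]
      have : (c ^ m * u)⁻¹ * (c ^ m * u ^ k) = u⁻¹ * u ^ k := by group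
      rw [this]
      exact L.mul_mem (L.inv_mem hu) (L.pow_mem hu k)
    have h4 := wt_eq (p := p) L (c := ⁅b, s⁆) (y := κ ⁅b, s⁆) hbs (pow_mem_of_relIndex D.relY hbsY) e4
      (hYL _ hbsY)
    push_cast at h4
    calc (l : ZMod p) ^ 5 = (l : ZMod p) ^ 5 * ((l : ZMod p) * (σ : ZMod p) * (σ : ZMod p)) := by rw [h4, mul_one]
      _ = ((l : ZMod p) ^ 3 * (σ : ZMod p)) * ((l : ZMod p) ^ 3 * (σ : ZMod p)) := by ring
      _ = 1 := by rw [hσ', one_mul]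

/-- If `s` centralizes `Y`, then `[b, s] ∉ L`. -/
theorem A2.dich (D : A2 p N B Y L x) {s c : G} (hs : s ∉ N) (hcY : c ∈ Y) (hcL : c ∉ L)
    (h1 : ⁅c, s⁆ = 1) (h2 : ⁅⁅x, s⁆, s⁆ ∈ L) : False := by
  haveI := D.nL
  haveI := D.nY
  haveI := D.nN
  haveI := D.nB
  obtain ⟨hbB, hbY, hxbL, hxb1, hBab⟩ := D.basic hs
  set b := ⁅x, s⁆ with hb
  have hcs : Commute c s := comm_iff_eq.1 h1
  -- choose `i` with `[b, s x^i] = 1`
  have hbxL : ⁅b, x⁆ ∈ L := D.nn b (D.hBN hbB) x D.xN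
  have hbx1 : ⁅b, x⁆ ≠ 1 := fun h => hxb1 (comm_iff_eq.2 (comm_iff_eq.1 h).symm)
  have hgen := zpowers_eq_of_prime D.cardL hbxL hbx1
  have h3 : (⁅b, s⁆)⁻¹ ∈ Subgroup.zpowers ⁅b, x⁆ := by rw [hgen]; exact L.inv_mem h2
  rw [← mem_powers_iff_mem_zpowers] at h3
  obtain ⟨i, hi⟩ := h3
  have hi' : ⁅b, x⁆ ^ i = (⁅b, s⁆)⁻¹ := hi
  have e1 : ⁅b, x ^ i⁆ = ⁅b, x⁆ ^ i := by
    have := comm_wt (a := b) (b := x) (u := 1) (v := 1) (c := ⁅b, x⁆) rfl (D.cmL _ hbxL b) (D.cmL _ hbxL x)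
      (Commute.one_left _) (Commute.one_left _) (Commute.one_left _) 1 i
    rwa [pow_one, mul_one, mul_one, one_mul] at this
  have e2 : ⁅b, s * x ^ i⁆ = 1 := by
    have e3 : ⁅b, s * x ^ i⁆ = ⁅b, s⁆ * (s * ⁅b, x ^ i⁆ * s⁻¹) := by
      simp only [commutatorElement_def]; group
    rw [e3, e1, hi']
    have h4 := D.cmL _ (L.inv_mem h2) s
    rw [← h4]; group
  have hs' : s * x ^ i ∉ N := fun h => hs (by
    have := N.mul_mem h (N.inv_mem (N.pow_mem D.xN i))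
    rwa [mul_inv_cancel_right] at this)
  set s' := s * x ^ i with hs'd
  have hbs' : Commute b s' := comm_iff_eq.1 e2
  have hcs' : Commute c s' := hcs.mul_right ((show Commute c x from D.yc c hcY x D.xN).pow_right i)
  have hYs' : ∀ w ∈ Y, Commute w s' := by
    intro w hw
    obtain ⟨m, u, hu, rfl⟩ := exists_wt (p := p) D.relY hcY hcL hw
    exact (hcs'.pow_left m).mul_left (D.cmL u hu s')
  have hBs' : ∀ w ∈ B, Commute w s' := by
    intro w hw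
    obtain ⟨m, u, hu, rfl⟩ := exists_wt (p := p) D.relB hbB hbY hw
    exact (hbs'.pow_left m).mul_left (hYs' u hu)
  -- the abelian subgroup `B⟨s'⟩`
  let A := B ⊔ Subgroup.zpowers s'
  have hAab : ∀ a ∈ A, ∀ c ∈ A, a * c = c * a := by
    have h5 : A ≤ Subgroup.centralizer (A : Set G) := by
      refine sup_le ?_ ?_
      · intro w hw
        rw [Subgroup.mem_centralizer_iff]
        intro v hv
        have h6 : A ≤ Subgroup.centralizer {w} := by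
          refine sup_le ?_ ?_
          · intro y hy
            exact Subgroup.mem_centralizer_singleton_iff.2 (hBab y hy w hw)
          · rw [Subgroup.zpowers_le]
            exact Subgroup.mem_centralizer_singleton_iff.2 (hBs' w hw).symm.eq
        exact Subgroup.mem_centralizer_singleton_iff.1 (h6 hv)
      · rw [Subgroup.zpowers_le, Subgroup.mem_centralizer_iff]
        intro v hv
        have h6 : A ≤ Subgroup.centralizer {s'} := by
          refine sup_le ?_ ?_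
          · intro y hy
            exact Subgroup.mem_centralizer_singleton_iff.2 (hBs' y hy).eq
          · rw [Subgroup.zpowers_le]
            exact Subgroup.mem_centralizer_singleton_iff.2 rfl
        exact Subgroup.mem_centralizer_singleton_iff.1 (h6 hv)
    intro a ha c hc
    exact Subgroup.mem_centralizer_iff.1 (h5 hc) a ha
  -- orders
  have hcY' : Nat.card Y = p ^ 2 := by
    have h1 := Subgroup.relIndex_mul_relIndex ⊥ L Y bot_le D.hLY
    rw [Subgroup.relIndex_bot_left, Subgroup.relIndex_bot_left, D.cardL, D.relY] at h1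
    rw [← h1, pow_two]
  have hcB : Nat.card B = p ^ 3 := by
    have h1 := Subgroup.relIndex_mul_relIndex ⊥ Y B bot_le D.hYB
    rw [Subgroup.relIndex_bot_left, Subgroup.relIndex_bot_left, hcY', D.relB] at h1
    rw [← h1, pow_succ p 2]
  have hAc : Nat.card A ∣ p ^ 5 := D.hc ▸ Subgroup.card_subgroup_dvd_card A
  obtain ⟨j, hj, hj'⟩ := (Nat.dvd_prime_pow hp.out).1 hAc
  have hlt : Nat.card B < Nat.card A := by
    refine lt_of_le_of_ne (Subgroup.card_le_of_le le_sup_left) fun h => ?_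
    have h8 : B = A := Subgroup.eq_of_le_of_card_ge le_sup_left h.ge
    apply hs'
    apply D.hBN
    rw [h8]; exact Subgroup.mem_sup_right (Subgroup.mem_zpowers s')
  rw [hcB, hj'] at hlt
  have h5 := (Nat.pow_lt_pow_iff_right hp.out.one_lt).1 hlt
  have hj4 : j ≠ 4 := by
    rintro rfl
    exact D.na A hAab hj'
  have hj5 : j = 5 := by omega
  have hAT : A = ⊤ := Subgroup.eq_top_of_card_eq _ (by rw [hj', hj5, D.hc])
  apply hxb1
  rw [comm_iff_eq]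
  exact hAab x (by rw [hAT]; exact Subgroup.mem_top x) b (by rw [hAT]; exact Subgroup.mem_top b)

theorem prime_of_two {p : ℕ} [hp : Fact p.Prime] (h : ∀ l : (ZMod p)ˣ, l ^ 2 = 1) (h2 : p ≠ 2) : p = 3 := by
  have h0 : Monoid.exponent (ZMod p)ˣ ∣ 2 := Monoid.exponent_dvd_of_forall_pow_eq_one h
  rw [IsCyclic.exponent_eq_card, Nat.card_eq_fintype_card, ZMod.card_units] at h0
  have h1 : p - 1 ≤ 2 := Nat.le_of_dvd (by norm_num) h0
  have hpp := hp.out.two_le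
  omega

/-- The automorphisms force `p = 3`. -/
theorem A2.three (D : A2 p N B Y L x) {s c : G} (hs : s ∉ N) (hcY : c ∈ Y) (hcL : c ∉ L) (hp2 : p ≠ 2)
    (h : ∀ l : (ZMod p)ˣ, ∃ κ : MulAut G, ∃ a k : ℕ, (a : ZMod p) = l ∧ (k : ZMod p) = (l⁻¹ : (ZMod p)ˣ) ∧
      (∀ a ∈ N, κ a ∈ N) ∧ κ x = x ^ a ∧ κ c = c ∧ ∀ z ∈ L, κ z = z ^ k) :
    p = 3 ∧ ⁅c, s⁆ ≠ 1 ∧ ⁅⁅x, s⁆, s⁆ ∈ L := by
  have hw : ∀ l : (ZMod p)ˣ, (⁅c, s⁆ ≠ 1 → l ^ 2 = 1) ∧ (⁅⁅x, s⁆, s⁆ ∉ L → l ^ 5 = 1) := by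
    intro l
    obtain ⟨κ, a, k, ha, hk, hN, hκx, hκc, hκL⟩ := h l
    obtain ⟨h1, h2⟩ := D.wt hs hcY hcL hN hκx hκc hκL (by rw [ha]; exact l.ne_zero)
      (by rw [ha, hk]; exact l.mul_inv)
    rw [ha] at h1 h2
    refine ⟨fun h3 => ?_, fun h3 => ?_⟩
    · apply Units.ext
      rw [Units.val_pow_eq_pow_val]; exact h1 h3
    · apply Units.ext
      rw [Units.val_pow_eq_pow_val]; exact h2 h3
  have hbs : ⁅⁅x, s⁆, s⁆ ∈ L := by
    by_contra hne
    have h1 := (hw (-1)).2 hne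
    have h2 : ((-1 : (ZMod p)ˣ)) ^ 5 = -1 := by
      rw [show 5 = 2 * 2 + 1 from rfl, pow_succ, pow_mul]; simp
    rw [h2] at h1
    have h3 : (-1 : ZMod p) = 1 := by
      have := congrArg Units.val h1
      simpa using this
    have h4 : ((2 : ℕ) : ZMod p) = 0 := by
      push_cast
      calc (2 : ZMod p) = 1 - (-1) := by ring
        _ = 0 := by rw [h3]; ring
    rw [ZMod.natCast_eq_zero_iff] at h4
    exact hp2 ((Nat.prime_dvd_prime_iff_eq hp.out Nat.prime_two).1 h4)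
  have hcs : ⁅c, s⁆ ≠ 1 := fun h1 => D.dich hs hcY hcL h1 hbs
  exact ⟨prime_of_two (fun l => (hw l).1 hcs) hp2, hcs, hbs⟩

end H88.P5
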