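import Cfsg.Agent.Lib.H88.P5I

/-! The rank three case for `p = 3`. -/

set_option autoImplicit false
set_option maxHeartbeats 400000
open scoped commutatorElement
open Cfsg H57.Ess H57.Small H88.P5Y

namespace H88.P5

variable {G : Type*} [Group G] [Finite G]

omit [Finite G] in
theorem KH_normal {H : Subgroup G} (hHn : H.Normal) : (KH H).Normal := by
  refine ⟨fun y hy t => ?_⟩
  refine Subgroup.closure_induction (p := fun y _ => t * y * t⁻¹ ∈ KH H) ?_ ?_ ?_ ?_ hy
  · rintro y (⟨h, hh, rfl⟩ | ⟨h, hh, k, hk, rfl⟩)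
    · apply Subgroup.subset_closure
      exact Or.inl ⟨t * h * t⁻¹, hHn.conj_mem h hh t, by rw [conj_pow]⟩
    · apply Subgroup.subset_closure
      exact Or.inr ⟨t * h * t⁻¹, hHn.conj_mem h hh t, t * k * t⁻¹, hHn.conj_mem k hk t, by group⟩
  · rw [mul_one, mul_inv_cancel]; exact one_mem _
  · intro a b _ _ ha hb
    have : t * (a * b) * t⁻¹ = (t * a * t⁻¹) * (t * b * t⁻¹) := by group
    rw [this]; exact mul_mem ha hb
  · intro a _ ha
    have : t * a⁻¹ * t⁻¹ = (t * a * t⁻¹)⁻¹ := by group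
    rw [this]; exact inv_mem ha

variable {N B Y L : Subgroup G} {x : G} [hp : Fact (Nat.Prime 3)]

theorem A2.adjust (D : A2 3 N B Y L x) {s c : G} (hs : s ∉ N) (hcY : c ∈ Y)
    (hcs : ⁅c, s⁆ ≠ 1) (hbs : ⁅⁅x, s⁆, s⁆ ∈ L) :
    ∃ s', s' ∉ N ∧ ⁅c, s'⁆ ≠ 1 ∧ ⁅⁅x, s'⁆, s'⁆ = 1 := by
  obtain ⟨hbB, hbY, hxbL, hxb1, hBab⟩ := D.basic hs
  set b := ⁅x, s⁆ with hb
  have hbxL : ⁅b, x⁆ ∈ L := D.nn b (D.hBN hbB) x D.xN
  have hbx1 : ⁅b, x⁆ ≠ 1 := fun h => hxb1 (comm_iff_eq.2 (comm_iff_eq.1 h).symm)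
  have hgen := zpowers_eq_of_prime D.cardL hbxL hbx1
  have h3 : (⁅b, s⁆)⁻¹ ∈ Subgroup.zpowers ⁅b, x⁆ := by rw [hgen]; exact L.inv_mem hbs
  rw [← mem_powers_iff_mem_zpowers] at h3
  obtain ⟨i, hi⟩ := h3
  have hi' : ⁅b, x⁆ ^ i = (⁅b, s⁆)⁻¹ := hi
  have e1 : ⁅b, x ^ i⁆ = ⁅b, x⁆ ^ i := by
    have := comm_wt (a := b) (b := x) (u := 1) (v := 1) (c := ⁅b, x⁆) rfl (D.cmL _ hbxL b) (D.cmL _ hbxL x)
      (Commute.one_left _) (Commute.one_left _) (Commute.one_left _) 1 i
    rwa [pow_one, mul_one, mul_one, one_mul] at this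
  have e2 : ⁅b, s * x ^ i⁆ = 1 := by
    have e3 : ⁅b, s * x ^ i⁆ = ⁅b, s⁆ * (s * ⁅b, x ^ i⁆ * s⁻¹) := by
      simp only [commutatorElement_def]; group
    rw [e3, e1, hi']
    have h4 := D.cmL _ (L.inv_mem hbs) s
    rw [← h4]; group
  have hs' : s * x ^ i ∉ N := fun h => hs (by
    have := N.mul_mem h (N.inv_mem (N.pow_mem D.xN i))
    rwa [mul_inv_cancel_right] at this)
  have e4 : ⁅x, s * x ^ i⁆ = b := by
    have h5 : Commute x (x ^ i) := (Commute.refl x).pow_right i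
    have h6 : x ^ i * x⁻¹ = x⁻¹ * x ^ i := (h5.inv_left).eq.symm
    rw [hb, commutatorElement_def, commutatorElement_def]
    calc x * (s * x ^ i) * x⁻¹ * (s * x ^ i)⁻¹ = x * s * (x ^ i * x⁻¹) * (s * x ^ i)⁻¹ := by group
      _ = x * s * (x⁻¹ * x ^ i) * (s * x ^ i)⁻¹ := by rw [h6]
      _ = _ := by group
  refine ⟨s * x ^ i, hs', ?_, by rw [e4, e2]⟩
  intro h
  apply hcs
  have h5 : Commute c (s * x ^ i) := comm_iff_eq.1 h
  have h6 : Commute c (x ^ i)⁻¹ := ((show Commute c x from D.yc c hcY x D.xN).pow_right i).inv_right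
  have h7 := h5.mul_right h6
  rw [mul_inv_cancel_right] at h7
  exact comm_iff_eq.2 h7

/-- Everything needed for `p = 3`. -/
theorem A2.final (D : A2 3 N B Y L x) (hx3 : x ^ 3 = 1) {s c : G} (hs : s ∉ N) (hcY : c ∈ Y) (hcL : c ∉ L)
    (hc3 : c ^ 3 = 1) (hcs : ⁅c, s⁆ ≠ 1) (hbs : ⁅⁅x, s⁆, s⁆ = 1) :
    (∀ (A : Type _) [CommGroup A], (∀ a : A, a ^ 3 = 1) → Raw 3 G A) ∧
    ∃ T : Subgroup G, T.Normal ∧ _root_.commutator G ≤ T ∧ (∀ g : G, g ^ 3 ∈ T) ∧ c ∉ T ∧
      ∀ κ : MulAut G, c⁻¹ * κ c ∈ T := by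
  haveI := D.nL
  haveI := D.nY
  haveI := D.nN
  haveI := D.nB
  obtain ⟨hbB, hbY, hxbL, hxb1, hBab⟩ := D.basic hs
  set b := ⁅x, s⁆ with hb
  have hcB : c ∈ B := D.hYB hcY
  have hLB : L ≤ B := D.hLY.trans D.hYB
  -- `[B, G] ≤ L`
  have hsL : B ≤ cmod L s := by
    intro β hβ
    obtain ⟨m, u, hu, rfl⟩ := exists_wt (p := 3) D.relB hbB hbY hβ
    refine (cmod L s).mul_mem ((cmod L s).pow_mem (mem_cmod.2 ?_) m) (mem_cmod.2 (D.cmY u hu s))
    exact cm_of_comm (comm_iff_eq.1 hbs)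
  have hBL : ∀ β ∈ B, ∀ g : G, cm L β g := by
    intro β hβ g
    apply cm_symm
    rw [← mem_cmod, eq_top_of_index D.idxN (K := cmod L β) (fun y hy => mem_cmod.2 (D.nn y hy β (D.hBN hβ)))
      (mem_cmod.2 (cm_symm (mem_cmod.1 (hsL hβ)))) hs]
    exact Subgroup.mem_top g
  -- the centre
  have hZL : ∀ z : G, (∀ g : G, z * g = g * z) → z ∈ L := by
    intro z hz
    have hzN : z ∈ N := by
      by_contra hne
      apply D.xs z hne
      rw [comm_iff_eq.2 (hz x).symm]; exact one_mem _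
    have hzY : z ∈ Y := D.yc' z hzN fun n _ => hz n
    by_contra hzL
    obtain ⟨m, u, hu, hc⟩ := exists_wt (p := 3) D.relY hzY hzL hcY
    apply hcs
    rw [comm_iff_eq, hc]
    exact (((show Commute z s from hz s).pow_left m).mul_left (D.cmL u hu s)).eq
  -- `[G, G] ≤ B`
  have hGB : ∀ a g : G, cm B a g := by
    intro a g
    have h1 : ∀ a : G, cm B s a := by
      intro a
      apply cm_symm
      rw [← mem_cmod, eq_top_of_index D.idxN (K := cmod B s) (fun y hy => mem_cmod.2 (D.cmN y hy s))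
        (mem_cmod.2 (cm_of_comm rfl)) hs]
      exact Subgroup.mem_top a
    apply cm_symm
    rw [← mem_cmod, eq_top_of_index D.idxN (K := cmod B a) (fun y hy => mem_cmod.2 (D.cmN y hy a))
      (mem_cmod.2 (h1 a)) hs]
    exact Subgroup.mem_top g
  refine ⟨?_, ?_⟩
  · -- raw condition
    intro A _ hA
    apply raw3_of hA
    intro H hHn hHi g hg u hu
    set c1 := u⁻¹ * (g⁻¹ * u * g) with hc1
    have hc1m : c1 ∈ B := by
      have h1 := hGB u⁻¹ g⁻¹
      unfold cm at h1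
      have h2 : u⁻¹ * g⁻¹ * u⁻¹⁻¹ * g⁻¹⁻¹ = c1 := by rw [hc1]; group
      rwa [h2] at h1
    have hc2m : c1⁻¹ * (g⁻¹ * c1 * g) ∈ L := by
      have h1 := hBL c1⁻¹ (B.inv_mem hc1m) g⁻¹
      unfold cm at h1
      have h2 : c1⁻¹ * g⁻¹ * c1⁻¹⁻¹ * g⁻¹⁻¹ = c1⁻¹ * (g⁻¹ * c1 * g) := by group
      rwa [h2] at h1
    haveI := KH_normal hHn
    have hKne : KH H ≠ ⊥ := by
      intro h
      have hab : ∀ a ∈ H, ∀ b ∈ H, a * b = b * a := by
        intro a ha b hb
        have h1 : a * b * a⁻¹ * b⁻¹ ∈ KH H := Subgroup.subset_closure (Or.inr ⟨a, ha, b, hb, rfl⟩)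
        rw [h, Subgroup.mem_bot, mul_inv_eq_one, mul_inv_eq_iff_eq_mul] at h1
        exact h1
      refine D.na H hab ?_
      have h1 := Subgroup.card_mul_index H
      rw [hHi, D.hc] at h1
      omega
    obtain ⟨z, hz, hzo, hzc⟩ := H63.PGroupBasics.exists_central_orderOf_eq D.isP (KH H) hKne
    have hzL : z ∈ L := hZL z fun g => (hzc g).symm
    have hz1 : z ≠ 1 := by
      rintro rfl
      rw [orderOf_one] at hzo
      norm_num at hzo
    have h1 : L ≤ KH H := by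
      rw [← zpowers_eq_of_prime D.cardL hzL hz1, Subgroup.zpowers_le]
      exact hz
    exact h1 hc2m
  · -- the subgroup `T`
    let T : Subgroup G := B ⊓ Subgroup.centralizer {s}
    have hTmem : ∀ t, t ∈ T ↔ t ∈ B ∧ t * s = s * t := by
      intro t
      rw [Subgroup.mem_inf, Subgroup.mem_centralizer_singleton_iff]
    have hbT : b ∈ T := (hTmem b).2 ⟨hbB, comm_iff_eq.1 hbs⟩
    have hLT : L ≤ T := fun z hz => (hTmem z).2 ⟨hLB hz, D.cmL z hz s⟩
    have hcT : c ∉ T := fun h => hcs (comm_iff_eq.2 ((hTmem c).1 h).2)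
    have hTB : T ≤ B := inf_le_left
    haveI hTn : T.Normal := by
      refine ⟨fun t ht g => ?_⟩
      have h1 : g * t * g⁻¹ = (g * t * g⁻¹ * t⁻¹) * t := by group
      rw [h1]
      exact T.mul_mem (hLT (cm_symm (hBL t (hTB ht) g))) ht
    have hBc : ∀ β ∈ B, ∃ m : ℕ, ∃ w ∈ T, β = c ^ m * w := by
      intro β hβ
      obtain ⟨i, v, hv, rfl⟩ := exists_wt (p := 3) D.relB hbB hbY hβ
      obtain ⟨j, l, hl, rfl⟩ := exists_wt (p := 3) D.relY hcY hcL hv
      refine ⟨j, b ^ i * l, T.mul_mem (T.pow_mem hbT i) (hLT hl), ?_⟩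
      have h1 : b ^ i * c ^ j = c ^ j * b ^ i := hBab _ (B.pow_mem hbB i) _ (B.pow_mem hcB j)
      rw [← mul_assoc, h1, mul_assoc]
    -- `G/T` is abelian
    have hBT : ∀ β ∈ B, ∀ g : G, cm T β g := fun β hβ g => hLT (hBL β hβ g)
    have hxT : ∀ g : G, cm T x g := by
      intro g
      apply cm_symm
      have hNle : N ≤ cmod T x := by
        intro n hn
        obtain ⟨m, u, hu, rfl⟩ := exists_wt (p := 3) D.relN D.xN D.xB hn
        exact (cmod T x).mul_mem ((cmod T x).pow_mem (mem_cmod.2 (cm_of_comm rfl)) m) (mem_cmod.2 (hBT u hu x))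
      rw [← mem_cmod, eq_top_of_index D.idxN hNle (mem_cmod.2 (cm_symm hbT)) hs]
      exact Subgroup.mem_top g
    have hNT : ∀ n ∈ N, ∀ g : G, cm T n g := by
      intro n hn g
      obtain ⟨m, u, hu, rfl⟩ := exists_wt (p := 3) D.relN D.xN D.xB hn
      rw [← mem_cmod]
      exact (cmod T g).mul_mem ((cmod T g).pow_mem (mem_cmod.2 (hxT g)) m) (mem_cmod.2 (hBT u hu g))
    have hsT : ∀ g : G, cm T s g := by
      intro g
      apply cm_symm
      rw [← mem_cmod, eq_top_of_index D.idxN (K := cmod T s) (fun n hn => mem_cmod.2 (hNT n hn s))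
        (mem_cmod.2 (cm_of_comm rfl)) hs]
      exact Subgroup.mem_top g
    have hT : ∀ a g : G, cm T a g := by
      intro a g
      apply cm_symm
      rw [← mem_cmod, eq_top_of_index D.idxN (K := cmod T a) (fun n hn => mem_cmod.2 (hNT n hn a))
        (mem_cmod.2 (hsT a)) hs]
      exact Subgroup.mem_top g
    -- cubes
    have hs3B : s ^ 3 ∈ B := by
      have h1 : s ^ 3 ∈ N := by
        apply pow_mem_of_relIndex (A := ⊤) ?_ (Subgroup.mem_top s)
        rw [Subgroup.relIndex_top_right]; exact D.idxN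
      by_contra hne
      obtain ⟨m, β, hβ, hxm⟩ := exists_wt (p := 3) D.relN h1 hne D.xN
      apply hbY
      have h2 : x ∈ cmod Y s := by
        rw [hxm]
        exact (cmod Y s).mul_mem ((cmod Y s).pow_mem (mem_cmod.2 (cm_of_comm ((Commute.refl s).pow_left 3))) m)
          (mem_cmod.2 (D.cmB β hβ s))
      exact mem_cmod.1 h2
    have hs3T : s ^ 3 ∈ T := (hTmem _).2 ⟨hs3B, ((Commute.refl s).pow_left 3).eq⟩
    have hcube : ∀ g : G, g ^ 3 ∈ T := by
      let K : Subgroup G :=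
        { carrier := {g | g ^ 3 ∈ T}
          one_mem' := by show (1 : G) ^ 3 ∈ T; rw [one_pow]; exact one_mem _
          mul_mem' := by
            intro a b' ha hb'
            show (a * b') ^ 3 ∈ T
            rw [← QuotientGroup.eq_one_iff, QuotientGroup.mk_pow, QuotientGroup.mk_mul,
              Commute.mul_pow ((cm_iff T).1 (hT a b')), ← QuotientGroup.mk_pow, ← QuotientGroup.mk_pow,
              (QuotientGroup.eq_one_iff _).2 ha, (QuotientGroup.eq_one_iff _).2 hb', one_mul]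
          inv_mem' := by
            intro a ha
            show a⁻¹ ^ 3 ∈ T
            rw [inv_pow]; exact T.inv_mem ha }
      have hBK : B ≤ K := by
        intro β hβ
        obtain ⟨m, w, hw, rfl⟩ := hBc β hβ
        show (c ^ m * w) ^ 3 ∈ T
        have h1 : Commute (c ^ m) w := hBab _ (B.pow_mem hcB m) _ (hTB hw)
        rw [h1.mul_pow, ← pow_mul, mul_comm m 3, pow_mul, hc3, one_pow, one_mul]
        exact T.pow_mem hw 3
      have hxK : x ∈ K := by show x ^ 3 ∈ T; rw [hx3]; exact one_mem _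
      have hNK : N ≤ K := by
        intro n hn
        obtain ⟨m, u, hu, rfl⟩ := exists_wt (p := 3) D.relN D.xN D.xB hn
        exact K.mul_mem (K.pow_mem hxK m) (hBK hu)
      have hK : K = ⊤ := eq_top_of_index D.idxN hNK (show s ∈ K from hs3T) hs
      intro g
      have : g ∈ K := by rw [hK]; exact Subgroup.mem_top g
      exact this
    have hcom : _root_.commutator G ≤ T := commutator_le_of_com hT
    refine ⟨T, hTn, hcom, hcube, hcT, ?_⟩
    -- characteristic subgroups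
    have hchL : Ch L := by
      have h1 : L = Subgroup.center G := by
        ext z
        rw [Subgroup.mem_center_iff]
        exact ⟨fun hz g => (D.cmL z hz g).symm, fun hz => hZL z fun g => (hz g).symm⟩
      rw [h1]; exact Ch.center
    have hBchar : ∀ g : G, (∀ h : G, cm L g h) → g ∈ B := by
      intro g hg
      by_contra hne
      by_cases hgN : g ∈ N
      · obtain ⟨m, β, hβ, hxm⟩ := exists_wt (p := 3) D.relN hgN hne D.xN
        apply hbY
        apply D.hLY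
        have h2 : x ∈ cmod L s := by
          rw [hxm]
          exact (cmod L s).mul_mem ((cmod L s).pow_mem (mem_cmod.2 (hg s)) m) (mem_cmod.2 (hBL β hβ s))
        exact mem_cmod.1 h2
      · exact D.xs g hgN (D.hLY (cm_symm (hg x)))
    have hchB : Ch B := by
      intro φ g hg
      apply hBchar
      intro h
      have h1 := hchL φ _ (hBL g hg (φ⁻¹ h))
      rw [map_mul, map_mul, map_mul, map_inv, map_inv, MulAut.apply_inv_self] at h1
      exact h1
    have hTeq : ∀ t ∈ T, ∃ i : ℕ, ∃ l ∈ L, t = b ^ i * l := by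
      intro t ht
      obtain ⟨i, v, hv, rfl⟩ := exists_wt (p := 3) D.relB hbB hbY (hTB ht)
      refine ⟨i, v, ?_, rfl⟩
      by_contra hvL
      obtain ⟨m, u, hu, hc⟩ := exists_wt (p := 3) D.relY hv hvL hcY
      apply hcs
      rw [comm_iff_eq, hc]
      have h1 : Commute (b ^ i * v) s := ((hTmem _).1 ht).2
      have h2 : Commute (b ^ i)⁻¹ s := ((show Commute b s from comm_iff_eq.1 hbs).pow_left i).inv_left
      have h3 := h2.mul_left h1
      rw [inv_mul_cancel_left] at h3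
      exact ((h3.pow_left m).mul_left (D.cmL u hu s)).eq
    have hbxL : ⁅b, x⁆ ∈ L := D.nn b (D.hBN hbB) x D.xN
    have hbx1 : ⁅b, x⁆ ≠ 1 := fun h => hxb1 (comm_iff_eq.2 (comm_iff_eq.1 h).symm)
    have hTcom : T = _root_.commutator G := by
      apply le_antisymm _ hcom
      intro t ht
      obtain ⟨i, l, hl, rfl⟩ := hTeq t ht
      refine mul_mem (pow_mem (comm_mem x s) i) ?_
      have h1 : L ≤ _root_.commutator G := by
        rw [← zpowers_eq_of_prime D.cardL hbxL hbx1, Subgroup.zpowers_le]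
        exact comm_mem b x
      exact h1 hl
    have hchT : Ch T := by rw [hTcom]; exact Ch.commutator
    set M1 := Subgroup.centralizer (T : Set G) with hM1
    have hchM : Ch M1 := hchT.centralizer
    haveI : M1.Normal := normal_of_ch hchM
    have hM1mem : ∀ g, g ∈ M1 ↔ ∀ t ∈ T, t * g = g * t := fun g => Subgroup.mem_centralizer_iff
    have hxM : x ∉ M1 := fun h => hbx1 (comm_iff_eq.2 ((hM1mem x).1 h b hbT))
    have hsM : s ∈ M1 := (hM1mem s).2 fun t ht => ((hTmem t).1 ht).2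
    have hBM : B ≤ M1 := fun β hβ => (hM1mem β).2 fun t ht => hBab t (hTB ht) β hβ
    have hsB : s ∉ B := fun h => hs (D.hBN h)
    -- orders
    have hcYc : Nat.card Y = 3 ^ 2 := by
      have h1 := Subgroup.relIndex_mul_relIndex ⊥ L Y bot_le D.hLY
      rw [Subgroup.relIndex_bot_left, Subgroup.relIndex_bot_left, D.cardL, D.relY] at h1
      rw [← h1]; norm_num
    have hcBc : Nat.card B = 3 ^ 3 := by
      have h1 := Subgroup.relIndex_mul_relIndex ⊥ Y B bot_le D.hYB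
      rw [Subgroup.relIndex_bot_left, Subgroup.relIndex_bot_left, hcYc, D.relB] at h1
      rw [← h1]; norm_num
    have hcM : Nat.card M1 = 3 ^ 4 := by
      have hd : Nat.card M1 ∣ 3 ^ 5 := D.hc ▸ Subgroup.card_subgroup_dvd_card M1
      obtain ⟨j, hj, hj'⟩ := (Nat.dvd_prime_pow Nat.prime_three).1 hd
      have hlt : Nat.card B < Nat.card M1 := by
        refine lt_of_le_of_ne (Subgroup.card_le_of_le hBM) fun h => ?_
        have h8 : B = M1 := Subgroup.eq_of_le_of_card_ge hBM h.ge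
        apply hsB
        rw [h8]; exact hsM
      rw [hcBc, hj'] at hlt
      have h5 := (Nat.pow_lt_pow_iff_right (by norm_num : 1 < 3)).1 hlt
      have h6 : j ≠ 5 := by
        rintro rfl
        apply hxM
        have : M1 = ⊤ := Subgroup.eq_top_of_card_eq _ (by rw [hj', D.hc])
        rw [this]; exact Subgroup.mem_top x
      have : j = 4 := by omega
      rw [hj', this]
    have hM1i : M1.relIndex ⊤ = 3 := by
      rw [Subgroup.relIndex_top_right]
      have h1 := Subgroup.card_mul_index M1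
      rw [hcM, D.hc] at h1
      omega
    have hBMi : B.relIndex M1 = 3 := by
      have h1 := Subgroup.relIndex_mul_relIndex ⊥ B M1 bot_le hBM
      rw [Subgroup.relIndex_bot_left, Subgroup.relIndex_bot_left, hcBc, hcM] at h1
      omega
    intro κ
    obtain ⟨ξ, m, hm, hκx⟩ := exists_wt (p := 3) hM1i (Subgroup.mem_top x) hxM (Subgroup.mem_top (κ x))
    obtain ⟨σ, β, hβ, hκs⟩ := exists_wt (p := 3) hBMi hsM hsB (hchM κ s hsM)
    obtain ⟨γ, w, hw, hκc⟩ := hBc (κ c) (hchB κ c hcB)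
    have hmsL : cm L m s := by
      obtain ⟨i, β', hβ', rfl⟩ := exists_wt (p := 3) hBMi hsM hsB hm
      rw [← mem_cmod]
      exact (cmod L s).mul_mem ((cmod L s).pow_mem (mem_cmod.2 (cm_of_comm rfl)) i) (mem_cmod.2 (hBL β' hβ' s))
    have e1 := wt_mod L κ (a := x) (b := s) (c := b) rfl hκx hκs (hBL b hbB x) (hBL b hbB s) hmsL
      (cm_symm (hBL β hβ m)) (hBL β hβ x)
    set v := (b ^ (ξ * σ))⁻¹ * κ b with hv
    have hκb : κ b = b ^ (ξ * σ) * v := by rw [hv]; group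
    have e2 := wt_mod ⊥ κ (a := b) (b := x) (c := ⁅b, x⁆) rfl hκb hκx (cm_of_comm (D.cmL _ hbxL b))
      (cm_of_comm (D.cmL _ hbxL x)) (cm_of_comm (D.cmL v e1 x)) (cm_of_comm (D.cmL v e1 m))
      (cm_of_comm ((hM1mem m).1 hm b hbT).symm)
    have hcsL : ⁅c, s⁆ ∈ L := D.cmY c hcY s
    have e3 := wt_mod ⊥ κ (a := c) (b := s) (c := ⁅c, s⁆) rfl hκc hκs (cm_of_comm (D.cmL _ hcsL c))
      (cm_of_comm (D.cmL _ hcsL s)) (cm_of_comm ((hTmem w).1 hw).2) (cm_of_comm (hBab w (hTB hw) β hβ))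
      (cm_of_comm (hBab β hβ c hcB))
    have hκbx : κ ⁅b, x⁆ = ⁅b, x⁆ ^ (ξ * σ * ξ) := (inv_mul_eq_one.1 (Subgroup.mem_bot.1 e2)).symm
    have hactL : ∀ z ∈ L, κ z = z ^ (ξ * σ * ξ) := by
      intro z hz
      rw [← zpowers_eq_of_prime D.cardL hbxL hbx1] at hz
      obtain ⟨j, rfl⟩ := hz
      show κ (⁅b, x⁆ ^ j) = (⁅b, x⁆ ^ j) ^ (ξ * σ * ξ)
      rw [map_zpow, hκbx, ← zpow_natCast, ← zpow_natCast, ← zpow_mul, ← zpow_mul, mul_comm]
    have h4 := wt_eq (p := 3) (⊥ : Subgroup G) (c := ⁅c, s⁆) (y := κ ⁅c, s⁆) (by rwa [Subgroup.mem_bot])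
      (by rw [Subgroup.mem_bot]; exact D.pL _ hcsL) e3 (n := ξ * σ * ξ) (by
        rw [Subgroup.mem_bot, hactL _ hcsL, inv_mul_cancel])
    push_cast at h4
    have hσ : (σ : ZMod 3) ≠ 0 := by
      intro h
      rw [ZMod.natCast_eq_zero_iff] at h
      obtain ⟨j, hj⟩ := h
      apply hsB
      have h1 : κ s ∈ B := by
        rw [hκs, hj, pow_mul]
        exact B.mul_mem (B.pow_mem hs3B j) hβ
      have h2 := hchB κ⁻¹ _ h1
      rwa [MulAut.inv_apply_self] at h2
    have hξ : (ξ : ZMod 3) ≠ 0 := by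
      intro h
      have h1 : κ ⁅b, x⁆ = 1 := by
        rw [hκbx]
        rw [ZMod.natCast_eq_zero_iff] at h
        obtain ⟨j, hj⟩ := h
        rw [hj, show 3 * j * σ * (3 * j) = 3 * (j * σ * (3 * j)) by ring, pow_mul,
          show (⁅b, x⁆ ^ 3) = 1 from D.pL _ hbxL, one_pow]
      exact hbx1 ((MulEquiv.map_eq_one_iff κ).1 h1)
    have hγ : (γ : ZMod 3) = (1 : ℕ) := by
      have h5 : (γ : ZMod 3) = (ξ : ZMod 3) ^ 2 := by
        have h6 : (σ : ZMod 3) * γ = σ * (ξ : ZMod 3) ^ 2 := by linear_combination h4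
        exact mul_left_cancel₀ hσ h6
      rw [h5, Nat.cast_one]
      exact sq_three _ hξ
    rw [ZMod.natCast_eq_natCast_iff] at hγ
    have h7 : γ = 3 * (γ / 3) + 1 := by
      have : γ % 3 = 1 := hγ
      omega
    rw [hκc, h7, pow_succ', pow_mul, hc3, one_pow, mul_one, inv_mul_cancel_left]
    exact hw

end H88.P5
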