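import Cfsg.Agent.Lib.H88.P5J

/-! Essential subgroups of order `p³`. -/

set_option autoImplicit false
set_option maxHeartbeats 400000
open scoped commutatorElement
open Cfsg Cfsg.FusionSystem H86.FusBasic H86.FusSat H57.Ess H57.Small H57.TvPair H88.P5Y

namespace H88.P5

universe v
variable {Ω : Type v} [Group Ω] {S : Subgroup Ω} [Finite S] {p : ℕ} [hp : Fact p.Prime]

/-- A chain with four proper steps. -/
def chain4 {V : Type*} [Group V] (A B C : Subgroup V) : ℕ → Subgroup V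
  | 0 => ⊥
  | 1 => A
  | 2 => B
  | 3 => C
  | _ => ⊤

theorem chain4_mono {V : Type*} [Group V] {A B C : Subgroup V} (h : A ≤ B) (h' : B ≤ C) : Monotone (chain4 A B C) := by
  apply monotone_nat_of_le_succ
  intro n
  match n with
  | 0 => exact bot_le
  | 1 => exact h
  | 2 => exact h'
  | 3 => exact le_top
  | (n+4) => exact le_rfl

theorem relIndex_of_cards {V : Type*} [Group V] {A B : Subgroup V} (h : A ≤ B) {n : ℕ}
    (hA : Nat.card A = p ^ n) (hB : Nat.card B = p ^ (n + 1)) : A.relIndex B = p := by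
  have h1 := Subgroup.relIndex_mul_relIndex ⊥ A B bot_le h
  rw [Subgroup.relIndex_bot_left, Subgroup.relIndex_bot_left, hA, hB, pow_succ] at h1
  exact Nat.eq_of_mul_eq_mul_left (pow_pos hp.out.pos n) h1

/-- The order of the centre of `N_S(E)`. -/
theorem card_center_N {E : Subgroup Ω} (hES : E ≤ S) (hEc : Nat.card E = p ^ 3)
    (hcomm : ∀ a b : E, a * b = b * a) (hN : Nat.card (normalizerIn S E) = p ^ 4)
    (hNN : normalizerIn S (normalizerIn S E) = S) (hNA : ¬ ∀ a b : normalizerIn S E, a * b = b * a)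
    (hcard : Nat.card S = p ^ 5) :
    Nat.card (Subgroup.center (normalizerIn S E)) = p ^ 2 := by
  set N := normalizerIn S E with hNdef
  have hNS : N ≤ S := normalizerIn_le S E
  have hEN : E ≤ N := le_normalizerIn hES
  have hfN : Finite N := finite_of_le hNS
  have hfE : Finite E := finite_of_le hES
  have hNp : IsPGroup p N := IsPGroup.of_card hN
  obtain ⟨j, hj, hj1, hj2, -⟩ := center_cases (p := p) hNp hNA hN
  have hj' : j = 1 ∨ j = 2 := by omega
  rcases hj' with rfl | rfl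
  swap
  · exact hj
  exfalso
  -- an element outside
  obtain ⟨s, hs, hsN⟩ : ∃ s ∈ S, s ∉ N := by
    by_contra hne
    push Not at hne
    have h1 := Subgroup.card_le_of_le (show S ≤ N from hne)
    rw [hcard, hN] at h1
    exact absurd h1 (not_le.2 (Nat.pow_lt_pow_right hp.out.one_lt (by norm_num)))
  have hsNN : s ∈ normalizerIn S N := by rw [hNN]; exact hs
  set Es := E.map (MulAut.conj s).toMonoidHom with hEs
  have hEsc : Nat.card Es = p ^ 3 := by
    rw [hEs, Subgroup.card_map_of_injective (MulAut.conj s).injective, hEc]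
  have hEsN : Es ≤ N := by
    rintro _ ⟨x, hx, rfl⟩
    exact (Subgroup.mem_normalizer_iff.1 hsNN.2 x).1 (hEN hx)
  have hEsE : ¬ Es ≤ E := by
    intro h
    apply hsN
    apply normalizerIn_of_conj hES hs
    intro x hx
    exact h ⟨x, hx, rfl⟩
  have hK : E ⊔ Es = N := by
    have hle : E ⊔ Es ≤ N := sup_le hEN hEsN
    have h1 := Subgroup.relIndex_mul_relIndex E (E ⊔ Es) N le_sup_left hle
    rw [relIndex_of_cards hEN hEc hN] at h1
    rcases (Nat.dvd_prime hp.out).1 (Dvd.intro_left _ h1) with h | h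
    · exact le_antisymm hle (Subgroup.relIndex_eq_one.1 h)
    · exfalso
      rw [h] at h1
      have h2 : E.relIndex (E ⊔ Es) = 1 := Nat.eq_of_mul_eq_mul_right hp.out.pos (by rw [h1, one_mul])
      exact hEsE (le_sup_right.trans (Subgroup.relIndex_eq_one.1 h2))
  have hI : E ⊓ Es ≤ (Subgroup.center N).map N.subtype := by
    rintro v ⟨hv, hv'⟩
    refine ⟨⟨v, hEN hv⟩, ?_, rfl⟩
    refine Subgroup.mem_center_iff.2 fun n => ?_
    have h1 : N ≤ Subgroup.centralizer {v} := by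
      rw [← hK]
      refine sup_le ?_ ?_
      · intro x hx
        exact Subgroup.mem_centralizer_singleton_iff.2 (congrArg Subtype.val (hcomm ⟨x, hx⟩ ⟨v, hv⟩))
      · rintro _ ⟨x, hx, rfl⟩
        obtain ⟨w, hw, rfl⟩ := hv'
        refine Subgroup.mem_centralizer_singleton_iff.2 ?_
        have h2 : x * w = w * x := congrArg Subtype.val (hcomm ⟨x, hx⟩ ⟨w, hw⟩)
        rw [← map_mul, h2, map_mul]
    exact Subtype.ext (Subgroup.mem_centralizer_singleton_iff.1 (h1 n.2))
  have hIc : p ^ 2 ≤ Nat.card (E ⊓ Es : Subgroup Ω) := by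
    have hfI : Finite (E ⊓ Es : Subgroup Ω) := finite_of_le (inf_le_left.trans hES)
    have h1 : Es.relIndex E ≤ p := by
      have h2 := Subgroup.relIndex_le_of_le_right (H := Es) hEN (by
        rw [relIndex_of_cards hEsN hEsc hN]; exact hp.out.ne_zero)
      rwa [relIndex_of_cards hEsN hEsc hN] at h2
    have h2 := Subgroup.card_mul_index (Es.subgroupOf E)
    have h3 : Nat.card (Es.subgroupOf E) = Nat.card (E ⊓ Es : Subgroup Ω) := by
      rw [← Subgroup.inf_subgroupOf_left, Nat.card_congr (Subgroup.subgroupOfEquivOfLe inf_le_left).toEquiv]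
    rw [h3, hEc] at h2
    have h4 : (Es.subgroupOf E).index ≤ p := h1
    have h5 : p ^ 3 ≤ Nat.card (E ⊓ Es : Subgroup Ω) * p := by
      rw [← h2]; exact Nat.mul_le_mul_left _ h4
    rw [pow_succ p 2] at h5
    exact Nat.le_of_mul_le_mul_right h5 hp.out.pos
  have hfC : Finite ((Subgroup.center N).map N.subtype) := finite_of_le ((Subgroup.map_subtype_le _).trans hNS)
  have h1 := hIc.trans (Subgroup.card_le_of_le hI)
  rw [Subgroup.card_map_of_injective N.subtype_injective, hj] at h1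
  exact absurd h1 (not_le.2 (Nat.pow_lt_pow_right hp.out.one_lt (by norm_num)))

theorem caseA_false (hS : IsPGroup p S) {F : FusionSystem S} (hF : F.IsSaturated p) (hp2 : p ≠ 2)
    (hcard : Nat.card S = p ^ 5)
    (hNA : ∀ A : Subgroup Ω, A ≤ S → (∀ x ∈ A, ∀ y ∈ A, x * y = y * x) → Nat.card A ≠ p ^ 4)
    (hhyp : F.hyperfocalSubgroup p = S) {E : Subgroup Ω} (hE : F.IsEssential p E) (hEc : Nat.card E = p ^ 3)
    (hcomm : ∀ a b : E, a * b = b * a) (hel : ∀ a : E, a ^ p = 1) : False := by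
  have hES := hE.1.1
  have hfE : Finite E := finite_of_le hES
  have hC := centralizerIn_le_of_essential hE
  have hCE : centralizerIn S E = E := by
    apply le_antisymm hC
    intro x hx
    refine mem_centralizerIn.2 ⟨hES hx, fun y hy => ?_⟩
    exact congrArg Subtype.val (hcomm ⟨y, hy⟩ ⟨x, hx⟩)
  have hcAut := card_autInducedBy_mul S E
  rw [hCE, hEc] at hcAut
  set N := normalizerIn S E with hN
  have hNS : N ≤ S := normalizerIn_le S E
  have hEN : E ≤ N := le_normalizerIn hES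
  have hfN : Finite N := finite_of_le hNS
  have hElt : E < N := H86.FusCentric.lt_inf_normalizer hS (lt_of_essential hS hF hE)
  have hNd : Nat.card N ∣ p ^ 5 := hcard ▸ Subgroup.card_dvd_of_le hNS
  obtain ⟨k, hk, hk'⟩ := (Nat.dvd_prime_pow hp.out).1 hNd
  have hk3 : 3 < k := by
    have h3 : Nat.card E < Nat.card N := by
      refine lt_of_le_of_ne (Subgroup.card_le_of_le hElt.le) fun h => ?_
      exact hElt.ne (Subgroup.eq_of_le_of_card_ge hElt.le h.ge)
    rw [hEc, hk'] at h3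
    exact (Nat.pow_lt_pow_iff_right hp.out.one_lt).1 h3
  have hk45 : k = 4 ∨ k = 5 := by omega
  rcases hk45 with rfl | rfl
  swap
  · -- `E` normal in `S`
    obtain ⟨α, hα, hsep⟩ := exists_sep hS hF hE
    rw [inn_eq_bot hcomm] at hsep
    refine no_A1 hEc hcomm (sylIn_aut hS hF hE.2.1) ?_ hα (fun β hβ h => Subgroup.mem_bot.1 (hsep β hβ h))
    rw [hk', show p ^ 5 = p ^ 2 * p ^ 3 by rw [← pow_add]] at hcAut
    exact Nat.eq_of_mul_eq_mul_right (pow_pos hp.out.pos 3) hcAut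
  obtain ⟨hNfn, hNN⟩ := fn_of_index (F := F) hS hNS (index_of_card hNS hk' hcard)
  have hNnab : ¬ ∀ a b : N, a * b = b * a := fun h =>
    hNA N hNS (fun x hx y hy => congrArg Subtype.val (h ⟨x, hx⟩ ⟨y, hy⟩)) hk'
  have hcen : Nat.card (Subgroup.center N) = p ^ 2 := card_center_N hES hEc hcomm hk' hNN hNnab hcard
  have hNp : IsPGroup p N := hS.to_le hNS
  have hceni : (Subgroup.center N).index = p ^ 2 := by
    have h1 := Subgroup.card_mul_index (Subgroup.center N)
    rw [hcen, hk', show p ^ 4 = p ^ 2 * p ^ 2 by rw [← pow_add]] at h1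
    exact Nat.eq_of_mul_eq_mul_left (pow_pos hp.out.pos 2) h1
  obtain ⟨hVZ, -, hcc⟩ := index_sq (p := p) hNp hceni
  set Y := (Subgroup.center N).map N.subtype with hY
  have hYc : Nat.card Y = p ^ 2 := by rw [hY, Subgroup.card_map_of_injective N.subtype_injective, hcen]
  have hYN : Y ≤ N := Subgroup.map_subtype_le _
  have hYE : Y ≤ E := by
    rintro _ ⟨z, hz, rfl⟩
    apply hC
    refine mem_centralizerIn.2 ⟨hNS z.2, fun y hy => ?_⟩
    exact congrArg Subtype.val (Subgroup.mem_center_iff.1 hz ⟨y, hEN hy⟩)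
  have hYcomm : ∀ y ∈ Y, ∀ n ∈ N, y * n = n * y := by
    rintro _ ⟨z, hz, rfl⟩ n hn
    exact (congrArg Subtype.val (Subgroup.mem_center_iff.1 hz ⟨n, hn⟩)).symm
  have hY0 : Y.subgroupOf N = Subgroup.center N := by
    rw [hY, Subgroup.subgroupOf, Subgroup.comap_map_eq_self_of_injective N.subtype_injective]
  obtain ⟨hAutc, D, hD, hDU, hDπ⟩ := plane_of_essential hS hF hE hcomm (Y.subgroupOf E) (by
      intro v hv g hg hgN
      have h1 := hYcomm v hv g ⟨hg, hgN⟩
      rw [← h1, mul_inv_cancel_right]) (index_of_card hYE hYc hEc)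
  have hNlt : N < S := by
    refine lt_of_le_of_ne hNS fun h => ?_
    rw [h, hcard] at hk'
    exact absurd ((Nat.pow_right_injective hp.out.two_le) hk') (by norm_num)
  have hYinv : ∀ β : MulAut N, ∀ x : N, (x : Ω) ∈ Y → ((β x : N) : Ω) ∈ Y := by
    intro β x hx
    have h1 : x ∈ Y.subgroupOf N := hx
    rw [hY0] at h1
    have h2 := Ch.center β x h1
    rw [← hY0] at h2
    exact h2
  obtain ⟨U, hUi, hRU, hrelRU, hUA⟩ := flag hS (F := F) hE.2.1 hN.symm hNlt hYE
    (index_of_card hYE hYc hEc) (index_of_card hEN hEc hk') (fun α _ => hYinv α)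
  rw [hY0] at hRU hrelRU
  -- extension of the torus
  have hext : ∀ l : (ZMod p)ˣ, ∃ κ ∈ F.autGroup S, (∀ x : E, ((κ ⟨x, hES x.2⟩ : S) : Ω) = D.rho (tor2 l) x) ∧
      ∀ (x : Ω) (hx : x ∈ N), ((κ ⟨x, hNS hx⟩ : S) : Ω) ∈ N := by
    intro l
    obtain ⟨γ1, hγ1, hγ1x⟩ : ∃ γ ∈ F.autGroup N, ∀ x : E, ((γ ⟨x, hEN x.2⟩ : N) : Ω) = D.rho (tor2 l) x :=
      extend_aut (receptive_of_fullyNormalized hS hF hE.2.1) (hD (tor2 l)) (tor2_normalizes D hDU l)
    have hdinv : ∀ i ≤ 4, ∀ β ∈ F.autGroup N, ∀ x ∈ chain4 (_root_.commutator N) (Subgroup.center N) U i,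
        β x ∈ chain4 (_root_.commutator N) (Subgroup.center N) U i := by
      intro i hi β hβ x hx
      match i, hi with
      | 0, _ =>
        have h1 : x = 1 := hx
        rw [h1, map_one]; exact one_mem _
      | 1, _ => exact Ch.commutator β x hx
      | 2, _ => exact Ch.center β x hx
      | 3, _ => exact hUA β hβ x hx
      | 4, _ => exact Subgroup.mem_top _
    obtain ⟨γ2, hγ2, hγ2x⟩ := extend_ch hS hF hNfn (chain4 (_root_.commutator N) (Subgroup.center N) U) 4
      (chain4_mono hVZ hRU) rfl rfl (fun i hi β hβ => hdinv i hi β (autInducedBy_le_autGroup F hNS hβ)) (by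
        intro i hi
        match i, hi with
        | 0, _ =>
          left
          show (⊥ : Subgroup N).relIndex (_root_.commutator N) = p
          rw [Subgroup.relIndex_bot_left, hcc]
        | 1, _ =>
          left
          show (_root_.commutator N).relIndex (Subgroup.center N) = p
          exact relIndex_of_cards hVZ (by rw [hcc, pow_one]) hcen
        | 2, _ => left; exact hrelRU
        | 3, _ =>
          left
          show U.relIndex ⊤ = p
          rw [Subgroup.relIndex_top_right, hUi]) hγ1 (fun i hi => hdinv i hi γ1 hγ1)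
    obtain ⟨κ, hκ, hκx⟩ := cast_aut hNN hγ2
    refine ⟨κ, hκ, fun x => ?_, fun x hx => ?_⟩
    · rw [hκx x (le_normalizerIn hNS (hEN x.2))]
      have h1 := hγ2x ⟨x, hEN x.2⟩
      rw [h1, hγ1x]
    · rw [hκx x (le_normalizerIn hNS hx)]
      have h1 := hγ2x ⟨x, hx⟩
      rw [h1]
      exact (γ1 ⟨x, hx⟩).2
  -- subgroups of `S`
  let f : N →* S := Subgroup.inclusion hNS
  have hf : Function.Injective f := Subgroup.inclusion_injective hNS
  have hfc : ∀ n : N, ((f n : S) : Ω) = n := fun n => rfl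
  have hmem : ∀ (A : Subgroup N) (g : S), g ∈ A.map f ↔ ∃ h : (g : Ω) ∈ N, (⟨g, h⟩ : N) ∈ A := by
    intro A g
    constructor
    · rintro ⟨n, hn, rfl⟩
      exact ⟨n.2, hn⟩
    · rintro ⟨h, hA⟩
      exact ⟨⟨g, h⟩, hA, rfl⟩
  have hnorm : ∀ A : Subgroup N, (∀ α ∈ F.autGroup N, ∀ x ∈ A, α x ∈ A) → (A.map f).Normal := by
    intro A hA
    refine ⟨?_⟩
    rintro _ ⟨n, hn, rfl⟩ g
    have hg : (g : Ω) ∈ normalizerIn S N := by rw [hNN]; exact g.2
    refine ⟨conjAut N hg.2 n, hA _ (mem_autGroup_of_normalizer F hNS g.2 hg.2) n hn, ?_⟩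
    exact Subtype.ext rfl
  have hrel : ∀ A B : Subgroup N, (A.map f).relIndex (B.map f) = A.relIndex B := fun A B =>
    Subgroup.relIndex_map_map_of_injective A B hf
  -- the elements
  set x0 : E := D.ι (Multiplicative.ofAdd ![0, 1]) with hx0
  have hx0Y : (x0 : Ω) ∉ Y := by
    intro h
    have h1 := (hDπ x0).2 h
    rw [hx0, D.ret, toAdd_ofAdd] at h1
    simp at h1
  set x : S := ⟨x0, hES x0.2⟩ with hx
  have hEgen : ∀ v : E, ∃ m : ℕ, ∃ u : E, (u : Ω) ∈ Y ∧ v = x0 ^ m * u := by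
    intro v
    haveI := normal_of_comm hcomm (Y.subgroupOf E)
    have hYi : (Y.subgroupOf E).relIndex ⊤ = p := by
      rw [Subgroup.relIndex_top_right]; exact index_of_card hYE hYc hEc
    obtain ⟨m, u, hu, h⟩ := exists_wt (p := p) hYi (Subgroup.mem_top x0) hx0Y (Subgroup.mem_top v)
    exact ⟨m, u, hu, h⟩
  have hsE : ∀ s ∈ S, s ∉ N → s * x0 * s⁻¹ ∉ E := by
    intro s hs hsN h
    apply hsN
    apply normalizerIn_of_conj hES hs
    intro v hv
    obtain ⟨m, u, hu, hm⟩ := hEgen ⟨v, hv⟩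
    have h1 : v = (x0 : Ω) ^ m * u := congrArg Subtype.val hm
    have hsNN : s ∈ normalizerIn S N := by rw [hNN]; exact hs
    have h2 : s * (u : Ω) * s⁻¹ ∈ Y :=
      hYinv (conjAut N hsNN.2) ⟨u, hYN hu⟩ hu
    have h3 : s * v * s⁻¹ = (s * x0 * s⁻¹) ^ m * (s * u * s⁻¹) := by
      rw [h1, conj_pow]; group
    rw [h3]
    exact E.mul_mem (E.pow_mem h m) (hYE h2)
  -- an element of `N` outside `E`
  obtain ⟨n, hnN, hnE⟩ := SetLike.exists_of_lt hElt
  obtain ⟨t, ht⟩ := (hDU (conjAut E hnN.2)).1 (conjAut_mem_autInducedBy hnN.2 hnN.1)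
  have ht0 : t ≠ 0 := by
    rintro rfl
    apply hnE
    apply hC
    refine mem_centralizerIn.2 ⟨hnN.1, fun y hy => ?_⟩
    have h1 : conjAut E hnN.2 ⟨y, hy⟩ = ⟨y, hy⟩ := by
      rw [ht]
      have : (up (0 : ZMod p)) = 1 := by
        apply Matrix.SpecialLinearGroup.ext
        intro i j
        fin_cases i <;> fin_cases j <;> simp [up]
      rw [this, map_one, MulAut.one_apply]
    have h2 : n * y * n⁻¹ = y := congrArg Subtype.val h1
    rw [mul_inv_eq_iff_eq_mul] at h2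
    exact h2.symm
  -- the commutator subgroup of `N`
  have hcomline : ∀ z : N, z ∈ _root_.commutator N → ∃ a : ZMod p, (z : Ω) = D.ι (Multiplicative.ofAdd ![a, 0]) := by
    have h1 : (n * x0 * n⁻¹ * (x0 : Ω)⁻¹) = D.ι (Multiplicative.ofAdd ![t, 0]) := by
      have h2 : conjAut E hnN.2 x0 = x0 * D.ι (Multiplicative.ofAdd ![t, 0]) := by
        rw [ht, D.rho_apply]
        unfold Plane.act
        congr 3
        rw [hx0, D.ret, toAdd_ofAdd]
        ext i
        fin_cases i <;> simp [up, Matrix.mulVec, dotProduct, Fin.sum_univ_two]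
      have h3 : n * x0 * n⁻¹ = x0 * D.ι (Multiplicative.ofAdd ![t, 0]) := congrArg Subtype.val h2
      rw [h3]
      have h4 : (x0 : Ω) * D.ι (Multiplicative.ofAdd ![t, 0]) = D.ι (Multiplicative.ofAdd ![t, 0]) * x0 :=
        congrArg Subtype.val (hcomm _ _)
      rw [h4, mul_inv_cancel_right]
    set yt : N := ⁅(⟨n, hnN⟩ : N), ⟨x0, hEN x0.2⟩⁆ with hyt
    have hytc : yt ∈ _root_.commutator N := comm_mem _ _
    have hytv : (yt : Ω) = D.ι (Multiplicative.ofAdd ![t, 0]) := h1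
    have hyt1 : yt ≠ 1 := by
      intro h
      have h2 : ((D.ι (Multiplicative.ofAdd ![t, 0]) : E) : Ω) = 1 := by rw [← hytv, h]; rfl
      have h3 : D.ι (Multiplicative.ofAdd ![t, 0]) = 1 := Subtype.ext h2
      have h4 := congrFun (Multiplicative.ofAdd.injective (D.ι_injective (h3.trans (map_one D.ι).symm))) 0
      exact ht0 (by simpa using h4)
    intro z hz
    rw [← zpowers_eq_of_prime hcc hytc hyt1, ← mem_powers_iff_mem_zpowers] at hz
    obtain ⟨m, rfl⟩ := hz
    refine ⟨(m : ZMod p) * t, ?_⟩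
    have h5 : D.ι (Multiplicative.ofAdd ![(m : ZMod p) * t, 0]) = D.ι (Multiplicative.ofAdd ![t, 0]) ^ m := by
      rw [← map_pow, ← ofAdd_nsmul]
      congr 2
      ext i
      fin_cases i
      · show (m : ZMod p) * t = m • t
        rw [nsmul_eq_mul]
      · show (0 : ZMod p) = m • 0
        rw [smul_zero]
    rw [h5]
    show ((yt ^ m : N) : Ω) = _
    rw [Subgroup.coe_pow, hytv, Subgroup.coe_pow]
  -- the element `c`
  obtain ⟨c0, hc0, hc01⟩ : ∃ c : E, D.π c = 1 ∧ c ≠ 1 := by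
    by_contra hne
    push Not at hne
    have hinj : Function.Injective D.π := by
      rw [injective_iff_map_eq_one]
      intro a ha
      exact hne a ha
    have h1 := Nat.card_le_card_of_injective D.π hinj
    have h2 : Nat.card (Multiplicative (Fin 2 → ZMod p)) = p ^ 2 := by
      show Nat.card (Fin 2 → ZMod p) = _
      rw [Nat.card_fun, Nat.card_zmod, Nat.card_eq_fintype_card, Fintype.card_fin]
    rw [h2, hEc] at h1
    exact absurd h1 (not_le.2 (Nat.pow_lt_pow_right hp.out.one_lt (by norm_num)))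
  have hc0Y : (c0 : Ω) ∈ Y := by
    have : c0 ∈ Y.subgroupOf E := (hDπ c0).1 (by rw [hc0]; rfl)
    exact this
  set c : S := ⟨c0, hES c0.2⟩ with hc
  -- the structure
  have hxU : (⟨x0, hEN x0.2⟩ : N) ∉ U := by
    intro h
    obtain ⟨s, hs, hsN⟩ := SetLike.exists_of_lt hNlt
    have hle : E.subgroupOf N ≤ U := by
      intro v hv
      obtain ⟨m, u, hu, hm⟩ := hEgen ⟨v, hv⟩
      have h1' : (v : Ω) = (x0 : Ω) ^ m * u := congrArg Subtype.val hm
      have h1 : v = (⟨x0, hEN x0.2⟩ : N) ^ m * ⟨u, hYN hu⟩ := Subtype.ext h1'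
      rw [h1]
      refine U.mul_mem (U.pow_mem h m) (hRU ?_)
      rw [← hY0]; exact hu
    have hfU : Finite U := Subtype.finite
    have hUc : Nat.card U = p ^ 3 := by
      have h1 := Subgroup.card_mul_index U
      rw [hUi, hk', pow_succ p 3] at h1
      exact Nat.eq_of_mul_eq_mul_right hp.out.pos h1
    have heq : E.subgroupOf N = U := by
      apply Subgroup.eq_of_le_of_card_ge hle
      rw [hUc, Nat.card_congr (Subgroup.subgroupOfEquivOfLe hEN).toEquiv, hEc]
    have hsNN : s ∈ normalizerIn S N := by rw [hNN]; exact hs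
    have h2 := hUA _ (mem_autGroup_of_normalizer F hNS hs hsNN.2) _ h
    rw [← heq] at h2
    exact hsE s hs hsN h2
  have DA : A2 p ((⊤ : Subgroup N).map f) (U.map f) ((Subgroup.center N).map f) ((_root_.commutator N).map f) x := by
    refine ⟨hnorm _ fun _ _ _ _ => Subgroup.mem_top _, hnorm _ hUA, hnorm _ fun α _ => Ch.center α,
      hnorm _ fun α _ => Ch.commutator α, Subgroup.map_mono hVZ, Subgroup.map_mono hRU, Subgroup.map_mono le_top,
      ?_, ?_, ?_, ?_, ?_, ?_, ?_, ?_, ?_, ?_, ?_, ?_, hcard⟩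
    · rw [← Subgroup.relIndex_top_right]
      apply relIndex_of_cards le_top (n := 4)
      · rw [Subgroup.card_map_of_injective hf, Subgroup.card_top, hk']
      · rw [Subgroup.card_top, hcard]
    · rw [Subgroup.card_map_of_injective hf, hcc]
    · rw [hrel]; exact relIndex_of_cards hVZ (by rw [hcc, pow_one]) hcen
    · rw [hrel]; exact hrelRU
    · rw [hrel, Subgroup.relIndex_top_right, hUi]
    · rintro _ ⟨a, -, rfl⟩ _ ⟨b, -, rfl⟩
      exact ⟨⁅a, b⁆, comm_mem a b, rfl⟩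
    · rintro _ ⟨a, ha, rfl⟩ _ ⟨b, -, rfl⟩
      rw [← map_mul, ← map_mul, Subgroup.mem_center_iff.1 ha b]
    · rintro _ ⟨a, -, rfl⟩ h
      refine ⟨a, ?_, rfl⟩
      refine Subgroup.mem_center_iff.2 fun b => ?_
      have h1 := h (f b) ⟨b, Subgroup.mem_top b, rfl⟩
      rw [← map_mul, ← map_mul] at h1
      exact (hf h1).symm
    · exact ⟨⟨x0, hEN x0.2⟩, Subgroup.mem_top _, rfl⟩
    · intro h
      obtain ⟨h1, h2⟩ := (hmem U x).1 h
      exact hxU h2
    · intro s hs h
      obtain ⟨h1, h2⟩ := (hmem _ _).1 h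
      rw [← hY0] at h2
      have h3 : (x0 : Ω) * s * (x0 : Ω)⁻¹ * (s : Ω)⁻¹ ∈ Y := h2
      have hsN : (s : Ω) ∉ N := fun h4 => hs ((hmem _ _).2 ⟨h4, Subgroup.mem_top _⟩)
      apply hsE s s.2 hsN
      have h4 : (s : Ω) * x0 * (s : Ω)⁻¹ = ((x0 : Ω)⁻¹ * ((x0 : Ω) * s * (x0 : Ω)⁻¹ * (s : Ω)⁻¹))⁻¹ := by group
      rw [h4]
      exact E.inv_mem (E.mul_mem (E.inv_mem x0.2) (hYE h3))
    · intro A hA h
      refine hNA (A.map S.subtype) (Subgroup.map_subtype_le _) ?_ (by
        rw [Subgroup.card_map_of_injective S.subtype_injective, h])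
      rintro _ ⟨x, hx, rfl⟩ _ ⟨y, hy, rfl⟩
      exact congrArg Subtype.val (hA x hx y hy)
  obtain ⟨s, hs⟩ := DA.exists_s
  have hcY : c ∈ (Subgroup.center N).map f := by
    refine (hmem _ _).2 ⟨hYN hc0Y, ?_⟩
    rw [← hY0]; exact hc0Y
  have hcL : c ∉ (_root_.commutator N).map f := by
    intro h
    obtain ⟨h1, h2⟩ := (hmem _ _).1 h
    obtain ⟨a, ha⟩ := hcomline _ h2
    have h3 : c0 = D.ι (Multiplicative.ofAdd ![a, 0]) := Subtype.ext ha
    rw [h3, D.ret] at hc0
    apply hc01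
    rw [h3, hc0, map_one]
  have hfam : ∀ l : (ZMod p)ˣ, ∃ κ : MulAut S, ∃ a k : ℕ, (a : ZMod p) = l ∧ (k : ZMod p) = (l⁻¹ : (ZMod p)ˣ) ∧
      (∀ a ∈ (⊤ : Subgroup N).map f, κ a ∈ (⊤ : Subgroup N).map f) ∧ κ x = x ^ a ∧ κ c = c ∧
        ∀ z ∈ (_root_.commutator N).map f, κ z = z ^ k := by
    intro l
    obtain ⟨κ, hκ, hκx, hκN⟩ := hext l
    refine ⟨κ, (l : ZMod p).val, ((l⁻¹ : (ZMod p)ˣ) : ZMod p).val, ZMod.natCast_zmod_val _,
      ZMod.natCast_zmod_val _, ?_, ?_, ?_, ?_⟩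
    · intro a ha
      obtain ⟨h1, -⟩ := (hmem _ _).1 ha
      exact (hmem _ _).2 ⟨hκN a h1, Subgroup.mem_top _⟩
    · apply Subtype.ext
      have h1 := hκx x0
      rw [hx0, Plane.tor2_x, Subgroup.coe_pow] at h1
      rw [Subgroup.coe_pow]
      exact h1
    · apply Subtype.ext
      have h1 := hκx c0
      rw [D.rho_apply, D.act_fix _ hc0] at h1
      exact h1
    · intro z hz
      obtain ⟨h1, h2⟩ := (hmem _ _).1 hz
      obtain ⟨a, ha⟩ := hcomline _ h2
      have hzE : (z : Ω) ∈ E := by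
        have h3 : (z : Ω) = D.ι (Multiplicative.ofAdd ![a, 0]) := ha
        rw [h3]; exact (D.ι _).2
      have h3 : (⟨z, hzE⟩ : E) = D.ι (Multiplicative.ofAdd ![a, 0]) := Subtype.ext ha
      apply Subtype.ext
      have h4 := hκx ⟨z, hzE⟩
      rw [h3, Plane.tor2_y, ← h3, Subgroup.coe_pow] at h4
      rw [Subgroup.coe_pow]
      exact h4
  obtain ⟨hp3, hcs, hbs⟩ := DA.three hs hcY hcL hp2 hfam
  subst hp3
  obtain ⟨s', hs', hcs', hbs'⟩ := DA.adjust hs hcY hcs hbs
  have hx3 : x ^ 3 = 1 := by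
    have h9 : (x0 : Ω) ^ 3 = 1 := congrArg Subtype.val (hel x0)
    exact Subtype.ext h9
  have hc3 : c ^ 3 = 1 := by
    have h9 : (c0 : Ω) ^ 3 = 1 := congrArg Subtype.val (hel c0)
    exact Subtype.ext h9
  obtain ⟨hraw, T, hTn, hTcom, hTcube, hcT, hTκ⟩ := DA.final hx3 hs' hcY hcL hc3 hcs' hbs'
  haveI := hTn
  exact H88.P5Y.no_char hS hF hhyp (fun A _ hA => hraw A hA) T hTcom hTcube hcT (fun κ _ => hTκ κ)

end H88.P5
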