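import Cfsg.Agent.Lib.H57.Ess4

/-! Weights of automorphisms on commutators. -/

set_option autoImplicit false
open scoped commutatorElement
open Cfsg

namespace H88.P5

section
variable {Q : Type*} [Group Q]

theorem comm_pow_pow {a b c : Q} (hc : ⁅a, b⁆ = c) (hca : Commute c a) (hcb : Commute c b) (m n : ℕ) :
    a ^ m * b ^ n * (a ^ m)⁻¹ = c ^ (m * n) * b ^ n := by
  have h0 : a * b * a⁻¹ = c * b := by rw [← hc, commutatorElement_def]; group
  have h1 : ∀ n : ℕ, a * b ^ n * a⁻¹ = c ^ n * b ^ n := by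
    intro n
    rw [← hcb.mul_pow, ← h0, conj_pow]
  induction m with
  | zero => simp
  | succ m ih =>
    have h2 : a ^ (m + 1) * b ^ n * (a ^ (m + 1))⁻¹ = a * (a ^ m * b ^ n * (a ^ m)⁻¹) * a⁻¹ := by
      rw [pow_succ']; group
    rw [h2, ih]
    have h3 : a * (c ^ (m * n) * b ^ n) * a⁻¹ = c ^ (m * n) * (a * b ^ n * a⁻¹) := by
      have h4 := (hca.pow_left (m * n)).eq
      calc a * (c ^ (m * n) * b ^ n) * a⁻¹ = (a * c ^ (m * n)) * b ^ n * a⁻¹ := by group
        _ = (c ^ (m * n) * a) * b ^ n * a⁻¹ := by rw [h4]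
        _ = _ := by group
    rw [h3, h1, ← mul_assoc, ← pow_add]
    congr 2; ring

/-- Commutators of elements with prescribed weights. -/
theorem comm_wt {a b u v c : Q} (hc : ⁅a, b⁆ = c) (hca : Commute c a) (hcb : Commute c b)
    (hub : Commute u b) (huv : Commute u v) (hva : Commute v a) (m n : ℕ) :
    ⁅a ^ m * u, b ^ n * v⁆ = c ^ (m * n) := by
  have h1 : Commute u (b ^ n * v) := (hub.pow_right n).mul_right huv
  have h2 : u * (b ^ n * v) * u⁻¹ = b ^ n * v := by rw [h1.eq]; group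
  have h3 : a ^ m * v * (a ^ m)⁻¹ = v := by rw [← (hva.pow_right m).eq]; group
  rw [commutatorElement_def]
  calc a ^ m * u * (b ^ n * v) * (a ^ m * u)⁻¹ * (b ^ n * v)⁻¹
      = a ^ m * (u * (b ^ n * v) * u⁻¹) * (a ^ m)⁻¹ * (b ^ n * v)⁻¹ := by group
    _ = (a ^ m * b ^ n * (a ^ m)⁻¹) * (a ^ m * v * (a ^ m)⁻¹) * (b ^ n * v)⁻¹ := by rw [h2]; group
    _ = c ^ (m * n) := by rw [comm_pow_pow hc hca hcb, h3]; group

end

section
variable {G : Type*} [Group G]

/-- The commutator is in `N`. -/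
def cm (N : Subgroup G) (x y : G) : Prop := x * y * x⁻¹ * y⁻¹ ∈ N

theorem cm_iff (N : Subgroup G) [N.Normal] {x y : G} :
    cm N x y ↔ Commute (QuotientGroup.mk x : G ⧸ N) (QuotientGroup.mk y) := by
  unfold cm
  rw [← QuotientGroup.eq_one_iff, QuotientGroup.mk_mul, QuotientGroup.mk_mul, QuotientGroup.mk_mul,
    QuotientGroup.mk_inv, QuotientGroup.mk_inv]
  constructor
  · intro h
    show _ * _ = _ * _
    rw [mul_inv_eq_one, mul_inv_eq_iff_eq_mul] at h
    exact h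
  · intro h
    rw [mul_inv_eq_one, mul_inv_eq_iff_eq_mul]
    exact h

theorem cm_of_comm {N : Subgroup G} {x y : G} (h : x * y = y * x) : cm N x y := by
  unfold cm
  rw [h]
  have : y * x * x⁻¹ * y⁻¹ = 1 := by group
  rw [this]; exact one_mem _

/-- Weight of an automorphism on a commutator, modulo a normal subgroup. -/
theorem wt_mod (N : Subgroup G) [N.Normal] (κ : MulAut G) {a b c u v : G} {m n : ℕ}
    (hc : ⁅a, b⁆ = c) (ha : κ a = a ^ m * u) (hb : κ b = b ^ n * v) (hca : cm N c a) (hcb : cm N c b)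
    (hub : cm N u b) (huv : cm N u v) (hva : cm N v a) : (c ^ (m * n))⁻¹ * κ c ∈ N := by
  rw [← QuotientGroup.eq_one_iff]
  rw [cm_iff] at hca hcb hub huv hva
  have h1 := comm_wt (Q := G ⧸ N) (a := QuotientGroup.mk a) (b := QuotientGroup.mk b)
    (c := QuotientGroup.mk c) (by rw [← hc]; rfl) hca hcb hub huv hva m n
  have h2 : κ c = ⁅a ^ m * u, b ^ n * v⁆ := by
    rw [← hc, commutatorElement_def, map_mul, map_mul, map_mul, map_inv, map_inv, ha, hb]; rfl
  rw [h2, QuotientGroup.mk_mul]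
  have h3 : (QuotientGroup.mk ⁅a ^ m * u, b ^ n * v⁆ : G ⧸ N) = (QuotientGroup.mk c) ^ (m * n) := h1
  rw [h3]
  exact inv_mul_cancel ((QuotientGroup.mk c : G ⧸ N) ^ (m * n))

/-- Elements of an extension of degree `p`. -/
theorem exists_wt {p : ℕ} [hp : Fact p.Prime] {A D : Subgroup G} [D.Normal]
    (hi : D.relIndex A = p) {a x : G} (ha : a ∈ A) (haD : a ∉ D) (hx : x ∈ A) :
    ∃ m : ℕ, ∃ u ∈ D, x = a ^ m * u := by
  have h1 : (D.relIndex A) = Nat.card (A.map (QuotientGroup.mk' D)) := by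
    have h2 := Subgroup.relIndex_ker A (QuotientGroup.mk' D)
    rwa [QuotientGroup.ker_mk'] at h2
  have hc : Nat.card (A.map (QuotientGroup.mk' D)) = p := by rw [← h1, hi]
  have hfin : Finite (A.map (QuotientGroup.mk' D)) := Nat.finite_of_card_ne_zero (by rw [hc]; exact hp.out.ne_zero)
  let a' : A.map (QuotientGroup.mk' D) := ⟨QuotientGroup.mk' D a, a, ha, rfl⟩
  let x' : A.map (QuotientGroup.mk' D) := ⟨QuotientGroup.mk' D x, x, hx, rfl⟩
  have h3 : a' ≠ 1 := by
    intro h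
    apply haD
    rw [← QuotientGroup.eq_one_iff]
    exact congrArg Subtype.val h
  have h4 := mem_zpowers_of_prime_card hc h3 (g' := x')
  rw [← mem_powers_iff_mem_zpowers] at h4
  obtain ⟨m, hm⟩ := h4
  have h5 : (QuotientGroup.mk (a ^ m) : G ⧸ D) = QuotientGroup.mk x := congrArg Subtype.val hm
  exact ⟨m, (a ^ m)⁻¹ * x, QuotientGroup.eq.1 h5, by group⟩

/-- Comparison of weights. -/
theorem wt_eq {p : ℕ} [hp : Fact p.Prime] (N : Subgroup G) [N.Normal] {c y : G} {m n : ℕ} (hcN : c ∉ N)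
    (hcp : c ^ p ∈ N) (hm : (c ^ m)⁻¹ * y ∈ N) (hn : (c ^ n)⁻¹ * y ∈ N) : (m : ZMod p) = n := by
  have h1 : (QuotientGroup.mk c : G ⧸ N) ^ m = QuotientGroup.mk y := QuotientGroup.eq.2 hm
  have h2 : (QuotientGroup.mk c : G ⧸ N) ^ n = QuotientGroup.mk y := QuotientGroup.eq.2 hn
  have h3 : orderOf (QuotientGroup.mk c : G ⧸ N) = p := by
    apply orderOf_eq_prime
    · exact (QuotientGroup.eq_one_iff _).2 hcp
    · intro h
      exact hcN ((QuotientGroup.eq_one_iff _).1 h)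
  have h4 := h1.trans h2.symm
  rw [pow_inj_mod, h3] at h4
  rw [ZMod.natCast_eq_natCast_iff]
  exact h4

end

end H88.P5
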