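import Cfsg.Agent.Lib.H88.YoshF
import Cfsg.Agent.Lib.H89.KSat3
import Cfsg.Agent.Lib.H57.Ess4

/-! Yoshida's argument with the raw hypothesis. -/

set_option autoImplicit false
open Cfsg Cfsg.FusionSystem Subgroup
open H86.FusBasic H86.FusSat H88.TransferDatum H88.FocTr H88.Yoshida

namespace H88.P5Y

universe v

/-- Every product over a coset transversal of conjugates vanishes. -/
def Raw (p : ℕ) (G : Type*) [Group G] (A : Type*) [CommGroup A] : Prop :=
  ∀ H : Subgroup G, H.Normal → H.index = p → ∀ μ : G → A, (∀ x ∈ H, ∀ y ∈ H, μ (x * y) = μ x * μ y) →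
    ∀ g : G, g ∉ H → ∀ u ∈ H, ∏ j ∈ Finset.range p, μ ((g ^ j)⁻¹ * u * g ^ j) = 1

section
variable {G : Type*} [Group G] [Finite G] {p : ℕ} [Fact p.Prime]
variable {I : Type*} [MulAction G I] [Fintype I] [DecidableEq I] {A : Type*} [CommGroup A]

/-- The product over a nontrivial orbit. -/
theorem orbit_one (hG : IsPGroup p G) (hA : ∀ a : A, a ^ p = 1) (F : G → I → A)
    (hF : ∀ a b i, F (a * b) i = F a (b • i) * F b i) (hW : Raw p G A) (u : G)
    (hst : ∀ z ∈ Subgroup.zpowers (u ^ p), ∀ i, z • i = i → F z i = 1) {i₀ : I} (hi : ∃ x : G, x • i₀ ≠ i₀) :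
    ∏ i ∈ blk (⊤ : Subgroup G) i₀, F u i = 1 := by
  obtain ⟨x₀, hx₀⟩ := hi
  have hne : MulAction.stabilizer G i₀ ≠ ⊤ := by
    intro h
    exact hx₀ (MulAction.mem_stabilizer_iff.1 (h ▸ Subgroup.mem_top x₀))
  obtain ⟨H, hHc, hHle⟩ := (eq_top_or_exists_le_coatom (MulAction.stabilizer G i₀)).resolve_left hne
  have hHn : H.Normal := H3.PBasic.normal_of_coatom hG hHc
  have hHi : H.index = p := H3.PBasic.index_of_coatom hG hHc
  have hst' : ∀ x : G, x • i₀ = i₀ → x ∈ H := fun x hx => hHle (MulAction.mem_stabilizer_iff.2 hx)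
  by_cases hu : u ∈ H
  · obtain ⟨g, hg⟩ : ∃ g, g ∉ H := by
      by_contra hcon
      push Not at hcon
      exact hHc.1 (eq_top_iff.2 fun x _ => hcon x)
    let μ : G → A := fun h => ∏ i ∈ blk H i₀, F h i
    have hμ : ∀ x ∈ H, ∀ y ∈ H, μ (x * y) = μ x * μ y := by
      intro x _ y hy
      show ∏ i ∈ blk H i₀, F (x * y) i = _
      rw [Finset.prod_congr rfl fun i _ => hF x y i, Finset.prod_mul_distrib, blk_perm hy (fun i => F x i)]
    have hraw := hW H hHn hHi μ hμ g hg u hu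
    have h1 : ∀ j, μ ((g ^ j)⁻¹ * u * g ^ j) = ∏ i ∈ blk H i₀, F u (g ^ j • i) := by
      intro j
      have hu' : (g ^ j)⁻¹ * u * g ^ j ∈ H := by
        have := hHn.conj_mem u hu (g ^ j)⁻¹
        rwa [inv_inv] at this
      have h2 : ∀ i, F u (g ^ j • i) =
          (F (g ^ j) (((g ^ j)⁻¹ * u * g ^ j) • i) * F ((g ^ j)⁻¹ * u * g ^ j) i) * (F (g ^ j) i)⁻¹ := by
        intro i
        rw [eq_mul_inv_iff_mul_eq, ← hF, ← hF]
        congr 1
        group
      rw [Finset.prod_congr rfl fun i _ => h2 i, Finset.prod_mul_distrib, Finset.prod_mul_distrib,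
        blk_perm hu' (fun i => F (g ^ j) i), Finset.prod_inv_distrib, mul_comm (∏ i ∈ blk H i₀, F (g ^ j) i),
        mul_inv_cancel_right]
    rw [Finset.prod_congr rfl fun j _ => h1 j, ← blk_decomp hHi hst' hg (fun i => F u i)] at hraw
    exact hraw
  · rw [blk_decomp hHi hst' hu, Finset.prod_comm]
    have h1 : F 1 = fun _ => 1 := by
      funext i
      have h := hF 1 1 i
      rw [one_mul, one_smul] at h
      exact left_eq_mul.1 h
    have h2 : ∀ (n : ℕ) (i : I), ∏ j ∈ Finset.range n, F u (u ^ j • i) = F (u ^ n) i := by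
      intro n i
      induction n with
      | zero => rw [pow_zero, h1]; rfl
      | succ n ih => rw [Finset.prod_range_succ, ih, pow_succ', hF, mul_comm]
    rw [Finset.prod_congr rfl fun i _ => h2 p i]
    obtain ⟨w, hw⟩ := H87.TrIdx.gauge (X := Subgroup.zpowers (u ^ p)) (1 : _ →* A) (fun z i => F (z : G) i)
      (fun a b i => hF a b i) (fun i a ha => hst a a.2 i ha)
    have h3 : ∀ i, F (u ^ p) i = w (u ^ p • i) * (w i)⁻¹ := by
      intro i
      have h4 := hw ⟨u ^ p, Subgroup.mem_zpowers _⟩ i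
      rw [MonoidHom.one_apply, one_mul] at h4
      exact h4
    have hup : u ^ p ∈ H := by
      have h4 : ((u : G ⧸ H)) ^ p = 1 := by rw [← hHi]; exact pow_card_eq_one'
      exact (QuotientGroup.eq_one_iff _).1 h4
    rw [Finset.prod_congr rfl fun i _ => h3 i, Finset.prod_mul_distrib, blk_perm hup (fun i => w i),
      Finset.prod_inv_distrib, mul_inv_cancel]

/-- Yoshida: only the fixed points contribute to the transfer. -/
theorem prod_eq (hG : IsPGroup p G) (hA : ∀ a : A, a ^ p = 1) (F : G → I → A)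
    (hF : ∀ a b i, F (a * b) i = F a (b • i) * F b i) (hW : Raw p G A) (u : G)
    (hst : ∀ z ∈ Subgroup.zpowers (u ^ p), ∀ i, z • i = i → F z i = 1) {a : A}
    (hfix : ∀ i, (∀ g : G, g • i = i) → F u i = a) : ∏ i, F u i = a ^ Nat.card I := by
  classical
  let q : I → MulAction.orbitRel.Quotient G I := Quotient.mk _
  have : Fintype (MulAction.orbitRel.Quotient G I) := Fintype.ofFinite _
  have h1 : ∏ i, F u i = ∏ i, if (∀ g : G, g • i = i) then F u i else 1 := by
    rw [← Finset.prod_fiberwise Finset.univ q, ← Finset.prod_fiberwise Finset.univ q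
      (fun i => if (∀ g : G, g • i = i) then F u i else 1)]
    refine Finset.prod_congr rfl fun c _ => ?_
    obtain ⟨i₀, rfl⟩ := Quotient.exists_rep c
    have h2 : (Finset.univ.filter fun i => q i = Quotient.mk _ i₀) = blk (⊤ : Subgroup G) i₀ := by
      ext i
      rw [Finset.mem_filter, mem_blk]
      constructor
      · rintro ⟨-, h⟩
        have h3 : i ∈ MulAction.orbit G i₀ := Quotient.exact h
        obtain ⟨g, hg⟩ := h3
        exact ⟨g, Subgroup.mem_top _, hg⟩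
      · rintro ⟨g, -, rfl⟩
        exact ⟨Finset.mem_univ _, Quotient.sound ⟨g, rfl⟩⟩
    rw [h2]
    by_cases h3 : ∀ g : G, g • i₀ = i₀
    · refine Finset.prod_congr rfl fun i hi => ?_
      obtain ⟨g, -, rfl⟩ := mem_blk.1 hi
      rw [h3 g, if_pos h3]
    · push Not at h3
      rw [orbit_one hG hA F hF hW u hst h3, Finset.prod_eq_one]
      intro i hi
      obtain ⟨g, -, rfl⟩ := mem_blk.1 hi
      rw [if_neg]
      intro hcon
      obtain ⟨x, hx⟩ := h3
      have h4 := hcon (g * x * g⁻¹)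
      rw [mul_smul, inv_smul_smul, mul_smul] at h4
      exact hx (smul_left_cancel g h4)
  rw [h1, Finset.prod_ite, Finset.prod_const_one, mul_one,
    Finset.prod_congr rfl fun i hi => hfix i (Finset.mem_filter.1 hi).2, Finset.prod_const]
  have h2 := hG.card_modEq_card_fixedPoints I
  have h3 : Nat.card (MulAction.fixedPoints G I) = (Finset.univ.filter fun i : I => ∀ g : G, g • i = i).card := by
    rw [Nat.card_eq_fintype_card, ← Fintype.card_subtype]
    rfl
  rw [← h3, pow_eq_pow_iff_modEq]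
  exact h2.symm.of_dvd (orderOf_dvd_of_pow_eq_one (hA a))

end

section
variable {Ω : Type v} [Group Ω] {S : Subgroup Ω} {p : ℕ}

theorem foc_eq [Finite S] [Fact p.Prime] (hS : IsPGroup p S) {F N : FusionSystem S} (hF : F.IsSaturated p)
    (hN : N.IsSaturated p) (hNF : N.IsSubsystemOf F) (hNS : ∀ φ ∈ F.Hom S, φ ∈ N.Hom S)
    (hW : ∀ (A : Type v) [CommGroup A], (∀ a : A, a ^ p = 1) → Raw p S A) : N.focalSubgroup = F.focalSubgroup := by
  classical
  by_contra hne
  have hp : p.Prime := Fact.out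
  let T : Subgroup S := frattini ↥S ⊔ N.focalSubgroup.subgroupOf S
  have hcT : commutator S ≤ T := (H3.PBasic.commutator_le_frattini hS).trans le_sup_left
  have hTn : T.Normal := by
    refine ⟨fun x hx g => ?_⟩
    have h1 : g * x * g⁻¹ = (g * x * g⁻¹ * x⁻¹) * x := by group
    rw [h1, ← commutatorElement_def]
    exact T.mul_mem (hcT (Subgroup.commutator_mem_commutator (Subgroup.mem_top _) (Subgroup.mem_top _))) hx
  obtain ⟨A, _, χ, hA, hχ⟩ := H88.YoshF.exists_char p T hcT (fun x => Subgroup.mem_sup_left (H3.PBasic.pow_mem_frattini hS x))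
  have hNfoc : ∀ x : S, (x : Ω) ∈ N.focalSubgroup → χ x = 1 := fun x hx =>
    (hχ x).2 (Subgroup.mem_sup_right (Subgroup.mem_subgroupOf.2 hx))
  -- a focal element outside
  have hex : ∃ n : ℕ, ∃ x : S, (x : Ω) ∈ F.focalSubgroup ∧ χ x ≠ 1 ∧ orderOf x = n := by
    by_contra hcon
    push Not at hcon
    apply hne
    symm
    apply (Cfsg.Agent.S5224.result p hS F hF N hN hNF).1.1
    apply le_antisymm
    · refine sup_le le_sup_left fun x hx => ?_
      have hxS := H88.Focal.foc_le F hx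
      have h1 : χ ⟨x, hxS⟩ = 1 := by
        by_contra h2
        exact hcon _ ⟨x, hxS⟩ hx h2 rfl
      have h2 := (hχ _).1 h1
      have h3 : T.map S.subtype ≤ (frattini ↥S).map S.subtype ⊔ N.focalSubgroup := by
        rw [Subgroup.map_sup]
        exact sup_le_sup le_rfl (by
          rintro _ ⟨y, hy, rfl⟩
          exact hy)
      exact h3 ⟨_, h2, rfl⟩
    · refine sup_le_sup le_rfl ?_
      unfold FusionSystem.focalSubgroup
      rw [Subgroup.closure_le]
      rintro _ ⟨P, φ, y, hφ, rfl⟩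
      exact H88.Focal.mem_foc (hNF P hφ) y
  obtain ⟨u, hu, hu1, hun⟩ := Nat.find_spec hex
  have hmin : ∀ x : S, (x : Ω) ∈ F.focalSubgroup → orderOf x < orderOf u → χ x = 1 := by
    intro x hx hlt
    by_contra hcon
    rw [hun] at hlt
    exact Nat.find_min hex hlt ⟨x, hx, hcon, rfl⟩
  obtain ⟨I, _, ⟨D⟩⟩ := exists_datum hS hF
  have : Finite I := D.finite
  have : Fintype I := Fintype.ofFinite I
  have h1 := tr_foc D χ hu
  rw [tr_apply, prod_eq hS hA (fun a i => χ (D.c a i)) (fun a b i => by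
      show χ (D.c (a * b) i) = _
      rw [D.cocycle, map_mul]) (hW A hA) u ?_ (a := χ u) ?_] at h1
  · have h2 : orderOf (χ u) ∣ p := orderOf_dvd_of_pow_eq_one (hA _)
    have h3 : orderOf (χ u) ∣ Nat.card I := orderOf_dvd_of_pow_eq_one h1
    have h4 : Nat.Coprime p (Nat.card I) := (hp.coprime_iff_not_dvd).2 D.coprime
    exact hu1 (orderOf_eq_one_iff.1 (Nat.Coprime.eq_one_of_dvd (h4.coprime_dvd_left h2) h3))
  · intro z hz i hzi
    obtain ⟨P, φ, hφ, hP, hx⟩ := D.mem_of_fix i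
    have hzP := (hP z).1 hzi
    have h2 := hx z hzP
    have hzu : z ∈ Subgroup.zpowers u := by
      have h3 : Subgroup.zpowers (u ^ p) ≤ Subgroup.zpowers u :=
        Subgroup.zpowers_le.2 (Subgroup.pow_mem _ (Subgroup.mem_zpowers u) p)
      exact h3 hz
    have hzF : (z : Ω) ∈ F.focalSubgroup := by
      have h3 : Subgroup.zpowers u ≤ F.focalSubgroup.subgroupOf S := Subgroup.zpowers_le.2 (Subgroup.mem_subgroupOf.2 hu)
      exact Subgroup.mem_subgroupOf.1 (h3 hzu)
    show χ (D.c z i) = 1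
    apply hmin
    · rw [← h2]
      have h3 := H88.Focal.mem_foc hφ ⟨z, hzP⟩
      have h4 := F.focalSubgroup.mul_mem hzF h3
      have h5 : (z : Ω) * ((⟨z, hzP⟩ : P) : Ω)⁻¹ * φ ⟨z, hzP⟩ = φ ⟨z, hzP⟩ := by group
      rw [← mul_assoc] at h4
      rw [← h5]
      exact h4
    · have h3 : orderOf (D.c z i) = orderOf z := by
        rw [← Subgroup.orderOf_coe, ← h2, orderOf_injective φ (F.injective_of_mem hφ), ← Subgroup.orderOf_coe,
          ← Subgroup.orderOf_coe z]
      rw [h3]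
      have hu0 : u ≠ 1 := by
        rintro rfl
        exact hu1 (map_one _)
      have h5 : p ∣ orderOf u := by
        obtain ⟨k, hk⟩ := (IsPGroup.iff_orderOf.1 hS) u
        rw [hk]
        apply dvd_pow_self
        rintro rfl
        rw [pow_zero] at hk
        exact hu0 (orderOf_eq_one_iff.1 hk)
      have h4 : orderOf z ∣ orderOf (u ^ p) := orderOf_dvd_of_mem_zpowers hz
      have h6 : orderOf (u ^ p) = orderOf u / p := orderOf_pow_of_dvd hp.ne_zero h5
      have hpos : 0 < orderOf u := orderOf_pos u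
      have h7 : orderOf u / p < orderOf u := Nat.div_lt_self hpos hp.one_lt
      have h8 : 0 < orderOf (u ^ p) := orderOf_pos _
      exact (Nat.le_of_dvd h8 h4).trans_lt (h6 ▸ h7)
  · intro i hi
    obtain ⟨P, φ, hφ, hP, hx⟩ := D.mem_of_fix i
    have hPS : P = S := by
      apply le_antisymm (F.le_of_mem hφ).1
      intro x hxS
      exact (hP ⟨x, hxS⟩).1 (hi _)
    subst hPS
    have h2 := hx u u.2
    have h3 := H88.Focal.mem_foc (hNS φ hφ) u
    show χ (D.c u i) = χ u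
    have h4 : χ (u⁻¹ * D.c u i) = 1 := by
      apply hNfoc
      have h5 : ((u⁻¹ * D.c u i : P) : Ω) = (u : Ω)⁻¹ * φ u := by
        rw [Subgroup.coe_mul, Subgroup.coe_inv, ← h2]
      rw [h5]
      exact h3
    rw [map_mul, map_inv, inv_mul_eq_one] at h4
    exact h4.symm



end

/-- The subgroup generated by the cubes and the commutators of `H`. -/
def KH {G : Type*} [Group G] (H : Subgroup G) : Subgroup G :=
  Subgroup.closure {y | (∃ h ∈ H, y = h ^ 3) ∨ ∃ h ∈ H, ∃ k ∈ H, y = h * k * h⁻¹ * k⁻¹}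

theorem raw3_of {G : Type*} [Group G] {A : Type*} [CommGroup A] (hA : ∀ a : A, a ^ 3 = 1)
    (h : ∀ H : Subgroup G, H.Normal → H.index = 3 → ∀ g : G, g ∉ H → ∀ u ∈ H,
      ((u⁻¹ * (g⁻¹ * u * g))⁻¹ * (g⁻¹ * (u⁻¹ * (g⁻¹ * u * g)) * g)) ∈ KH H) : Raw 3 G A := by
  intro H hHn hHi μ hμ g hg u hu
  have hc : ∀ s : G, ∀ x ∈ H, s⁻¹ * x * s ∈ H := fun s x hx => by
    have := hHn.conj_mem x hx s⁻¹
    rwa [inv_inv] at this
  have hμ1 : μ 1 = 1 := by
    have h1 := hμ 1 H.one_mem 1 H.one_mem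
    rw [one_mul] at h1
    exact left_eq_mul.1 h1
  have hμinv : ∀ x ∈ H, μ x⁻¹ = (μ x)⁻¹ := by
    intro x hx
    have h1 := hμ x⁻¹ (H.inv_mem hx) x hx
    rw [inv_mul_cancel, hμ1] at h1
    exact eq_inv_of_mul_eq_one_left h1.symm
  have hK : ∀ y ∈ KH H, y ∈ H ∧ μ y = 1 := by
    intro y hy
    refine Subgroup.closure_induction (p := fun y _ => y ∈ H ∧ μ y = 1) ?_ ?_ ?_ ?_ hy
    · rintro y (⟨h, hh, rfl⟩ | ⟨h, hh, k, hk, rfl⟩)
      · refine ⟨H.pow_mem hh 3, ?_⟩
        rw [pow_three', hμ _ (H.mul_mem hh hh) _ hh, hμ _ hh _ hh, ← pow_three', hA]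
      · refine ⟨H.mul_mem (H.mul_mem (H.mul_mem hh hk) (H.inv_mem hh)) (H.inv_mem hk), ?_⟩
        rw [hμ _ (H.mul_mem (H.mul_mem hh hk) (H.inv_mem hh)) _ (H.inv_mem hk),
          hμ _ (H.mul_mem hh hk) _ (H.inv_mem hh), hμ _ hh _ hk, hμinv _ hh, hμinv _ hk, mul_comm (μ h)]
        group
    · exact ⟨H.one_mem, hμ1⟩
    · rintro x y _ _ ⟨hx, hx'⟩ ⟨hy, hy'⟩
      exact ⟨H.mul_mem hx hy, by rw [hμ _ hx _ hy, hx', hy', one_mul]⟩
    · rintro x _ ⟨hx, hx'⟩
      exact ⟨H.inv_mem hx, by rw [hμinv _ hx, hx', inv_one]⟩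
  set c1 := u⁻¹ * (g⁻¹ * u * g) with hc1
  set c2 := c1⁻¹ * (g⁻¹ * c1 * g) with hc2
  have hc1H : c1 ∈ H := H.mul_mem (H.inv_mem hu) (hc g u hu)
  have hc2H : c2 ∈ H := H.mul_mem (H.inv_mem hc1H) (hc g c1 hc1H)
  obtain ⟨-, hc2μ⟩ := hK c2 (h H hHn hHi g hg u hu)
  have e1 : (g ^ 1)⁻¹ * u * g ^ 1 = u * c1 := by rw [hc1]; group
  have a1 : g⁻¹ * u * g = u * c1 := by rw [hc1]; group
  have a2 : g⁻¹ * c1 * g = c1 * c2 := by rw [hc2]; group
  have e2 : (g ^ 2)⁻¹ * u * g ^ 2 = u * c1 * (c1 * c2) := by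
    calc (g ^ 2)⁻¹ * u * g ^ 2 = g⁻¹ * (g⁻¹ * u * g) * g := by rw [pow_two]; group
      _ = g⁻¹ * (u * c1) * g := by rw [a1]
      _ = (g⁻¹ * u * g) * (g⁻¹ * c1 * g) := by group
      _ = u * c1 * (c1 * c2) := by rw [a1, a2]
  rw [Finset.prod_range_succ, Finset.prod_range_succ, Finset.prod_range_succ, Finset.prod_range_zero, e1, e2,
    hμ _ (H.mul_mem hu hc1H) _ (H.mul_mem hc1H hc2H), hμ _ hu _ hc1H, hμ _ hc1H _ hc2H, hc2μ, mul_one, one_mul]
  have e0 : (g ^ 0)⁻¹ * u * g ^ 0 = u := by rw [pow_zero]; group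
  rw [e0]
  have h3 := hA (μ u)
  have h4 := hA (μ c1)
  calc μ u * (μ u * μ c1) * (μ u * μ c1 * μ c1) = μ u ^ 3 * μ c1 ^ 3 := by
        rw [pow_three, pow_three]
        simp only [mul_comm, mul_left_comm, mul_assoc]
    _ = 1 := by rw [h3, h4, one_mul]

end H88.P5Y
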