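import Cfsg.Agent.Lib.H88.FocTr
import Cfsg.Agent.Lib.H87.Basic

/-! Thompson transfer in a saturated fusion system. -/

set_option autoImplicit false
open Cfsg Cfsg.FusionSystem
open H88.TransferDatum H88.FocTr H87.Base H87.Basic

namespace H88.ThompTr

universe u

variable {Ω : Type u} [Group Ω] {S : Subgroup Ω} {F : FusionSystem S} {I : Type u} [MulAction S I]

/-- the order of the centralizer -/
noncomputable def k (v : S) : ℕ := Nat.card (Subgroup.centralizer ({v} : Set S))

theorem k_conj (g v : S) : k (g * v * g⁻¹) = k v := by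
  refine Nat.card_congr
    { toFun := fun x => ⟨g⁻¹ * x * g, ?_⟩
      invFun := fun x => ⟨g * x * g⁻¹, ?_⟩
      left_inv := fun x => Subtype.ext ?_
      right_inv := fun x => Subtype.ext ?_ }
  · have h1 := Subgroup.mem_centralizer_singleton_iff.1 x.2
    rw [Subgroup.mem_centralizer_singleton_iff]
    calc g⁻¹ * (x : S) * g * v = g⁻¹ * ((x : S) * (g * v * g⁻¹)) * g := by group
      _ = g⁻¹ * (g * v * g⁻¹ * (x : S)) * g := by rw [h1]
      _ = v * (g⁻¹ * (x : S) * g) := by group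
  · have h1 := Subgroup.mem_centralizer_singleton_iff.1 x.2
    rw [Subgroup.mem_centralizer_singleton_iff]
    calc g * (x : S) * g⁻¹ * (g * v * g⁻¹) = g * ((x : S) * v) * g⁻¹ := by group
      _ = g * (v * (x : S)) * g⁻¹ := by rw [h1]
      _ = g * v * g⁻¹ * (g * (x : S) * g⁻¹) := by group
  · show g * (g⁻¹ * (x : S) * g) * g⁻¹ = x
    group
  · show g⁻¹ * (g * (x : S) * g⁻¹) * g = x
    group

theorem card_normalizerIn {v : S} (hv : orderOf (v : Ω) = 2) :
    Nat.card (normalizerIn S (Subgroup.zpowers (v : Ω))) = k v := by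
  have hmem : ∀ x : Ω, x ∈ Subgroup.zpowers (v : Ω) → x = 1 ∨ x = v := by
    intro x hx
    obtain ⟨n, rfl⟩ := Subgroup.mem_zpowers_iff.1 hx
    rcases Int.even_or_odd n with ⟨m, rfl⟩ | ⟨m, rfl⟩
    · left
      rw [← two_mul, zpow_mul, zpow_ofNat, ← hv, pow_orderOf_eq_one, one_zpow]
    · right
      rw [zpow_add, zpow_mul, zpow_ofNat, ← hv, pow_orderOf_eq_one, one_zpow, one_mul, zpow_one]
  have hv1 : (v : Ω) ≠ 1 := by
    intro h
    rw [h, orderOf_one] at hv
    omega
  refine Nat.card_congr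
    { toFun := fun x => ⟨⟨x, x.2.1⟩, ?_⟩
      invFun := fun x => ⟨(x : S), (x : S).2, ?_⟩
      left_inv := fun x => rfl
      right_inv := fun x => rfl }
  · rw [Subgroup.mem_centralizer_singleton_iff]
    apply Subtype.ext
    show (x : Ω) * v = v * x
    have h1 := (Subgroup.mem_normalizer_iff.1 x.2.2 v).1 (Subgroup.mem_zpowers _)
    rcases hmem _ h1 with h2 | h2
    · exfalso
      apply hv1
      have h3 : (v : Ω) = (x : Ω)⁻¹ * (x * v * (x : Ω)⁻¹) * x := by group
      rw [h3, h2]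
      group
    · exact mul_inv_eq_iff_eq_mul.1 h2
  · have h1 := congrArg (fun z : S => (z : Ω)) (Subgroup.mem_centralizer_singleton_iff.1 x.2)
    have h2 : ((x : S) : Ω) * v = v * (x : S) := h1
    show ((x : S) : Ω) ∈ Subgroup.normalizer (Subgroup.zpowers (v : Ω) : Set Ω)
    apply (Subgroup.centralizer_le_normalizer (Subgroup.zpowers (v : Ω) : Set Ω))
    rw [Subgroup.mem_centralizer_iff]
    intro z hz
    obtain ⟨n, rfl⟩ := Subgroup.mem_zpowers_iff.1 hz
    exact ((show Commute (v : Ω) (x : S) from h2.symm).zpow_left n)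

variable {p : ℕ} (D : Datum F p I)

theorem c_conj {s a : S} (hsa : s * a = a * s) {j : I} (hj : s • j = j) :
    D.c s (a • j) = D.c a j * D.c s j * (D.c a j)⁻¹ := by
  have h1 := D.cocycle s a j
  have h2 := D.cocycle a s j
  rw [hj] at h2
  rw [hsa, h2] at h1
  rw [h1, mul_inv_cancel_right]

/-- The number of fixed points of `s` with a given non-extremal type is divisible by `p`. -/
theorem dvd_card [Fact p.Prime] (hS : IsPGroup p S) [Finite S] (s : S) (R : S → Prop) (hR : ∀ g v, R v → R (g * v * g⁻¹))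
    (hk : ∀ v, R v → k v < k s) : p ∣ Nat.card {j : I // s • j = j ∧ R (D.c s j)} := by
  have hfinI : Finite I := D.finite
  let C := Subgroup.centralizer ({s} : Set S)
  let act : MulAction C {j : I // s • j = j ∧ R (D.c s j)} :=
    { smul := fun a j => ⟨(a : S) • (j : I), by
        have h1 := Subgroup.mem_centralizer_singleton_iff.1 a.2
        constructor
        · rw [smul_smul, ← h1, mul_smul, j.2.1]
        · rw [c_conj D h1.symm j.2.1]
          exact hR _ _ j.2.2⟩
      one_smul := fun j => Subtype.ext (one_smul S (j : I))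
      mul_smul := fun a b j => Subtype.ext (mul_smul (a : S) (b : S) (j : I)) }
  have hC : IsPGroup p C := hS.to_subgroup C
  have h1 := hC.card_modEq_card_fixedPoints {j : I // s • j = j ∧ R (D.c s j)}
  have h2 : Nat.card (MulAction.fixedPoints C {j : I // s • j = j ∧ R (D.c s j)}) = 0 := by
    rw [Nat.card_eq_zero]
    left
    refine ⟨fun j => ?_⟩
    obtain ⟨⟨j, hj1, hj2⟩, hjf⟩ := j
    have hfix : ∀ a : C, (a : S) • j = j := fun a => congrArg Subtype.val (hjf a)
    obtain ⟨P, φ, hφ, hP, hφc⟩ := D.mem_of_fix j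
    have h3 := hk _ hj2
    refine absurd h3 (not_lt.2 ?_)
    unfold k
    refine Nat.card_le_card_of_injective (fun a : C => (⟨D.c a j, ?_⟩ :
      Subgroup.centralizer ({D.c s j} : Set S))) ?_
    · have h4 := Subgroup.mem_centralizer_singleton_iff.1 a.2
      have h5 := c_conj D h4.symm hj1
      rw [hfix a] at h5
      rw [Subgroup.mem_centralizer_singleton_iff]
      exact (eq_mul_inv_iff_mul_eq.1 h5).symm
    · intro a b hab
      have h4 : D.c a j = D.c b j := congrArg Subtype.val hab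
      have ha : ((a : S) : Ω) ∈ P := (hP a).1 (hfix a)
      have hb : ((b : S) : Ω) ∈ P := (hP b).1 (hfix b)
      have h5 : φ ⟨((a : S) : Ω), ha⟩ = φ ⟨((b : S) : Ω), hb⟩ := by
        rw [hφc a ha, hφc b hb, h4]
      have h6 := congrArg Subtype.val (F.injective_of_mem hφ h5)
      exact Subtype.ext (Subtype.ext h6)
  rw [h2] at h1
  exact (Nat.modEq_zero_iff_dvd.1 h1)

variable [Finite S]

theorem fn_of_k {s v : S} (hs : orderOf (s : Ω) = 2) (hv : orderOf (v : Ω) = 2)
    (hsn : F.IsFullyNormalized (Subgroup.zpowers (s : Ω)))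
    (hsv : F.IsConj (Subgroup.zpowers (s : Ω)) (Subgroup.zpowers (v : Ω))) (h : k s ≤ k v) :
    F.IsFullyNormalized (Subgroup.zpowers (v : Ω)) := by
  refine ⟨by rw [Subgroup.zpowers_le]; exact v.2, fun Q hQ => ?_⟩
  rw [card_normalizerIn hv]
  refine (hsn.2 Q (isConj_trans hsv hQ)).trans ?_
  rwa [card_normalizerIn hs]

/-- the character of `S` with kernel `T` -/
theorem exists_char {T : Subgroup Ω} (hT : T.relIndex S = 2) :
    ∃ χ : S →* ℤˣ, ∀ v : S, ((v : Ω) ∈ T → χ v = 1) ∧ ((v : Ω) ∉ T → χ v = -1) := by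
  classical
  have hi : (T.subgroupOf S).index = 2 := hT
  refine ⟨{ toFun := fun v => if (v : Ω) ∈ T then 1 else -1
            map_one' := if_pos T.one_mem
            map_mul' := fun a b => ?_ }, fun v => ⟨fun h => if_pos h, fun h => if_neg h⟩⟩
  have h1 : ((a * b : S) : Ω) ∈ T ↔ ((a : Ω) ∈ T ↔ (b : Ω) ∈ T) :=
    Subgroup.mul_mem_iff_of_index_two hi (a := a) (b := b)
  by_cases ha : (a : Ω) ∈ T <;> by_cases hb : (b : Ω) ∈ T
  · rw [if_pos ha, if_pos hb, if_pos (h1.2 (by simp [ha, hb])), one_mul]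
  · rw [if_pos ha, if_neg hb, if_neg (fun h => hb ((h1.1 h).1 ha)), one_mul]
  · rw [if_neg ha, if_pos hb, if_neg (fun h => ha ((h1.1 h).2 hb)), mul_one]
  · rw [if_neg ha, if_neg hb, if_pos (h1.2 (by simp [ha, hb]))]
    simp

theorem tr_ne (hS : IsPGroup 2 S) (D : Datum F 2 I) [Fintype I] (χ : S →* ℤˣ) {s : S} (hs : orderOf (s : Ω) = 2)
    (h : ∀ j : I, s • j = j → ¬ k (D.c s j) < k s → χ (D.c s j) = -1) : tr D χ s ≠ 1 := by
  classical
  have hs2 : s * s = 1 := by
    apply Subtype.ext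
    show (s : Ω) * s = 1
    rw [← pow_two, ← hs, pow_orderOf_eq_one]
  let g : I → ℤˣ := fun j => -χ (D.c s j)
  let R : S → Prop := fun v => k v < k s ∧ χ v = 1
  have hR : ∀ a v, R v → R (a * v * a⁻¹) := by
    intro a v hv
    refine ⟨by rw [k_conj]; exact hv.1, ?_⟩
    rw [map_mul, map_mul, map_inv, hv.2, mul_one, mul_inv_cancel]
  have hcard := dvd_card D hS s R hR fun v hv => hv.1
  have hss : ∀ j : I, s • s • j = j := fun j => by rw [smul_smul, hs2, one_smul]
  have h1 : ∏ j, g j = 1 := by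
    rw [← Finset.prod_filter_mul_prod_filter_not Finset.univ (fun j : I => s • j = j ∧ R (D.c s j)) g]
    have h2 : ∏ j ∈ Finset.univ.filter (fun j : I => s • j = j ∧ R (D.c s j)), g j = 1 := by
      rw [Finset.prod_congr rfl (g := fun _ => (-1 : ℤˣ)) fun j hj => by
        show -χ (D.c s j) = -1
        rw [(Finset.mem_filter.1 hj).2.2.2]]
      rw [Finset.prod_const]
      have h3 : (Finset.univ.filter (fun j : I => s • j = j ∧ R (D.c s j))).card =
          Nat.card {j : I // s • j = j ∧ R (D.c s j)} := by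
        rw [Nat.card_eq_fintype_card, Fintype.card_subtype]
      rw [h3]
      obtain ⟨m, hm⟩ := hcard
      rw [hm, pow_mul]
      simp
    have h3 : ∏ j ∈ Finset.univ.filter (fun j : I => ¬ (s • j = j ∧ R (D.c s j))), g j = 1 := by
      refine Finset.prod_involution (fun j _ => s • j) (fun j _ => ?_) (fun j hj hg hfix => ?_) (fun j hj => ?_)
        (fun j _ => hss j)
      · show -χ (D.c s j) * -χ (D.c s (s • j)) = 1
        rw [neg_mul_neg, mul_comm, ← map_mul, ← D.cocycle, hs2, c_one, map_one]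
      · apply hg
        show -χ (D.c s j) = 1
        have h4 := (Finset.mem_filter.1 hj).2
        have h5 : χ (D.c s j) = -1 := by
          by_cases h6 : k (D.c s j) < k s
          · rcases Int.units_eq_one_or (χ (D.c s j)) with h7 | h7
            · exact absurd ⟨hfix, h6, h7⟩ h4
            · exact h7
          · exact h j hfix h6
        rw [h5, neg_neg]
      · have h4 := (Finset.mem_filter.1 hj).2
        rw [Finset.mem_filter]
        refine ⟨Finset.mem_univ _, fun h5 => h4 ?_⟩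
        have h6 : s • j = j := by rw [← h5.1, hss]
        rw [h6] at h5
        exact h5
    rw [h2, h3, one_mul]
  have h2 : ∏ j, g j = (-1) ^ Fintype.card I * tr D χ s := by
    rw [tr_apply]
    have h3 : ∀ j, g j = (-1 : ℤˣ) * χ (D.c s j) := fun j => (neg_one_mul _).symm
    rw [Finset.prod_congr rfl fun j _ => h3 j, Finset.prod_mul_distrib, Finset.prod_const, Finset.card_univ]
  have hodd : Odd (Fintype.card I) := by
    rw [← Nat.not_even_iff_odd, even_iff_two_dvd, ← Nat.card_eq_fintype_card]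
    exact D.coprime
  rw [h1, hodd.neg_one_pow] at h2
  intro h3
  rw [h3] at h2
  exact absurd h2 (by decide)

/-- Thompson transfer. -/
theorem main (hS : IsPGroup 2 S) (hF : F.IsSaturated 2) {T : Subgroup Ω} (hT : T.relIndex S = 2) {i : Ω}
    (hi : i ∈ S) (hi2 : orderOf i = 2)
    (h : ∀ j : Ω, F.IsConjElt i j → F.IsFullyNormalized (Subgroup.zpowers j) → j ∉ T) :
    i ∉ F.focalSubgroup := by
  intro hfoc
  have hiS : Subgroup.zpowers i ≤ S := by rwa [Subgroup.zpowers_le]
  obtain ⟨X, hX, hXn⟩ := H86.FusSat.exists_fullyNormalized F hiS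
  obtain ⟨f, hf⟩ := isConj_iff.1 hX
  have hii := Subgroup.mem_zpowers i
  -- images generate
  have himg : ∀ {v : Ω} {P : Subgroup Ω} {g : Ω → Ω}, v ∈ P → IsMap F P g → orderOf v = 2 →
      orderOf (g v) = 2 ∧ IsIso F (Subgroup.zpowers v) (Subgroup.zpowers (g v)) g := by
    intro v P g hv hg hv2
    have hvP : Subgroup.zpowers v ≤ P := by rwa [Subgroup.zpowers_le]
    have hg' := hg.mono hvP
    obtain ⟨φ, hφ, e⟩ := hg'
    have h1 : orderOf (g v) = 2 := by
      rw [← e ⟨v, Subgroup.mem_zpowers v⟩, orderOf_injective φ (F.injective_of_mem hφ), ← hv2]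
      exact Subgroup.orderOf_mk _ _
    refine ⟨h1, (hg.mono hvP).isIso_of ?_ ?_⟩
    · intro x hx
      obtain ⟨n, rfl⟩ := Subgroup.mem_zpowers_iff.1 hx
      rw [← e ⟨v ^ n, hx⟩]
      have h2 : (⟨v ^ n, hx⟩ : Subgroup.zpowers v) = ⟨v, Subgroup.mem_zpowers v⟩ ^ n := Subtype.ext rfl
      rw [h2, map_zpow, e]
      exact Subgroup.zpow_mem _ (Subgroup.mem_zpowers _) n
    · intro y hy
      obtain ⟨n, rfl⟩ := Subgroup.mem_zpowers_iff.1 hy
      refine ⟨v ^ n, Subgroup.zpow_mem _ (Subgroup.mem_zpowers _) n, ?_⟩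
      have h2 : (⟨v ^ n, Subgroup.zpow_mem _ (Subgroup.mem_zpowers _) n⟩ : Subgroup.zpowers v) =
        ⟨v, Subgroup.mem_zpowers v⟩ ^ n := Subtype.ext rfl
      have h3 := e ⟨v ^ n, Subgroup.zpow_mem _ (Subgroup.mem_zpowers _) n⟩
      rw [h2, map_zpow, e] at h3
      exact h3.symm
  obtain ⟨hs2, hsi⟩ := himg hii hf.isMap hi2
  have hXs : X = Subgroup.zpowers (f i) := by rw [← hf.eq_img, hsi.eq_img]
  subst hXs
  have hsS : f i ∈ S := hf.isMap.mem hii
  set s : S := ⟨f i, hsS⟩ with hsdef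
  have hsfoc : (s : Ω) ∈ F.focalSubgroup := by
    obtain ⟨φ, hφ, e⟩ := hf.isMap
    have h1 := H88.Focal.mem_foc hφ ⟨i, hii⟩
    rw [e] at h1
    have h2 := Subgroup.mul_mem _ hfoc h1
    rwa [mul_inv_cancel_left] at h2
  obtain ⟨I, _, ⟨D⟩⟩ := exists_datum hS hF
  have hfinI : Finite I := D.finite
  have : Fintype I := Fintype.ofFinite I
  obtain ⟨χ, hχ⟩ := exists_char hT
  refine tr_ne hS D χ hs2 (fun j hj hk => (hχ _).2 ?_) (tr_foc D χ hsfoc)
  obtain ⟨P, φ, hφ, hP, hφc⟩ := D.mem_of_fix j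
  have hsP : (s : Ω) ∈ P := (hP s).1 hj
  have hφm : IsMap F P (extFun φ) := isMap_of_mem hφ
  have hφs : extFun φ (s : Ω) = D.c s j := by
    rw [extFun_apply φ hsP]
    exact hφc s hsP
  obtain ⟨hv2, hvi⟩ := himg hsP hφm hs2
  rw [hφs] at hv2 hvi
  have hfn := fn_of_k hs2 hv2 hXn hvi.isConj (not_lt.1 hk)
  refine h _ ?_ hfn
  have hcomp := hf.comp hvi
  obtain ⟨ψ, hψ, e⟩ := hcomp.isMap
  exact ⟨ψ, hψ, (e ⟨i, hii⟩).trans hφs⟩

end H88.ThompTr
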