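import Cfsg.Agent.Lib.H88.Yoshida
import Cfsg.Agent.Lib.H88.FocTr
import Cfsg.Agent.Lib.H88.Induct
import Cfsg.Agent.S5224

/-! Yoshida's theorem for fusion systems (S5225). -/

set_option autoImplicit false
open Cfsg Cfsg.FusionSystem
open H86.FusBasic H86.FusSat H88.TransferDatum H88.FocTr H88.Yoshida

namespace H88.YoshF

universe v

theorem exists_char {G : Type v} [Group G] (p : ℕ) (T : Subgroup G) [T.Normal] (hc : commutator G ≤ T)
    (hp : ∀ x : G, x ^ p ∈ T) : ∃ (A : Type v) (_ : CommGroup A) (χ : G →* A), (∀ a : A, a ^ p = 1) ∧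
      ∀ x, χ x = 1 ↔ x ∈ T := by
  let hcg : CommGroup (G ⧸ T) := { QuotientGroup.Quotient.group T with
    mul_comm := by
      intro a b
      obtain ⟨x, rfl⟩ := QuotientGroup.mk_surjective a
      obtain ⟨y, rfl⟩ := QuotientGroup.mk_surjective b
      refine QuotientGroup.eq.2 (hc ?_)
      have h1 : (x * y)⁻¹ * (y * x) = y⁻¹ * x⁻¹ * (y⁻¹)⁻¹ * (x⁻¹)⁻¹ := by group
      rw [h1, ← commutatorElement_def]
      exact Subgroup.commutator_mem_commutator (Subgroup.mem_top _) (Subgroup.mem_top _) }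
  refine ⟨G ⧸ T, hcg, QuotientGroup.mk' T, ?_, fun x => QuotientGroup.eq_one_iff x⟩
  intro a
  obtain ⟨x, rfl⟩ := QuotientGroup.mk_surjective a
  exact (QuotientGroup.eq_one_iff _).2 (hp x)

universe u

variable {Ω : Type u} [Group Ω] {S : Subgroup Ω} {p : ℕ}

theorem main [Finite S] [Fact p.Prime] (hS : IsPGroup p S) {F N : FusionSystem S} (hF : F.IsSaturated p)
    (hN : N.IsSaturated p) (hNF : N.IsSubsystemOf F) (hNS : ∀ φ ∈ F.Hom S, φ ∈ N.Hom S)
    (hne : N.focalSubgroup ≠ F.focalSubgroup) : HasWr p S := by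
  classical
  by_contra hW
  have hp : p.Prime := Fact.out
  let T : Subgroup S := frattini ↥S ⊔ N.focalSubgroup.subgroupOf S
  have hcT : commutator S ≤ T := (H3.PBasic.commutator_le_frattini hS).trans le_sup_left
  have hTn : T.Normal := by
    refine ⟨fun x hx g => ?_⟩
    have h1 : g * x * g⁻¹ = (g * x * g⁻¹ * x⁻¹) * x := by group
    rw [h1, ← commutatorElement_def]
    exact T.mul_mem (hcT (Subgroup.commutator_mem_commutator (Subgroup.mem_top _) (Subgroup.mem_top _))) hx
  obtain ⟨A, _, χ, hA, hχ⟩ := exists_char p T hcT (fun x => Subgroup.mem_sup_left (H3.PBasic.pow_mem_frattini hS x))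
  have hNfoc : ∀ x : S, (x : Ω) ∈ N.focalSubgroup → χ x = 1 := fun x hx =>
    (hχ x).2 (Subgroup.mem_sup_right (Subgroup.mem_subgroupOf.2 hx))
  -- a focal element outside
  have hex : ∃ n : ℕ, ∃ x : S, (x : Ω) ∈ F.focalSubgroup ∧ χ x ≠ 1 ∧ orderOf x = n := by
    by_contra hcon
    push Not at hcon
    apply hne
    symm
    apply (Cfsg.Agent.S5224.result p hS F hF N hN hNF).1.1
    apply le_antisymm
    · refine sup_le le_sup_left fun x hx => ?_
      have hxS := H88.Focal.foc_le F hx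
      have h1 : χ ⟨x, hxS⟩ = 1 := by
        by_contra h2
        exact hcon _ ⟨x, hxS⟩ hx h2 rfl
      have h2 := (hχ _).1 h1
      have h3 : T.map S.subtype ≤ (frattini ↥S).map S.subtype ⊔ N.focalSubgroup := by
        rw [Subgroup.map_sup]
        exact sup_le_sup le_rfl (by
          rintro _ ⟨y, hy, rfl⟩
          exact hy)
      exact h3 ⟨_, h2, rfl⟩
    · refine sup_le_sup le_rfl ?_
      unfold FusionSystem.focalSubgroup
      rw [Subgroup.closure_le]
      rintro _ ⟨P, φ, y, hφ, rfl⟩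
      exact H88.Focal.mem_foc (hNF P hφ) y
  obtain ⟨u, hu, hu1, hun⟩ := Nat.find_spec hex
  have hmin : ∀ x : S, (x : Ω) ∈ F.focalSubgroup → orderOf x < orderOf u → χ x = 1 := by
    intro x hx hlt
    by_contra hcon
    rw [hun] at hlt
    exact Nat.find_min hex hlt ⟨x, hx, hcon, rfl⟩
  obtain ⟨I, _, ⟨D⟩⟩ := exists_datum hS hF
  have : Finite I := D.finite
  have : Fintype I := Fintype.ofFinite I
  have h1 := tr_foc D χ hu
  rw [tr_apply, prod_eq hS hA (fun a i => χ (D.c a i)) (fun a b i => by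
      show χ (D.c (a * b) i) = _
      rw [D.cocycle, map_mul]) hW u ?_ (a := χ u) ?_] at h1
  · have h2 : orderOf (χ u) ∣ p := orderOf_dvd_of_pow_eq_one (hA _)
    have h3 : orderOf (χ u) ∣ Nat.card I := orderOf_dvd_of_pow_eq_one h1
    have h4 : Nat.Coprime p (Nat.card I) := (hp.coprime_iff_not_dvd).2 D.coprime
    exact hu1 (orderOf_eq_one_iff.1 (Nat.Coprime.eq_one_of_dvd (h4.coprime_dvd_left h2) h3))
  · intro z hz i hzi
    obtain ⟨P, φ, hφ, hP, hx⟩ := D.mem_of_fix i
    have hzP := (hP z).1 hzi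
    have h2 := hx z hzP
    have hzu : z ∈ Subgroup.zpowers u := by
      have h3 : Subgroup.zpowers (u ^ p) ≤ Subgroup.zpowers u :=
        Subgroup.zpowers_le.2 (Subgroup.pow_mem _ (Subgroup.mem_zpowers u) p)
      exact h3 hz
    have hzF : (z : Ω) ∈ F.focalSubgroup := by
      have h3 : Subgroup.zpowers u ≤ F.focalSubgroup.subgroupOf S := Subgroup.zpowers_le.2 (Subgroup.mem_subgroupOf.2 hu)
      exact Subgroup.mem_subgroupOf.1 (h3 hzu)
    show χ (D.c z i) = 1
    apply hmin
    · rw [← h2]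
      have h3 := H88.Focal.mem_foc hφ ⟨z, hzP⟩
      have h4 := F.focalSubgroup.mul_mem hzF h3
      have h5 : (z : Ω) * ((⟨z, hzP⟩ : P) : Ω)⁻¹ * φ ⟨z, hzP⟩ = φ ⟨z, hzP⟩ := by group
      rw [← mul_assoc] at h4
      rw [← h5]
      exact h4
    · have h3 : orderOf (D.c z i) = orderOf z := by
        rw [← Subgroup.orderOf_coe, ← h2, orderOf_injective φ (F.injective_of_mem hφ), ← Subgroup.orderOf_coe,
          ← Subgroup.orderOf_coe z]
      rw [h3]
      have hu0 : u ≠ 1 := by
        rintro rfl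
        exact hu1 (map_one _)
      have h5 : p ∣ orderOf u := by
        obtain ⟨k, hk⟩ := (IsPGroup.iff_orderOf.1 hS) u
        rw [hk]
        apply dvd_pow_self
        rintro rfl
        rw [pow_zero] at hk
        exact hu0 (orderOf_eq_one_iff.1 hk)
      have h4 : orderOf z ∣ orderOf (u ^ p) := orderOf_dvd_of_mem_zpowers hz
      have h6 : orderOf (u ^ p) = orderOf u / p := orderOf_pow_of_dvd hp.ne_zero h5
      have hpos : 0 < orderOf u := orderOf_pos u
      have h7 : orderOf u / p < orderOf u := Nat.div_lt_self hpos hp.one_lt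
      have h8 : 0 < orderOf (u ^ p) := orderOf_pos _
      exact (Nat.le_of_dvd h8 h4).trans_lt (h6 ▸ h7)
  · intro i hi
    obtain ⟨P, φ, hφ, hP, hx⟩ := D.mem_of_fix i
    have hPS : P = S := by
      apply le_antisymm (F.le_of_mem hφ).1
      intro x hxS
      exact (hP ⟨x, hxS⟩).1 (hi _)
    subst hPS
    have h2 := hx u u.2
    have h3 := H88.Focal.mem_foc (hNS φ hφ) u
    show χ (D.c u i) = χ u
    have h4 : χ (u⁻¹ * D.c u i) = 1 := by
      apply hNfoc
      have h5 : ((u⁻¹ * D.c u i : P) : Ω) = (u : Ω)⁻¹ * φ u := by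
        rw [Subgroup.coe_mul, Subgroup.coe_inv, ← h2]
      rw [h5]
      exact h3
    rw [map_mul, map_inv, inv_mul_eq_one] at h4
    exact h4.symm

end H88.YoshF
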